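import Cfsg.Agent.H189.AltTwo
import Mathlib
import Cfsg.Agent.OddOrderLocal.HallPi
import Cfsg.Agent.H891.MinDegTwo
import Cfsg.Agent.H324.Hall.FamOrth
import Cfsg.Agent.H497.Basic
import Cfsg.Agent.H121.Chr
import Cfsg.Agent.TitsThree.KExcBase
import Cfsg.Agent.S2121
import Cfsg.Agent.S2122
import Cfsg.Agent.S2123
import Cfsg.Agent.S2124
import Cfsg.Agent.S2125
import Cfsg.Agent.ChevalleyStructure.TwistedE6Rel
import Cfsg.Agent.H202.Descent
import Cfsg.Agent.S1071
import Cfsg.Agent.S2129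
import Cfsg.Agent.S2130
import Cfsg.Agent.S2342
import Cfsg.Agent.H567.DichLie
import Cfsg.Agent.H331.SCExc
import Cfsg.Agent.H964.PrimeGraph
import Cfsg.Agent.S0222
import Cfsg.Agent.S1169
import Cfsg.Agent.PreUniq.Cases
import Cfsg.Agent.ChevFast.E6
import Cfsg.Agent.ChevFast.E7
import Cfsg.Agent.ChevFast.E8
import Cfsg.Agent.ChevFast.F4
import Cfsg.Agent.Lib.ListFast
import Cfsg.Prelude.Def_Characters
import Cfsg.Agent.Characters.Core
import Cfsg.Agent.Characters.Values
import Cfsg.Agent.H715.Coprime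
import Cfsg.Agent.Characters.Clifford
import Cfsg.Agent.Characters.Linear
import Cfsg.Agent.S0135
import Cfsg.Agent.H386.Factor
import Cfsg.Agent.Characters.Brauer
import Cfsg.Agent.H120.Wt
import Cfsg.Agent.H324.Hall.Spor
import Cfsg.Agent.FastGrp
import Cfsg.Agent.Prune
set_option linter.all false

section
prune_inst 0x7fbdacf93ba869dedffb7e3faed4dffc31828fffa6dff94bbfe021afabdf230209e5638d0de050fe1e83401410a87803f97eceffe86bdc7ffffd5ff41ffbee0fa5e6b50111d78834073c2ff703f0778e6f3fffffffffffffffffffffffffffbeffbdfbfeffff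

-- part: H324/Hall/Alt
section
prune_inst 0x25300804484012004004000280000000410004000000040004810000000880000980000000800001480800010005002000100030000000000000040000050401108002000050018000008e000000010000000000000000000000000000000004204010000
set_option linter.all false
open scoped Cfsg.Agent.FastGrp

-- part: H324/Hall/AltSeven
section
/-!
# A nontrivial complex representation of `A₇` has degree at least six
-/

set_option autoImplicit false

namespace Cfsg.Agent.H324.Hall.AltSeven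

open Equiv Equiv.Perm Module
open Cfsg.Agent.H189 Cfsg.Agent.H189.Cyc Cfsg.Agent.H189.Wt Cfsg.Agent.H189.NatMod Cfsg.Agent.H189.Emb
  Cfsg.Agent.H189.AltOdd Cfsg.Agent.H189.AltOddDim Cfsg.Agent.H189.Eig Cfsg.Agent.H189.AltTwo

universe u v

variable {k : Type u} {V : Type v} [Field k] [AddCommGroup V] [Module k V]

/-- a subspace containing the three eigenspaces of an element of order three is everything -/
theorem eq_top_of_eig (h3 : (3 : k) ≠ 0) {ω : k} (hω : ω ^ 3 = 1) (hω1 : ω ≠ 1) (t : End k V)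
    (ht : ∀ v, t (t (t v)) = v) (U : Submodule k V) (h0 : t.eigenspace 1 ≤ U) (h1 : t.eigenspace ω ≤ U)
    (h2 : t.eigenspace (ω ^ 2) ≤ U) : U = ⊤ := by
  obtain ⟨q1, q2, q3, q0⟩ := cube_facts hω hω1
  rw [eq_top_iff]
  intro x _
  have P0 : x + t x + t (t x) ∈ t.eigenspace 1 := by
    rw [End.mem_eigenspace_iff, map_add, map_add, ht, one_smul]; abel
  have P1 : x + ω ^ 2 • t x + ω • t (t x) ∈ t.eigenspace ω := by
    rw [End.mem_eigenspace_iff, map_add, map_add, map_smul, map_smul, ht, smul_add, smul_add, smul_smul, smul_smul]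
    have e1 : ω * ω ^ 2 = 1 := by rw [← hω]; ring
    have e2 : ω * ω = ω ^ 2 := (pow_two ω).symm
    rw [e1, e2, one_smul]; abel
  have P2 : x + ω • t x + ω ^ 2 • t (t x) ∈ t.eigenspace (ω ^ 2) := by
    rw [End.mem_eigenspace_iff, map_add, map_add, map_smul, map_smul, ht, smul_add, smul_add, smul_smul, smul_smul]
    have e1 : ω ^ 2 * ω = 1 := by rw [← hω]; ring
    have e2 : ω ^ 2 * ω ^ 2 = ω := by
      have : ω ^ 2 * ω ^ 2 = ω ^ 3 * ω := by ring
      rw [this, hω, one_mul]
    rw [e1, e2, one_smul]; abel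
  have hsum : (3 : k) • x = (x + t x + t (t x)) + (x + ω ^ 2 • t x + ω • t (t x)) +
      (x + ω • t x + ω ^ 2 • t (t x)) := by
    have e3 : (3 : k) • x = x + x + x := by
      have : (3 : k) = 1 + 1 + 1 := by norm_num
      rw [this, add_smul, add_smul, one_smul]
    have e4 : ∀ y : V, y + ω • y + ω ^ 2 • y = 0 := by
      intro y
      have : y + ω • y + ω ^ 2 • y = (1 + ω + ω ^ 2) • y := by rw [add_smul, add_smul, one_smul]
      rw [this, q3, zero_smul]
    have e5 := e4 (t x)
    have e6 := e4 (t (t x))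
    have e7 : (x + t x + t (t x)) + (x + ω ^ 2 • t x + ω • t (t x)) + (x + ω • t x + ω ^ 2 • t (t x)) =
        (x + x + x) + (t x + ω • t x + ω ^ 2 • t x) + (t (t x) + ω • t (t x) + ω ^ 2 • t (t x)) := by abel
    rw [e7, e5, e6, e3, add_zero, add_zero]
  have e6 : (3 : k) • x ∈ U := by
    rw [hsum]
    exact add_mem (add_mem (h0 P0) (h1 P1)) (h2 P2)
  have e7 := U.smul_mem (3 : k)⁻¹ e6
  rwa [smul_smul, inv_mul_cancel₀ h3, one_smul] at e7

/-- `A₄` on a space of dimension at most two: the four-group acts trivially -/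
theorem klein_triv [FiniteDimensional k V] (h2 : (2 : k) ≠ 0) (S : alternatingGroup (Fin 4) →* End k V)
    (U : Submodule k V) (hU : ∀ g, ∀ v ∈ U, S g v ∈ U) (hb : finrank k U < 3) : ∀ v ∈ U, S Z1 v = v := by
  by_contra hcon
  push Not at hcon
  obtain ⟨v, hv, hne⟩ := hcon
  have h1 : subrep S U hU Z1 ≠ 1 := by
    intro h
    apply hne
    have h1 := congrArg (fun f : End k U => ((f ⟨v, hv⟩ : U) : V)) h
    simpa only [_root_.Cfsg.Agent.H189.Wt.coe_subrep, _root_.Module.End.one_apply] using h1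
  have h3 := W1_pos h2 (subrep S U hU) h1
  have h4 := (four_dim h2 (subrep S U hU)).1
  omega

/-- the even permutation with `(0 1 2) ↦ (3 4 5)`, `(3 4 5) ↦ (0 1 2)⁻¹` -/
def g6 : alternatingGroup (Fin 6) :=
  ⟨swap (0 : Fin 6) 3 * swap (3 : Fin 6) 1 * swap (1 : Fin 6) 4 * swap (2 : Fin 6) 5, by rw [mem_alternatingGroup]; decide⟩

theorem fixed_of_dim_le_one [FiniteDimensional k V] {ω : k} (hω : ω ^ 3 = 1) (hω1 : ω ≠ 1)
    (R : alternatingGroup (Fin 6) →* End k V)
    (hb : finrank k ((R (cc 0 1 2 (by decide) (by decide))).eigenspace ω) ≤ 1) :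
    ∀ v ∈ (R (cc 0 1 2 (by decide) (by decide))).eigenspace ω, R (cc 3 4 5 (by decide) (by decide)) v = v := by
  have hR : ∀ x y v, R (x * y) v = R x (R y v) := fun x y v => mul_apply' R x y v
  obtain ⟨q1, q2, q3, q0⟩ := cube_facts hω hω1
  set t : alternatingGroup (Fin 6) := cc 0 1 2 (by decide) (by decide) with ht
  set s : alternatingGroup (Fin 6) := cc 3 4 5 (by decide) (by decide) with hs
  have r1 : t * s = s * t := by decide
  have r2 : g6 * t = s * g6 := by decide
  have r3 : t * g6 * s = g6 := by decide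
  have r4 : s * s * s = 1 := by decide
  have r5 : t * t * t = 1 := by decide
  intro v hv
  by_contra hne
  have hv0 : v ≠ 0 := by
    rintro rfl
    exact hne (map_zero _)
  have htv : R t v = ω • v := End.mem_eigenspace_iff.1 hv
  have hfr : finrank k ((R t).eigenspace ω) = 1 := by
    refine le_antisymm hb ?_
    rw [Nat.one_le_iff_ne_zero, Ne, Submodule.finrank_eq_zero]
    intro h0
    rw [h0] at hv
    exact hv0 ((Submodule.mem_bot k).1 hv)
  -- everything in the eigenspace is a multiple of `v`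
  have hspan : ∀ w, R t w = ω • w → ∃ c : k, c • v = w := by
    intro w hw
    have h1 := (finrank_eq_one_iff_of_nonzero' (⟨v, hv⟩ : (R t).eigenspace ω)
      (fun h => hv0 (congrArg Subtype.val h))).1 hfr ⟨w, End.mem_eigenspace_iff.2 hw⟩
    obtain ⟨c, hc⟩ := h1
    exact ⟨c, congrArg Subtype.val hc⟩
  obtain ⟨lam, hlam⟩ := hspan (R s v) (by rw [← hR, r1, hR, htv, map_smul])
  have hlam : R s v = lam • v := hlam.symm
  have hs3 : (R s) ^ 3 = 1 := by
    rw [← map_pow]
    have : s ^ 3 = 1 := by decide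
    rw [this, map_one]
  have hl3 : lam ^ 3 = 1 := pow_eq_one_of_eig hs3 hv0 hlam
  have hl1 : lam ≠ 1 := by
    rintro rfl
    exact hne (by rw [hlam, one_smul])
  have hw0 : R g6 v ≠ 0 := by
    intro h
    apply hv0
    have : R (g6⁻¹ * g6) v = 0 := by rw [hR, h, map_zero]
    rwa [inv_mul_cancel, map_one, End.one_apply] at this
  have hsw : R s (R g6 v) = ω • R g6 v := by rw [← hR, ← r2, hR, htv, map_smul]
  have htw : lam • R t (R g6 v) = R g6 v := by
    have : R (t * g6 * s) v = R g6 v := by rw [r3]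
    rwa [hR, hR, hlam, map_smul, map_smul] at this
  rcases cube_cases hω hl3 hω1 with h | h | h
  · exact hl1 h
  · -- `lam = ω`
    subst h
    set z : alternatingGroup (Fin 6) := dt 0 1 3 4 (by decide) (by decide) with hz
    have r6 : t * z * t = z := by decide
    have r7 : s * z * s = z := by decide
    have hww : R z (R g6 v) ≠ 0 := by
      intro h
      apply hw0
      have : R (z⁻¹ * z) (R g6 v) = 0 := by rw [hR, h, map_zero]
      rwa [inv_mul_cancel, map_one, End.one_apply] at this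
    have e3 : lam ^ 2 * lam = 1 := by rw [← pow_succ, hω]
    have e3' : lam * lam ^ 2 = 1 := by rw [← pow_succ', hω]
    have h1 : R t (R g6 v) = lam ^ 2 • R g6 v := by
      have h2 : lam ^ 2 • (lam • R t (R g6 v)) = R t (R g6 v) := by rw [smul_smul, e3, one_smul]
      rw [← h2, htw]
    have h2 : R t (R z (R g6 v)) = lam • R z (R g6 v) := by
      have h3 : R (t * z * t) (R g6 v) = R z (R g6 v) := by rw [r6]
      rw [hR, hR, h1, map_smul, map_smul] at h3
      have h4 : lam • (lam ^ 2 • R t (R z (R g6 v))) = R t (R z (R g6 v)) := by rw [smul_smul, e3', one_smul]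
      rw [← h4, h3]
    have h5 : R s (R z (R g6 v)) = lam ^ 2 • R z (R g6 v) := by
      have h3 : R (s * z * s) (R g6 v) = R z (R g6 v) := by rw [r7]
      rw [hR, hR, hsw, map_smul, map_smul] at h3
      have h4 : lam ^ 2 • (lam • R s (R z (R g6 v))) = R s (R z (R g6 v)) := by rw [smul_smul, e3, one_smul]
      rw [← h4, h3]
    obtain ⟨c, hc⟩ := hspan _ h2
    have h6 : R s (R z (R g6 v)) = lam • R z (R g6 v) := by
      rw [← hc, map_smul, hlam, smul_comm]
    rw [h5] at h6
    have h3 : (lam ^ 2 - lam) • R z (R g6 v) = 0 := by rw [sub_smul, h6, sub_self]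
    rcases smul_eq_zero.1 h3 with h4 | h4
    · exact q2 (sub_eq_zero.1 h4)
    · exact hww h4
  · -- `lam = ω ^ 2`
    subst h
    have h1 : R t (R g6 v) = ω • R g6 v := by
      have h2 : ω • (ω ^ 2 • R t (R g6 v)) = R t (R g6 v) := by
        rw [smul_smul, ← pow_succ', hω, one_smul]
      rw [← h2, htw]
    obtain ⟨c, hc⟩ := hspan _ h1
    have h2 : R s (R g6 v) = ω ^ 2 • R g6 v := by
      rw [← hc, map_smul, hlam, smul_comm]
    rw [hsw] at h2
    have h3 : (ω - ω ^ 2) • R g6 v = 0 := by rw [sub_smul, h2, sub_self]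
    rcases smul_eq_zero.1 h3 with h4 | h4
    · exact q2 (sub_eq_zero.1 h4).symm
    · exact hw0 h4

/-- **Degree seven.** -/
theorem low_seven_six [IsAlgClosed k] [CharZero k] : Low.{u, v} k 7 6 := by
  intro V _ _ _ ρ hne
  by_contra hlt
  rw [not_le] at hlt
  have h2 : (2 : k) ≠ 0 := by norm_num
  have h3 : (3 : k) ≠ 0 := by norm_num
  obtain ⟨ω, hω, hω1⟩ := exists_omega (k := k) h3
  obtain ⟨q1, q2, q3, q0⟩ := cube_facts hω hω1
  have hinj := rep_injective (by rw [Fintype.card_fin]; omega) ρ hne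
  have hcard : Fintype.card (Fin 7) = 7 := Fintype.card_fin 7
  -- the dimension of the eigenspaces
  have hdim : ∀ (a b c : Fin 7) (hab : a ≠ b) (hbc : b ≠ c), a ≠ c →
      finrank k ((ρ (cc a b c hab hbc)).eigenspace ω) ≤ 1 := by
    intro a b c hab hbc hac
    by_contra hcon
    rw [not_le] at hcon
    have h4 := two_mul_le (by omega) ρ hω hω1 hab hac hbc
    have h5 := eig_eq (by omega) ρ hω hab hac hbc
    obtain ⟨f, hf⟩ := exists_extend (show 3 ≤ 3 by norm_num) (by omega) ![a, b, c] (inj3 hab hac hbc)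
    obtain ⟨h, hd, hcov⟩ := exists_compl (j := 4) f (by omega)
    have hfa : f 0 = a := hf 0
    have hfb : f 1 = b := hf 1
    have hfc : f 2 = c := hf 2
    let R := ρ.comp (emb f)
    let S := ρ.comp (emb h)
    have hcomm : ∀ x y v, R x (S y v) = S y (R x v) := by
      intro x y v
      show ρ (emb f x) (ρ (emb h y) v) = ρ (emb h y) (ρ (emb f x) v)
      rw [← mul_apply', emb_comm f h hd, mul_apply']
    have hRt : R (cc 0 1 2 (by decide) (by decide)) = ρ (cc a b c hab hbc) := by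
      show ρ (emb f _) = _
      rw [emb_cc]
      simp only [hfa, hfb, hfc]
    rw [← hRt] at hcon h4 h5
    set t : alternatingGroup (Fin 3) := cc 0 1 2 (by decide) (by decide) with ht
    have hR : ∀ x y v, R (x * y) v = R x (R y v) := fun x y v => mul_apply' R x y v
    have r1 : t * t * t = 1 := by decide
    have t3 : ∀ v, R t (R t (R t v)) = v := fun v => by rw [← hR, ← hR, r1, map_one, End.one_apply]
    have hinv : ∀ c : k, ∀ g, ∀ v ∈ (R t).eigenspace c, S g v ∈ (R t).eigenspace c := by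
      intro c g v hv
      rw [End.mem_eigenspace_iff] at hv ⊢
      rw [hcomm, hv, map_smul]
    have htop := eq_top_of_eig h3 hω hω1 (R t) t3 (LinearMap.ker (S Z1 - 1))
      (fun v hv => mem_kp.2 (klein_triv h2 S _ (hinv 1) (by omega) v hv))
      (fun v hv => mem_kp.2 (klein_triv h2 S _ (hinv ω) (by omega) v hv))
      (fun v hv => mem_kp.2 (klein_triv h2 S _ (hinv (ω ^ 2)) (by omega) v hv))
    have h6 : S Z1 = 1 := by
      ext v
      have : v ∈ LinearMap.ker (S Z1 - 1) := by rw [htop]; trivial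
      rw [mem_kp.1 this, End.one_apply]
    have h7 : ρ (emb h Z1) = ρ 1 := by rw [map_one]; exact h6
    have h8 : emb h Z1 = emb h 1 := by rw [hinj h7, map_one]
    have h9 := emb_injective h h8
    revert h9
    decide
  -- the property `P3`
  have hP3 : P3 ρ := by
    intro f u
    let R := ρ.comp (emb f)
    have hR : ∀ x y v, R (x * y) v = R x (R y v) := fun x y v => mul_apply' R x y v
    have hRt : R (cc 0 1 2 (by decide) (by decide)) =
        ρ (cc (f 0) (f 1) (f 2) (f.injective.ne (by decide)) (f.injective.ne (by decide))) := by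
      show ρ (emb f _) = _
      rw [emb_cc]
    have hRs : R (cc 3 4 5 (by decide) (by decide)) =
        ρ (cc (f 3) (f 4) (f 5) (f.injective.ne (by decide)) (f.injective.ne (by decide))) := by
      show ρ (emb f _) = _
      rw [emb_cc]
    have h4 := hdim (f 0) (f 1) (f 2) (f.injective.ne (by decide)) (f.injective.ne (by decide))
      (f.injective.ne (by decide))
    have h5 := eig_eq (by omega) ρ hω (a := f 0) (b := f 1) (c := f 2) (f.injective.ne (by decide))
      (f.injective.ne (by decide)) (f.injective.ne (by decide))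
    rw [← hRt] at h4 h5 ⊢
    rw [← hRs]
    have t1 := fixed_of_dim_le_one hω hω1 R h4
    have t2 := fixed_of_dim_le_one (ω := ω ^ 2) (by rw [← pow_mul, mul_comm, pow_mul, hω, one_pow]) q1 R
      (by rw [← h5]; exact h4)
    set t : alternatingGroup (Fin 6) := cc 0 1 2 (by decide) (by decide) with ht
    set s : alternatingGroup (Fin 6) := cc 3 4 5 (by decide) (by decide) with hs
    have r1 : t * t * t = 1 := by decide
    have t3 : ∀ v, R t (R t (R t v)) = v := fun v => by rw [← hR, ← hR, r1, map_one, End.one_apply]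
    have htop := eq_top_of_eig h3 hω hω1 (R t) t3 (LinearMap.ker ((R s - 1) * (R t - 1)))
      (fun v hv => by
        rw [End.mem_eigenspace_iff, one_smul] at hv
        rw [LinearMap.mem_ker, End.mul_apply, LinearMap.sub_apply (R t), End.one_apply, hv, sub_self, map_zero])
      (fun v hv => by
        have h6 := t1 v hv
        rw [End.mem_eigenspace_iff] at hv
        rw [LinearMap.mem_ker, End.mul_apply, LinearMap.sub_apply (R t), End.one_apply, hv, map_sub, map_smul,
          LinearMap.sub_apply, h6, End.one_apply, sub_self, smul_zero, sub_zero])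
      (fun v hv => by
        have h6 := t2 v hv
        rw [End.mem_eigenspace_iff] at hv
        rw [LinearMap.mem_ker, End.mul_apply, LinearMap.sub_apply (R t), End.one_apply, hv, map_sub, map_smul,
          LinearMap.sub_apply, h6, End.one_apply, sub_self, smul_zero, sub_zero])
    have h6 : u ∈ LinearMap.ker ((R s - 1) * (R t - 1)) := by rw [htop]; trivial
    rw [LinearMap.mem_ker, End.mul_apply, LinearMap.sub_apply (R t), End.one_apply, LinearMap.sub_apply,
      End.one_apply, sub_eq_zero] at h6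
    exact h6
  -- an eigenvector
  obtain ⟨v, hv, hv0⟩ : ∃ v ∈ (ρ (cc (0 : Fin 7) 1 2 (by decide) (by decide))).eigenspace ω, v ≠ 0 := by
    rw [← Submodule.ne_bot_iff]
    intro hbot
    have h5 := eig_eq (by omega) ρ hω (a := (0 : Fin 7)) (b := 1) (c := 2) (by decide) (by decide) (by decide)
    rw [hbot, finrank_bot] at h5
    have h6 := Submodule.finrank_eq_zero.1 h5.symm
    set t : alternatingGroup (Fin 7) := cc 0 1 2 (by decide) (by decide) with ht
    have r1 : t * t * t = 1 := by decide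
    have t3 : ∀ v, ρ t (ρ t (ρ t v)) = v := fun v => by
      rw [← mul_apply', ← mul_apply', r1, map_one, End.one_apply]
    have htop := eq_top_of_eig h3 hω hω1 (ρ t) t3 ((ρ t).eigenspace 1) le_rfl (by rw [hbot]; exact bot_le)
      (by rw [h6]; exact bot_le)
    have h7 : ρ t = ρ 1 := by
      rw [map_one]
      ext v
      have : v ∈ (ρ t).eigenspace 1 := by rw [htop]; trivial
      rw [End.mem_eigenspace_iff, one_smul] at this
      rw [this, End.one_apply]
    have h8 : t = 1 := hinj h7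
    revert h8
    decide
  have h4 := final3 0 (by omega) ρ hP3 hω hω1 (a := (0 : Fin 7)) (b := 1) (c := 2) (by decide) (by decide) (by decide) hv0
    (End.mem_eigenspace_iff.1 hv)
  rw [hcard, if_neg (by norm_num)] at h4
  omega

end Cfsg.Agent.H324.Hall.AltSeven
end

-- part: H165/HallAltBasic
section
/-!
# Hall subgroups of alternating groups: basic tools
-/

set_option autoImplicit false
set_option linter.unusedSectionVars false

namespace Cfsg.Agent.H165.HallAlt

open Equiv Equiv.Perm MulAction Cfsg.Agent.OddOrderLocal.HallPi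

section gen

variable {G : Type*} [Group G] [Finite G]

/-- `[K ⊔ N : K] = [N : K ⊓ N]` when `K` normalizes `N`. -/
theorem relIndex_sup {K N : Subgroup G} (h : K ≤ Subgroup.normalizer (N : Set G)) :
    K.relIndex (K ⊔ N) = K.relIndex N := by
  have h1 : N.relIndex (K ⊔ N) = N.relIndex K := by
    have hle : K ⊔ N ≤ Subgroup.normalizer (N : Set G) := sup_le h Subgroup.le_normalizer
    have hn : (N.subgroupOf (K ⊔ N)).Normal := Subgroup.normal_subgroupOf_of_le_normalizer hle
    have h2 := Subgroup.relIndex_sup_right (K.subgroupOf (K ⊔ N)) (N.subgroupOf (K ⊔ N))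
    rw [← Subgroup.subgroupOf_sup le_sup_left le_sup_right, Subgroup.subgroupOf_self,
      Subgroup.relIndex_top_right] at h2
    rw [Subgroup.relIndex_subgroupOf le_sup_left] at h2
    exact h2
  have hc1 : Nat.card K * K.relIndex (K ⊔ N) = Nat.card (K ⊔ N : Subgroup G) :=
    card_mul_relIndex le_sup_left
  have hc2 : Nat.card N * N.relIndex (K ⊔ N) = Nat.card (K ⊔ N : Subgroup G) :=
    card_mul_relIndex le_sup_right
  have hc3 : Nat.card (K ⊓ N : Subgroup G) * K.relIndex N = Nat.card N := by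
    rw [← Subgroup.inf_relIndex_right]
    exact card_mul_relIndex inf_le_right
  have hc4 : Nat.card (K ⊓ N : Subgroup G) * N.relIndex K = Nat.card K := by
    rw [← Subgroup.inf_relIndex_left]
    exact card_mul_relIndex inf_le_left
  have h0 : 0 < Nat.card K := Nat.card_pos
  apply Nat.eq_of_mul_eq_mul_left h0
  calc Nat.card K * K.relIndex (K ⊔ N) = Nat.card N * N.relIndex K := by rw [hc1, ← hc2, h1]
    _ = (Nat.card (K ⊓ N : Subgroup G) * K.relIndex N) * N.relIndex K := by rw [hc3]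
    _ = (Nat.card (K ⊓ N : Subgroup G) * N.relIndex K) * K.relIndex N := by ring
    _ = Nat.card K * K.relIndex N := by rw [hc4]

theorem relIndex_dvd_relIndex {K K' L : Subgroup G} (h1 : K ≤ K') (_h2 : K' ≤ L) :
    K.relIndex K' ∣ K.relIndex L := ⟨K'.relIndex L, (Subgroup.relIndex_mul_relIndex K K' L h1 _h2).symm⟩

theorem relIndex_dvd_relIndex' {K K' L : Subgroup G} (h1 : K ≤ K') (h2 : K ≤ L) :
    K'.relIndex L ∣ K.relIndex L := by
  rw [← Subgroup.inf_relIndex_right]
  exact ⟨K.relIndex (K' ⊓ L), by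
    rw [mul_comm]
    exact (Subgroup.relIndex_mul_relIndex K (K' ⊓ L) L (le_inf h1 h2) inf_le_right).symm⟩

/-- A `p`-subgroup of `A` is conjugate into a subgroup of index prime to `p`. -/
theorem exists_conj_le {p : ℕ} [Fact p.Prime] {M A P : Subgroup G}
    (h : ¬ p ∣ M.relIndex A) (hP : IsPGroup p P) (hPA : P ≤ A) :
    ∃ a ∈ A, ∀ x ∈ P, a⁻¹ * x * a ∈ M := by
  have hP' : IsPGroup p (P.subgroupOf A) := hP.of_injective
    ((Subgroup.subgroupOfEquivOfLe hPA).toMonoidHom) (Subgroup.subgroupOfEquivOfLe hPA).injective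
  have hc : ¬ p ∣ Nat.card (A ⧸ M.subgroupOf A) := h
  obtain ⟨q, hq⟩ := hP'.nonempty_fixed_point_of_prime_not_dvd_card (α := A ⧸ M.subgroupOf A) hc
  obtain ⟨a, rfl⟩ := QuotientGroup.mk_surjective q
  refine ⟨a, a.2, fun x hx => ?_⟩
  have h1 := hq ⟨⟨x, hPA hx⟩, Subgroup.mem_subgroupOf.mpr hx⟩
  have h2 : (QuotientGroup.mk ((⟨x, hPA hx⟩ : A) * a) : A ⧸ M.subgroupOf A) =
    QuotientGroup.mk a := h1
  rw [eq_comm, QuotientGroup.eq, Subgroup.mem_subgroupOf] at h2
  simpa only [mul_assoc, _root_.Subgroup.coe_mul, _root_.InvMemClass.coe_inv] using h2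

end gen

theorem apply_inv {α : Type*} (a : Perm α) (x : α) : a (a⁻¹ x) = x := a.apply_symm_apply x

theorem inv_apply {α : Type*} (a : Perm α) (x : α) : a⁻¹ (a x) = x := a.symm_apply_apply x

universe u

variable {Ω : Type u} [Fintype Ω] [DecidableEq Ω]

/-- The permutations fixing every point outside `U`. -/
def fixU (U : Finset Ω) : Subgroup (Perm Ω) where
  carrier := {g | ∀ x, x ∉ U → g x = x}
  mul_mem' := by
    intro a b ha hb x hx
    rw [Perm.mul_apply, hb x hx, ha x hx]
  one_mem' := fun x _ => rfl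
  inv_mem' := by
    intro a ha x hx
    rw [Perm.inv_eq_iff_eq, ha x hx]

theorem mem_fixU {U : Finset Ω} {g : Perm Ω} : g ∈ fixU U ↔ ∀ x, x ∉ U → g x = x := Iff.rfl

/-- The set stabilizer of `U`. -/
def setStab (U : Finset Ω) : Subgroup (Perm Ω) where
  carrier := {g | ∀ x, g x ∈ U ↔ x ∈ U}
  mul_mem' := by
    intro a b ha hb x
    rw [Perm.mul_apply]
    exact (ha (b x)).trans (hb x)
  one_mem' := fun x => Iff.rfl
  inv_mem' := by
    intro a ha x
    have := ha (a⁻¹ x)
    rw [apply_inv] at this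
    exact this.symm

theorem mem_setStab_of_forall {U : Finset Ω} {g : Perm Ω} (h : ∀ x ∈ U, g x ∈ U) :
    g ∈ setStab U := by
  have h1 : U.map g.toEmbedding ⊆ U := by
    intro y hy
    obtain ⟨x, hx, rfl⟩ := Finset.mem_map.mp hy
    exact h x hx
  have h2 : U.map g.toEmbedding = U :=
    Finset.eq_of_subset_of_card_le h1 (by rw [Finset.card_map])
  intro x
  constructor
  · intro hx
    rw [← h2] at hx
    obtain ⟨y, hy, hyx⟩ := Finset.mem_map.mp hx
    have : y = x := g.injective hyx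
    rwa [← this]
  · exact h x

theorem fixU_le_setStab (U : Finset Ω) : fixU U ≤ setStab U := by
  intro g hg
  apply mem_setStab_of_forall
  intro x hx
  by_contra hc
  have := hg _ hc
  have := g.injective this
  rw [this] at hc
  exact hc hx

theorem setStab_le_normalizer_fixU (U : Finset Ω) :
    setStab U ≤ Subgroup.normalizer (fixU U : Set (Perm Ω)) := by
  have key : ∀ g ∈ setStab U, ∀ n ∈ fixU U, g * n * g⁻¹ ∈ fixU U := by
    intro g hg n hn x hx
    have h1 : g⁻¹ x ∉ U := by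
      intro h
      exact hx (((setStab U).inv_mem hg x).mp h)
    rw [Perm.mul_apply, Perm.mul_apply, hn _ h1, apply_inv]
  intro g hg
  rw [Subgroup.mem_normalizer_iff]
  intro n
  constructor
  · exact key g hg n
  · intro h
    have := key g⁻¹ ((setStab U).inv_mem hg) _ h
    simpa only [mul_assoc, _root_.inv_mul_cancel_left, _root_.inv_inv, _root_.inv_mul_cancel, _root_.mul_one] using this

/-- The inclusion of `Perm U` into `Perm Ω`. -/
abbrev incl (U : Finset Ω) : Perm {x // x ∈ U} →* Perm Ω := Perm.ofSubtype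

theorem incl_injective (U : Finset Ω) : Function.Injective (incl U) := Perm.ofSubtype_injective

theorem incl_mem_fixU {U : Finset Ω} (σ : Perm {x // x ∈ U}) : incl U σ ∈ fixU U := by
  intro x hx
  exact Perm.ofSubtype_apply_of_not_mem σ hx

theorem exists_incl {U : Finset Ω} {g : Perm Ω} (hg : g ∈ fixU U) :
    ∃ σ : Perm {x // x ∈ U}, incl U σ = g := by
  have h1 : ∀ x, g x ∈ U ↔ x ∈ U := fixU_le_setStab U hg
  refine ⟨g.subtypePerm (fun x => h1 x), ?_⟩
  exact Perm.ofSubtype_subtypePerm _ (fun x hx => by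
    by_contra hc
    exact hx (hg x hc))

theorem map_incl_alternating (U : Finset Ω) :
    (alternatingGroup {x // x ∈ U}).map (incl U) = fixU U ⊓ alternatingGroup Ω := by
  ext g
  constructor
  · rintro ⟨σ, hσ, rfl⟩
    refine ⟨incl_mem_fixU σ, ?_⟩
    have h1 : sign σ = 1 := hσ
    change sign (Perm.ofSubtype σ) = 1
    rw [Perm.sign_ofSubtype, h1]
  · rintro ⟨h1, h2⟩
    obtain ⟨σ, rfl⟩ := exists_incl h1
    refine ⟨σ, ?_, rfl⟩
    have h3 : sign (Perm.ofSubtype σ) = 1 := h2
    rw [Perm.sign_ofSubtype] at h3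
    exact h3

theorem comap_incl_le {M : Subgroup (Perm Ω)} (hM : M ≤ alternatingGroup Ω) (U : Finset Ω) :
    M.comap (incl U) ≤ alternatingGroup {x // x ∈ U} := by
  intro σ hσ
  have h3 : sign (Perm.ofSubtype σ) = 1 := hM hσ
  rw [Perm.sign_ofSubtype] at h3
  exact h3

theorem relIndex_comap_incl (M : Subgroup (Perm Ω)) (U : Finset Ω) :
    (M.comap (incl U)).relIndex (alternatingGroup {x // x ∈ U}) =
      M.relIndex (fixU U ⊓ alternatingGroup Ω) := by
  rw [Subgroup.relIndex_comap, map_incl_alternating]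

theorem card_comap_incl_dvd (M : Subgroup (Perm Ω)) (U : Finset Ω) :
    Nat.card (M.comap (incl U)) ∣ Nat.card M := by
  rw [← Subgroup.card_map_of_injective (K := M.comap (incl U)) (incl_injective U)]
  exact Subgroup.card_dvd_of_le (Subgroup.map_comap_le _ _)

/-- **Restriction to an invariant set.** -/
theorem hall_comap {π : Set ℕ} {M : Subgroup (Perm Ω)}
    (hM : Cfsg.IsPiHallOf π M (alternatingGroup Ω)) {U : Finset Ω} (hU : M ≤ setStab U) :
    Cfsg.IsPiHallOf π (M.comap (incl U)) (alternatingGroup {x // x ∈ U}) := by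
  refine ⟨comap_incl_le hM.1 U, fun p hp hd => hM.2.1 p hp (hd.trans (card_comap_incl_dvd M U)), ?_⟩
  intro p hp hπ hd
  rw [relIndex_comap_incl] at hd
  have hnorm : M ≤ Subgroup.normalizer ((fixU U ⊓ alternatingGroup Ω : Subgroup (Perm Ω)) :
      Set (Perm Ω)) := by
    intro g hg
    have h1 := setStab_le_normalizer_fixU U (hU hg)
    rw [Subgroup.mem_normalizer_iff] at h1 ⊢
    intro n
    rw [Subgroup.mem_inf, Subgroup.mem_inf, ← h1 n]
    have : (alternatingGroup Ω).Normal := inferInstance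
    rw [this.mem_comm_iff]
    have e : g⁻¹ * (g * n) = n := by group
    rw [e]
  rw [← relIndex_sup hnorm] at hd
  exact hM.2.2 p hp hπ (hd.trans (relIndex_dvd_relIndex le_sup_left
    (sup_le hM.1 inf_le_right)))

end Cfsg.Agent.H165.HallAlt
end

-- part: H165/HallAltOrb
section
/-!
# Hall subgroups of alternating groups: orbits, set stabilizers, cycles
-/

set_option autoImplicit false
set_option linter.unusedSectionVars false

namespace Cfsg.Agent.H165.HallAlt

open Equiv Equiv.Perm MulAction Cfsg.Agent.OddOrderLocal.HallPi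

universe u

variable {Ω : Type u} [Fintype Ω] [DecidableEq Ω]

/-! ### The order of set stabilizers -/

theorem range_subtypeCongrHom (U : Finset Ω) :
    (Perm.subtypeCongrHom (fun x => x ∈ U)).range = setStab U := by
  ext g
  constructor
  · rintro ⟨⟨a, b⟩, rfl⟩
    apply mem_setStab_of_forall
    intro x hx
    simp only [Perm.subtypeCongrHom_apply]
    rw [Perm.subtypeCongr.left_apply a b hx]
    exact (a ⟨x, hx⟩).2
  · intro hg
    refine ⟨(g.subtypePerm (fun x => hg x), g.subtypePerm (fun x => not_congr (hg x))), ?_⟩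
    ext x
    simp only [Perm.subtypeCongrHom_apply]
    by_cases hx : x ∈ U
    · rw [Perm.subtypeCongr.left_apply _ _ hx]
      rfl
    · rw [Perm.subtypeCongr.right_apply _ _ hx]
      rfl

theorem card_setStab (U : Finset Ω) :
    Nat.card (setStab U) = U.card.factorial * (Fintype.card Ω - U.card).factorial := by
  rw [← range_subtypeCongrHom U]
  rw [Nat.card_congr (MonoidHom.ofInjective
    (Perm.subtypeCongrHom_injective (fun x => x ∈ U))).symm.toEquiv, Nat.card_prod,
    Nat.card_perm, Nat.card_perm, Nat.card_eq_fintype_card, Nat.card_eq_fintype_card,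
    Fintype.card_coe, Fintype.card_subtype_compl, Fintype.card_coe]

theorem index_setStab (U : Finset Ω) :
    (setStab U).index = (Fintype.card Ω).choose U.card := by
  have h1 := Subgroup.card_mul_index (setStab U)
  have hle : U.card ≤ Fintype.card Ω := Finset.card_le_univ U
  rw [card_setStab, Nat.card_perm, Nat.card_eq_fintype_card,
    ← Nat.choose_mul_factorial_mul_factorial hle] at h1
  have h2 : 0 < U.card.factorial * (Fintype.card Ω - U.card).factorial :=
    Nat.mul_pos (Nat.factorial_pos _) (Nat.factorial_pos _)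
  apply Nat.eq_of_mul_eq_mul_left h2
  rw [h1]
  ring

theorem swap_mem_setStab {U : Finset Ω} {a b : Ω} (h : a ∈ U ↔ b ∈ U) : swap a b ∈ setStab U := by
  apply mem_setStab_of_forall
  intro x hx
  by_cases hxa : x = a
  · subst hxa
    rw [swap_apply_left]
    exact h.mp hx
  · by_cases hxb : x = b
    · subst hxb
      rw [swap_apply_right]
      exact h.mpr hx
    · rwa [swap_apply_of_ne_of_ne hxa hxb]

theorem exists_swap_mem_setStab (U : Finset Ω) (h3 : 3 ≤ Fintype.card Ω) :
    ∃ a b : Ω, a ≠ b ∧ swap a b ∈ setStab U := by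
  by_cases hU : 1 < U.card
  · obtain ⟨a, ha, b, hb, hab⟩ := Finset.one_lt_card.mp hU
    exact ⟨a, b, hab, swap_mem_setStab (by simp [ha, hb])⟩
  · have hc : 1 < Uᶜ.card := by
      rw [Finset.card_compl]
      omega
    obtain ⟨a, ha, b, hb, hab⟩ := Finset.one_lt_card.mp hc
    rw [Finset.mem_compl] at ha hb
    exact ⟨a, b, hab, swap_mem_setStab (by simp [ha, hb])⟩

theorem relIndex_setStab (U : Finset Ω) (h3 : 3 ≤ Fintype.card Ω) :
    (setStab U).relIndex (alternatingGroup Ω) = (Fintype.card Ω).choose U.card := by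
  rw [← index_setStab, ← relIndex_sup (K := setStab U) (N := alternatingGroup Ω) (by
    rw [Subgroup.normalizer_eq_top]
    exact le_top)]
  have htop : setStab U ⊔ alternatingGroup Ω = ⊤ := by
    obtain ⟨a, b, hab, hs⟩ := exists_swap_mem_setStab U h3
    apply top_unique
    intro g _
    rcases Int.units_eq_one_or (sign g) with h | h
    · exact Subgroup.mem_sup_right h
    · have h1 : g * swap a b ∈ alternatingGroup Ω := by
        rw [mem_alternatingGroup, map_mul, h, sign_swap hab]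
        rfl
      have h2 : g = (g * swap a b) * swap a b := by
        rw [mul_assoc, swap_mul_self, mul_one]
      rw [h2]
      exact mul_mem (Subgroup.mem_sup_right h1) (Subgroup.mem_sup_left hs)
  rw [htop, Subgroup.relIndex_top_right]

/-- The index of a subgroup of `A_n` preserving `U` is divisible by the binomial coefficient. -/
theorem choose_dvd {M : Subgroup (Perm Ω)} (hM : M ≤ alternatingGroup Ω) {U : Finset Ω}
    (hU : M ≤ setStab U) (h3 : 3 ≤ Fintype.card Ω) :
    (Fintype.card Ω).choose U.card ∣ M.relIndex (alternatingGroup Ω) := by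
  rw [← relIndex_setStab U h3]
  exact relIndex_dvd_relIndex' hU hM

/-! ### Orbits -/

/-- The orbit of `x` under `M` as a finset. -/
noncomputable def orbF (M : Subgroup (Perm Ω)) (x : Ω) : Finset Ω := by
  classical exact Finset.univ.filter (fun y => ∃ g ∈ M, g x = y)

theorem mem_orbF {M : Subgroup (Perm Ω)} {x y : Ω} : y ∈ orbF M x ↔ ∃ g ∈ M, g x = y := by
  classical
  unfold orbF
  rw [Finset.mem_filter]
  simp only [_root_.Finset.mem_univ, _root_.true_and]

theorem le_setStab_orbF (M : Subgroup (Perm Ω)) (x : Ω) : M ≤ setStab (orbF M x) := by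
  intro g hg
  apply mem_setStab_of_forall
  intro y hy
  obtain ⟨h, hh, rfl⟩ := mem_orbF.mp hy
  exact mem_orbF.mpr ⟨g * h, M.mul_mem hg hh, rfl⟩

theorem orbF_subset {M : Subgroup (Perm Ω)} {U : Finset Ω} (hU : M ≤ setStab U) {x : Ω}
    (hx : x ∈ U) : orbF M x ⊆ U := by
  intro y hy
  obtain ⟨g, hg, rfl⟩ := mem_orbF.mp hy
  exact (hU hg x).mpr hx

theorem card_orbF_dvd (M : Subgroup (Perm Ω)) (x : Ω) : (orbF M x).card ∣ Nat.card M := by
  have h1 : (orbit M x) = ↑(orbF M x) := by
    ext y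
    rw [Finset.mem_coe, mem_orbF]
    constructor
    · rintro ⟨g, rfl⟩
      exact ⟨g, g.2, rfl⟩
    · rintro ⟨g, hg, rfl⟩
      exact ⟨⟨g, hg⟩, rfl⟩
  have h2 := MulAction.index_stabilizer M x
  rw [h1, Set.ncard_coe_finset] at h2
  rw [← h2]
  exact Subgroup.index_dvd_card _

/-- A permutation in `M` with a cycle of length `k` gives an orbit of length at least `k`. -/
theorem exists_orbF_ge {M : Subgroup (Perm Ω)} {g : Perm Ω} (hg : g ∈ M) {k : ℕ}
    (hk : k ∈ g.cycleType) : ∃ x, k ≤ (orbF M x).card := by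
  obtain ⟨c, τ, hcτ, hd, hc, hk⟩ := mem_cycleType_iff.mp hk
  obtain ⟨a, ha, hca⟩ := hc
  refine ⟨a, ?_⟩
  rw [← hk]
  apply Finset.card_le_card
  intro b hb
  rw [mem_orbF]
  have hb' : c b ≠ b := mem_support.mp hb
  obtain ⟨i, hi⟩ := hca hb'
  refine ⟨g ^ i, M.zpow_mem hg i, ?_⟩
  rw [hcτ, (hd.commute).mul_zpow, Perm.mul_apply]
  have h1 : τ a = a := by
    rcases hd a with h | h
    · exact absurd h ha
    · exact h
  rw [zpow_apply_eq_self_of_apply_eq_self h1]
  exact hi

/-- `M` contains an even permutation with prescribed cycle type of prime power order. -/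
theorem exists_mem_cycleType {p : ℕ} [hp : Fact p.Prime] {M : Subgroup (Perm Ω)}
    (h : ¬ p ∣ M.relIndex (alternatingGroup Ω)) {m : Multiset ℕ}
    (hm : m.sum ≤ Fintype.card Ω) (hm2 : ∀ a ∈ m, ∃ j, 0 < j ∧ a = p ^ j)
    (hs : (-1 : ℤˣ) ^ (m.sum + m.card) = 1) : ∃ g ∈ M, g.cycleType = m := by
  obtain ⟨g, hg⟩ := (exists_with_cycleType_iff (α := Ω) (m := m)).mpr
    ⟨hm, fun a ha => by
      obtain ⟨j, hj, rfl⟩ := hm2 a ha
      calc 2 ≤ p := hp.out.two_le
        _ = p ^ 1 := (pow_one p).symm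
        _ ≤ p ^ j := Nat.pow_le_pow_right hp.out.pos hj⟩
  have hsg : g ∈ alternatingGroup Ω := by
    rw [mem_alternatingGroup, sign_of_cycleType, hg]
    exact hs
  have hord : ∃ j, orderOf g = p ^ j := by
    have h1 : orderOf g ∣ p ^ (m.sum) := by
      rw [← lcm_cycleType, hg, Multiset.lcm_dvd]
      intro a ha
      obtain ⟨j, hj, rfl⟩ := hm2 a ha
      apply pow_dvd_pow
      calc j ≤ p ^ j := (Nat.lt_pow_self hp.out.one_lt).le
        _ ≤ m.sum := Multiset.single_le_sum (fun _ _ => Nat.zero_le _) _ ha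
    obtain ⟨j, -, hj⟩ := (Nat.dvd_prime_pow hp.out).mp h1
    exact ⟨j, hj⟩
  obtain ⟨j, hj⟩ := hord
  have hP : IsPGroup p (Subgroup.zpowers g) := by
    apply IsPGroup.of_card (n := j)
    rw [Nat.card_zpowers, hj]
  obtain ⟨a, -, ha⟩ := exists_conj_le h hP ((Subgroup.zpowers_le).mpr hsg)
  refine ⟨a⁻¹ * g * a, ha g (Subgroup.mem_zpowers g), ?_⟩
  have := cycleType_conj (σ := g) (τ := a⁻¹)
  rw [inv_inv] at this
  rw [this, hg]

end Cfsg.Agent.H165.HallAlt
end

-- part: H165/HallAltTrans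
section
/-!
# Hall subgroups of alternating groups: the transitive case
-/

set_option autoImplicit false
set_option linter.unusedSectionVars false

namespace Cfsg.Agent.H165.HallAlt

open Equiv Equiv.Perm MulAction Cfsg.Agent.OddOrderLocal.HallPi

universe u

variable {Ω : Type u} [Fintype Ω] [DecidableEq Ω]

/-! ### Three-cycles -/

/-- The cycle `a → b → c → a`. -/
def c3 (a b c : Ω) : Perm Ω := swap a b * swap b c

theorem c3_mem {a b c : Ω} (hab : a ≠ b) (hbc : b ≠ c) : c3 a b c ∈ alternatingGroup Ω := by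
  rw [mem_alternatingGroup, c3, map_mul, sign_swap hab, sign_swap hbc]
  rfl

theorem c3_left {a b c : Ω} (hab : a ≠ b) (hac : a ≠ c) : c3 a b c a = b := by
  rw [c3, Perm.mul_apply, swap_apply_of_ne_of_ne hab hac, swap_apply_left]

theorem c3_other {a b c x : Ω} (ha : x ≠ a) (hb : x ≠ b) (hc : x ≠ c) : c3 a b c x = x := by
  rw [c3, Perm.mul_apply, swap_apply_of_ne_of_ne hb hc, swap_apply_of_ne_of_ne ha hb]

theorem c3_preserves {a b c : Ω} {S : Finset Ω} (ha : a ∈ S) (hb : b ∈ S) (hc : c ∈ S) :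
    ∀ x ∈ S, c3 a b c x ∈ S := by
  intro x hx
  rw [c3, Perm.mul_apply]
  have h1 : ∀ u v y : Ω, u ∈ S → v ∈ S → y ∈ S → swap u v y ∈ S := by
    intro u v y hu hv hy
    rw [swap_apply_def]
    split_ifs <;> assumption
  exact h1 _ _ _ ha hb (h1 _ _ _ hb hc hx)

theorem c3_preserves' {a b c : Ω} {S : Finset Ω} (ha : a ∉ S) (hb : b ∉ S) (hc : c ∉ S) :
    ∀ x ∈ S, c3 a b c x ∈ S := by
  intro x hx
  have h1 : x ≠ a := by rintro rfl; exact ha hx
  have h2 : x ≠ b := by rintro rfl; exact hb hx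
  have h3 : x ≠ c := by rintro rfl; exact hc hx
  rw [c3_other h1 h2 h3]
  exact hx

theorem fresh (S : Finset Ω) (h : S.card + 2 ≤ Fintype.card Ω) :
    ∃ x y : Ω, x ≠ y ∧ x ∉ S ∧ y ∉ S := by
  have hc : 1 < Sᶜ.card := by
    rw [Finset.card_compl]
    omega
  obtain ⟨a, ha, b, hb, hab⟩ := Finset.one_lt_card.mp hc
  rw [Finset.mem_compl] at ha hb
  exact ⟨a, b, hab, ha, hb⟩

/-! ### The point stabilizer -/

theorem mem_fixU_erase {α : Ω} {g : Perm Ω} : g ∈ fixU (Finset.univ.erase α) ↔ g α = α := by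
  rw [mem_fixU]
  constructor
  · intro h
    exact h α (by simp only [_root_.Finset.mem_erase, _root_.ne_eq, _root_.not_true_eq_false, _root_.Finset.mem_univ, _root_.and_true, _root_.not_false_eq_true])
  · intro h x hx
    have : x = α := by simpa only [_root_.Finset.mem_erase, _root_.ne_eq, _root_.Finset.mem_univ, _root_.and_true, _root_.Decidable.not_not] using hx
    rw [this, h]

theorem card_eq_mul (K : Subgroup (Perm Ω)) (α : Ω) :
    Nat.card K = (orbF K α).card * Nat.card (K ⊓ fixU (Finset.univ.erase α) : Subgroup (Perm Ω)) := by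
  have h1 : (orbit K α) = ↑(orbF K α) := by
    ext y
    rw [Finset.mem_coe, mem_orbF]
    constructor
    · rintro ⟨g, rfl⟩
      exact ⟨g, g.2, rfl⟩
    · rintro ⟨g, hg, rfl⟩
      exact ⟨⟨g, hg⟩, rfl⟩
  have h2 := MulAction.index_stabilizer K α
  rw [h1, Set.ncard_coe_finset] at h2
  have h3 : (stabilizer K α).map K.subtype = K ⊓ fixU (Finset.univ.erase α) := by
    ext g
    rw [Subgroup.mem_inf, mem_fixU_erase]
    constructor
    · rintro ⟨⟨g, hg⟩, h, rfl⟩
      exact ⟨hg, h⟩
    · rintro ⟨hg, h⟩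
      exact ⟨⟨g, hg⟩, h, rfl⟩
  rw [← h3, Subgroup.card_map_of_injective K.subtype_injective, ← h2, mul_comm]
  exact (Subgroup.card_mul_index _).symm

theorem relIndex_point {M : Subgroup (Perm Ω)} (hM : M ≤ alternatingGroup Ω) {α : Ω}
    (ht : orbF M α = Finset.univ) :
    M.relIndex (fixU (Finset.univ.erase α) ⊓ alternatingGroup Ω) =
      M.relIndex (alternatingGroup Ω) := by
  have ht' : orbF (alternatingGroup Ω) α = Finset.univ := by
    apply Finset.eq_univ_of_forall
    intro x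
    have : x ∈ orbF M α := by rw [ht]; exact Finset.mem_univ x
    obtain ⟨g, hg, hgx⟩ := mem_orbF.mp this
    exact mem_orbF.mpr ⟨g, hM hg, hgx⟩
  have h1 := card_eq_mul M α
  have h2 := card_eq_mul (alternatingGroup Ω) α
  rw [ht] at h1
  rw [ht'] at h2
  have h3 := card_mul_relIndex hM
  have h4 : Nat.card (M ⊓ (fixU (Finset.univ.erase α) ⊓ alternatingGroup Ω) : Subgroup (Perm Ω)) *
      M.relIndex (fixU (Finset.univ.erase α) ⊓ alternatingGroup Ω) =
      Nat.card (fixU (Finset.univ.erase α) ⊓ alternatingGroup Ω : Subgroup (Perm Ω)) := by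
    rw [← Subgroup.inf_relIndex_right]
    exact card_mul_relIndex inf_le_right
  have h5 : M ⊓ (fixU (Finset.univ.erase α) ⊓ alternatingGroup Ω) =
      M ⊓ fixU (Finset.univ.erase α) := by
    rw [inf_comm (fixU _), ← inf_assoc, inf_eq_left.mpr hM]
  have h6 : alternatingGroup Ω ⊓ fixU (Finset.univ.erase α) =
      fixU (Finset.univ.erase α) ⊓ alternatingGroup Ω := inf_comm _ _
  rw [h5] at h4
  rw [h6] at h2
  have h0 : 0 < (Finset.univ : Finset Ω).card *
      Nat.card (M ⊓ fixU (Finset.univ.erase α) : Subgroup (Perm Ω)) :=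
    Nat.mul_pos (Finset.card_pos.mpr ⟨α, Finset.mem_univ α⟩) Nat.card_pos
  apply Nat.eq_of_mul_eq_mul_left h0
  rw [mul_assoc, h4, ← h2, ← h3, h1]

theorem hall_point {π : Set ℕ} {M : Subgroup (Perm Ω)}
    (hM : Cfsg.IsPiHallOf π M (alternatingGroup Ω)) {α : Ω} (ht : orbF M α = Finset.univ)
    {U : Finset Ω} (hU : U = Finset.univ.erase α) :
    Cfsg.IsPiHallOf π (M.comap (incl U)) (alternatingGroup {x // x ∈ U}) := by
  refine ⟨comap_incl_le hM.1 _, fun p hp hd => hM.2.1 p hp (hd.trans (card_comap_incl_dvd M _)), ?_⟩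
  intro p hp hπ hd
  rw [relIndex_comap_incl, hU, relIndex_point hM.1 ht] at hd
  exact hM.2.2 p hp hπ hd

/-! ### Conjugating the description of point stabilizers -/

theorem conj_mem_iff {M : Subgroup (Perm Ω)} {h : Perm Ω} (hh : h ∈ M) (g : Perm Ω) :
    h⁻¹ * g * h ∈ M ↔ g ∈ M := by
  constructor
  · intro h1
    have := M.mul_mem (M.mul_mem hh h1) (M.inv_mem hh)
    simpa [mul_assoc] using this
  · intro h1
    exact M.mul_mem (M.mul_mem (M.inv_mem hh) h1) hh

theorem conj_apply_eq (h g : Perm Ω) (x : Ω) : (h⁻¹ * g * h) x = x ↔ g (h x) = h x := by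
  rw [Perm.mul_apply, Perm.mul_apply, Perm.inv_eq_iff_eq]

theorem conj_alt (h : Perm Ω) {g : Perm Ω} : h⁻¹ * g * h ∈ alternatingGroup Ω ↔
    g ∈ alternatingGroup Ω := by
  rw [mem_alternatingGroup, mem_alternatingGroup, map_mul, map_mul, map_inv,
    mul_comm ((sign h)⁻¹), mul_assoc, inv_mul_cancel, mul_one]

/-- A transitive group all of whose point stabilizers are `A_{n-2}` does not exist. -/
theorem transB {M : Subgroup (Perm Ω)} {α β : Ω} (hn : 6 ≤ Fintype.card Ω) (hαβ : α ≠ β)
    (ht : ∀ x, ∃ h ∈ M, h α = x)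
    (hs : ∀ g ∈ alternatingGroup Ω, g α = α → (g ∈ M ↔ g β = β)) : False := by
  have hc : ∀ h ∈ M, ∀ g ∈ alternatingGroup Ω, g (h α) = h α → (g ∈ M ↔ g (h β) = h β) := by
    intro h hh g hg hgα
    have h1 := hs (h⁻¹ * g * h) ((conj_alt h).mpr hg) ((conj_apply_eq h g α).mpr hgα)
    rw [conj_mem_iff hh, conj_apply_eq] at h1
    exact h1
  have hcard3 : ∀ a b c : Ω, ({a, b, c} : Finset Ω).card ≤ 3 := fun a b c => Finset.card_le_three
  have hcard4 : ∀ a b c d : Ω, ({a, b, c, d} : Finset Ω).card ≤ 4 := fun a b c d =>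
    Finset.card_le_four
  -- choose a third point
  obtain ⟨γ, -, -, hγ, -⟩ := fresh ({α, β} : Finset Ω) (by
    have := Finset.card_le_two (a := α) (b := β)
    omega)
  have hγα : γ ≠ α := by rintro rfl; simp at hγ
  have hγβ : γ ≠ β := by rintro rfl; simp at hγ
  obtain ⟨h, hh, rfl⟩ := ht γ
  have hδγ : h β ≠ h α := fun e => hαβ (h.injective e.symm)
  by_cases h1 : h β = α
  · -- `δ = α`
    obtain ⟨x, y, hxy, hx, hy⟩ := fresh ({α, β, h α} : Finset Ω) (by
      have := hcard3 α β (h α); omega)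
    simp only [Finset.mem_insert, Finset.mem_singleton, not_or] at hx hy
    have hκ := c3_mem (a := β) (b := x) (c := y) (Ne.symm hx.2.1) hxy
    have h2 : c3 β x y (h α) = h α := c3_other hγβ (Ne.symm hx.2.2) (Ne.symm hy.2.2)
    have h3 : c3 β x y (h β) = h β := by
      rw [h1]
      exact c3_other hαβ (Ne.symm hx.1) (Ne.symm hy.1)
    have h4 := (hc h hh _ hκ h2).mpr h3
    have h5 := (hs _ hκ (by rw [← h1]; exact h3)).mp h4
    rw [c3_left (Ne.symm hx.2.1) (Ne.symm hy.2.1)] at h5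
    exact hx.2.1 h5
  · by_cases h2 : h β = β
    · -- `δ = β`
      obtain ⟨h', hh', hh'β⟩ := ht β
      have hεβ : h' β ≠ β := by
        intro e
        have : h' β = h' α := by rw [e, hh'β]
        exact hαβ (h'.injective this.symm)
      by_cases h3 : h' β = α
      · obtain ⟨x, y, hxy, hx, hy⟩ := fresh ({α, β, h α} : Finset Ω) (by
          have := hcard3 α β (h α); omega)
        simp only [Finset.mem_insert, Finset.mem_singleton, not_or] at hx hy
        have hκ := c3_mem (a := α) (b := x) (c := y) (Ne.symm hx.1) hxy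
        have h4 : c3 α x y (h α) = h α := c3_other hγα (Ne.symm hx.2.2) (Ne.symm hy.2.2)
        have h5 : c3 α x y β = β := c3_other hαβ.symm (Ne.symm hx.2.1) (Ne.symm hy.2.1)
        have h6 := (hc h hh _ hκ h4).mpr (by rw [h2]; exact h5)
        have h7 := (hc h' hh' _ hκ (by rw [hh'β]; exact h5)).mp h6
        rw [h3, c3_left (Ne.symm hx.1) (Ne.symm hy.1)] at h7
        exact hx.1 h7
      · obtain ⟨x, y, hxy, hx, hy⟩ := fresh ({α, β, h' β} : Finset Ω) (by
          have := hcard3 α β (h' β); omega)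
        simp only [Finset.mem_insert, Finset.mem_singleton, not_or] at hx hy
        have hκ := c3_mem (a := h' β) (b := x) (c := y) (Ne.symm hx.2.2) hxy
        have h4 : c3 (h' β) x y α = α := c3_other (Ne.symm h3) (Ne.symm hx.1) (Ne.symm hy.1)
        have h5 : c3 (h' β) x y β = β :=
          c3_other (Ne.symm hεβ) (Ne.symm hx.2.1) (Ne.symm hy.2.1)
        have h6 := (hs _ hκ h4).mpr h5
        have h7 := (hc h' hh' _ hκ (by rw [hh'β]; exact h5)).mp h6
        rw [c3_left (Ne.symm hx.2.2) (Ne.symm hy.2.2)] at h7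
        exact hx.2.2 h7
    · obtain ⟨x, y, hxy, hx, hy⟩ := fresh ({α, β, h α, h β} : Finset Ω) (by
        have := hcard4 α β (h α) (h β); omega)
      simp only [Finset.mem_insert, Finset.mem_singleton, not_or] at hx hy
      have hκ := c3_mem (a := h β) (b := x) (c := y) (Ne.symm hx.2.2.2) hxy
      have h4 : c3 (h β) x y α = α := c3_other (Ne.symm h1) (Ne.symm hx.1) (Ne.symm hy.1)
      have h5 : c3 (h β) x y β = β := c3_other (Ne.symm h2) (Ne.symm hx.2.1) (Ne.symm hy.2.1)
      have h6 : c3 (h β) x y (h α) = h α :=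
        c3_other (Ne.symm hδγ) (Ne.symm hx.2.2.1) (Ne.symm hy.2.2.1)
      have h7 := (hs _ hκ h4).mpr h5
      have h8 := (hc h hh _ hκ h6).mp h7
      rw [c3_left (Ne.symm hx.2.2.2) (Ne.symm hy.2.2.2)] at h8
      exact hx.2.2.2 h8

/-- If `∀ x ∈ S, g x ∈ S` then `g⁻¹` preserves `S` too. -/
theorem inv_preserves {g : Perm Ω} {S : Finset Ω} (h : ∀ x ∈ S, g x ∈ S) : ∀ x ∈ S, g⁻¹ x ∈ S := by
  intro x hx
  exact ((setStab S).inv_mem (mem_setStab_of_forall h) x).mpr hx

/-- The transitive case with stabilizer `(S₄ × S₃) ∩ A₇`. -/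
theorem transC {M : Subgroup (Perm Ω)} (hMA : M ≤ alternatingGroup Ω) {α : Ω}
    (hn : Fintype.card Ω = 8) {S : Finset Ω} (hS : S.card = 4) (hαS : α ∉ S)
    (ht : ∀ x, ∃ h ∈ M, h α = x)
    (hs : ∀ g ∈ alternatingGroup Ω, g α = α → (g ∈ M ↔ ∀ x ∈ S, g x ∈ S)) :
    ∀ g, g ∈ M ↔ g ∈ alternatingGroup Ω ∧ ((∀ x ∈ S, g x ∈ S) ∨ (∀ x ∈ S, g x ∉ S)) := by
  have hcompl : Sᶜ.card = 4 := by rw [Finset.card_compl, hn, hS]
  -- elements of `M` fixing `g α` preserve `g S`
  have hc : ∀ g ∈ M, ∀ k ∈ M, k (g α) = g α → ∀ x ∈ S, g⁻¹ (k (g x)) ∈ S := by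
    intro g hg k hk hkα x hx
    have h1 := (hs (g⁻¹ * k * g) ((conj_alt g).mpr (hMA hk)) ((conj_apply_eq g k α).mpr hkα)).mp
      ((conj_mem_iff hg k).mpr hk) x hx
    exact h1
  -- first case
  have first : ∀ g ∈ M, g α ∉ S → ∀ x ∈ S, g x ∈ S := by
    intro g hg hgα
    by_cases hgα' : g α = α
    · exact (hs g (hMA hg) hgα').mp hg
    -- if some `x ∈ S` has `g x ∈ S` then `S ⊆ g S`
    have step : ∀ x ∈ S, g x ∈ S → ∀ y ∈ S, g⁻¹ y ∈ S := by
      intro x hx hgx y hy
      by_cases hxy : y = g x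
      · rw [hxy, inv_apply]; exact hx
      -- a third point of `S`
      have hc3 : 0 < (S \ {g x, y}).card := by
        have h1 := Finset.le_card_sdiff ({g x, y} : Finset Ω) S
        have h2 := Finset.card_le_two (a := g x) (b := y)
        omega
      obtain ⟨z, hz⟩ := Finset.card_pos.mp hc3
      rw [Finset.mem_sdiff] at hz
      simp only [Finset.mem_insert, Finset.mem_singleton, not_or] at hz
      have hκA := c3_mem (a := g x) (b := y) (c := z) (Ne.symm hxy) (Ne.symm hz.2.2)
      have hκα : c3 (g x) y z α = α := c3_other (fun h => hαS (h ▸ hgx)) (fun h => hαS (h ▸ hy))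
        (fun h => hαS (h ▸ hz.1))
      have hκM : c3 (g x) y z ∈ M := (hs _ hκA hκα).mpr (c3_preserves hgx hy hz.1)
      have hκγ : c3 (g x) y z (g α) = g α := c3_other (fun h => hgα (h ▸ hgx))
        (fun h => hgα (h ▸ hy)) (fun h => hgα (h ▸ hz.1))
      have := hc g hg _ hκM hκγ x hx
      rw [c3_left (Ne.symm hxy) (Ne.symm hz.2.1)] at this
      exact this
    by_cases hex : ∃ x ∈ S, g x ∈ S
    · obtain ⟨x, hx, hgx⟩ := hex
      have h1 := inv_preserves (g := g⁻¹) (step x hx hgx)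
      simpa only [_root_.inv_inv] using h1
    · exfalso
      push Not at hex
      have h1 : S.map g.toEmbedding ⊆ Sᶜ.erase (g α) := by
        intro y hy
        obtain ⟨x, hx, rfl⟩ := Finset.mem_map.mp hy
        rw [Finset.mem_erase, Finset.mem_compl]
        refine ⟨?_, hex x hx⟩
        intro h
        have : x = α := g.injective h
        exact hαS (this ▸ hx)
      have h2 := Finset.card_le_card h1
      rw [Finset.card_map, Finset.card_erase_of_mem (Finset.mem_compl.mpr hgα), hcompl, hS] at h2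
      omega
  have second : ∀ g ∈ M, g α ∈ S → ∀ x ∈ S, g x ∉ S := by
    intro g hg hgα
    -- `g⁻¹ t ∈ S` for `t ∉ S`
    have h1 : ∀ t ∉ S, g⁻¹ t ∈ S := by
      intro t htS
      by_contra hc'
      obtain ⟨h, hh, rfl⟩ := ht t
      have h2 := first h hh htS
      have h3 := first (g⁻¹ * h) (M.mul_mem (M.inv_mem hg) hh) hc'
      have h4 : ∀ x ∈ S, g⁻¹ x ∈ S := by
        intro x hx
        have := h3 (h⁻¹ x) (inv_preserves h2 x hx)
        rwa [Perm.mul_apply, apply_inv] at this
      have h5 := h4 _ hgα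
      rw [inv_apply] at h5
      exact hαS h5
    have h2 : Sᶜ.map (g⁻¹).toEmbedding ⊆ S := by
      intro y hy
      obtain ⟨x, hx, rfl⟩ := Finset.mem_map.mp hy
      exact h1 x (Finset.mem_compl.mp hx)
    have h3 : Sᶜ.map (g⁻¹).toEmbedding = S :=
      Finset.eq_of_subset_of_card_le h2 (by rw [Finset.card_map, hcompl, hS])
    intro x hx
    rw [← h3] at hx
    obtain ⟨y, hy, rfl⟩ := Finset.mem_map.mp hx
    have : g ((g⁻¹).toEmbedding y) = y := apply_inv g y
    rw [this]
    exact Finset.mem_compl.mp hy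
  intro g
  constructor
  · intro hg
    refine ⟨hMA hg, ?_⟩
    by_cases h : g α ∈ S
    · exact Or.inr (second g hg h)
    · exact Or.inl (first g hg h)
  · rintro ⟨hgA, h⟩
    obtain ⟨k, hk, hkα⟩ := ht (g α)
    have hkg : (k⁻¹ * g) α = α := by
      rw [Perm.mul_apply, ← hkα, inv_apply]
    have hkgA : k⁻¹ * g ∈ alternatingGroup Ω := mul_mem (inv_mem (hMA hk)) hgA
    suffices hgoal : ∀ x ∈ S, (k⁻¹ * g) x ∈ S by
      have h1 := (hs _ hkgA hkg).mpr hgoal
      have := M.mul_mem hk h1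
      simpa [mul_assoc] using this
    rcases h with h | h
    · have h1 : g α ∉ S := by
        intro hc'
        exact hαS ((mem_setStab_of_forall h α).mp hc')
      rw [← hkα] at h1
      intro x hx
      exact inv_preserves (first k hk h1) _ (h x hx)
    · -- `g` maps `S` onto `Sᶜ`
      have h1 : S.map g.toEmbedding = Sᶜ := by
        apply Finset.eq_of_subset_of_card_le
        · intro y hy
          obtain ⟨x, hx, rfl⟩ := Finset.mem_map.mp hy
          exact Finset.mem_compl.mpr (h x hx)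
        · rw [Finset.card_map, hcompl, hS]
      have h2 : g α ∈ S := by
        by_contra hc'
        rw [← Finset.mem_compl, ← h1] at hc'
        obtain ⟨x, hx, hxα⟩ := Finset.mem_map.mp hc'
        have : x = α := g.injective hxα
        exact hαS (this ▸ hx)
      rw [← hkα] at h2
      have h3 := second k hk h2
      have h4 : S.map k.toEmbedding = Sᶜ := by
        apply Finset.eq_of_subset_of_card_le
        · intro y hy
          obtain ⟨x, hx, rfl⟩ := Finset.mem_map.mp hy
          exact Finset.mem_compl.mpr (h3 x hx)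
        · rw [Finset.card_map, hcompl, hS]
      intro x hx
      have h5 : g x ∈ Sᶜ := Finset.mem_compl.mpr (h x hx)
      rw [← h4] at h5
      obtain ⟨y, hy, hyx⟩ := Finset.mem_map.mp h5
      have : k⁻¹ (g x) = y := by
        rw [← hyx]
        exact inv_apply k y
      rw [Perm.mul_apply, this]
      exact hy

end Cfsg.Agent.H165.HallAlt
end

-- part: H165/HallAltPrim
section
/-!
# Hall subgroups of alternating groups: the transitive case, primitive part
-/

set_option autoImplicit false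
set_option linter.unusedSectionVars false

namespace Cfsg.Agent.H165.HallAlt

open Equiv Equiv.Perm MulAction Cfsg.Agent.OddOrderLocal.HallPi

universe u

variable {Ω : Type u} [Fintype Ω] [DecidableEq Ω]

/-- Every prime at most `n` divides the order of the alternating group. -/
theorem prime_dvd_card_alt (h4 : 4 ≤ Fintype.card Ω) {p : ℕ} (hp : p.Prime)
    (hpn : p ≤ Fintype.card Ω) : p ∣ Nat.card (alternatingGroup Ω) := by
  have : Nontrivial Ω := Fintype.one_lt_card_iff_nontrivial.mp (by omega)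
  have h1 := two_mul_nat_card_alternatingGroup (α := Ω)
  rw [Nat.card_perm, Nat.card_eq_fintype_card (α := Ω)] at h1
  by_cases h2 : p = 2
  · subst h2
    have h3 : 2 * 2 ∣ 2 * Nat.card (alternatingGroup Ω) := by
      rw [h1]
      exact Nat.dvd_factorial (by norm_num) h4
    exact Nat.dvd_of_mul_dvd_mul_left (by norm_num) h3
  · have h3 : p ∣ 2 * Nat.card (alternatingGroup Ω) := by
      rw [h1]
      exact Nat.dvd_factorial hp.pos hpn
    rcases (Nat.Prime.dvd_mul hp).mp h3 with h | h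
    · exact absurd ((Nat.prime_dvd_prime_iff_eq hp Nat.prime_two).mp h) h2
    · exact h

theorem pretransitive_of {M : Subgroup (Perm Ω)} {α : Ω} (ht : ∀ x, ∃ h ∈ M, h α = x) :
    IsPretransitive M Ω := by
  constructor
  intro x y
  obtain ⟨h, hh, rfl⟩ := ht x
  obtain ⟨k, hk, rfl⟩ := ht y
  refine ⟨⟨k * h⁻¹, M.mul_mem hk (M.inv_mem hh)⟩, ?_⟩
  change (k * h⁻¹) (h α) = k α
  rw [Perm.mul_apply, inv_apply]

/-- Transitive of degree 9 with stabilizer `(S₄ wr S₂) ∩ A₈`. -/
theorem transD {M : Subgroup (Perm Ω)} {α : Ω}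
    (hn : Fintype.card Ω = 9) {S : Finset Ω} (hS : S.card = 4) (hαS : α ∉ S)
    (ht : ∀ x, ∃ h ∈ M, h α = x)
    (hs : ∀ g ∈ alternatingGroup Ω, g α = α →
      (g ∈ M ↔ ((∀ x ∈ S, g x ∈ S) ∨ (∀ x ∈ S, g x ∉ S))))
    (hsw : ∃ g ∈ M, g α = α ∧ ∀ x ∈ S, g x ∉ S) : alternatingGroup Ω ≤ M := by
  obtain ⟨sw, hswM, hswα, hsw⟩ := hsw
  -- transitivity within S
  have hT1 : ∀ x ∈ S, ∀ y ∈ S, ∃ g ∈ M, g α = α ∧ g x = y := by
    intro x hx y hy
    by_cases hxy : x = y
    · exact ⟨1, M.one_mem, rfl, hxy⟩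
    have hc3 : 0 < (S \ {x, y}).card := by
      have h1 := Finset.le_card_sdiff ({x, y} : Finset Ω) S
      have h2 := Finset.card_le_two (a := x) (b := y)
      omega
    obtain ⟨z, hz⟩ := Finset.card_pos.mp hc3
    rw [Finset.mem_sdiff] at hz
    simp only [Finset.mem_insert, Finset.mem_singleton, not_or] at hz
    have h1 : c3 x y z α = α := c3_other (fun h => hαS (h ▸ hx)) (fun h => hαS (h ▸ hy))
        (fun h => hαS (h ▸ hz.1))
    exact ⟨c3 x y z, (hs _ (c3_mem hxy (Ne.symm hz.2.2)) h1).mpr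
      (Or.inl (c3_preserves hx hy hz.1)), h1, c3_left hxy (Ne.symm hz.2.1)⟩
  have hT2 : ∀ x ∉ S, x ≠ α → ∀ y ∉ S, y ≠ α → ∃ g ∈ M, g α = α ∧ g x = y := by
    intro x hx hxα y hy hyα
    by_cases hxy : x = y
    · exact ⟨1, M.one_mem, rfl, hxy⟩
    have hc3 : 0 < (Sᶜ \ {x, y, α}).card := by
      have h1 := Finset.le_card_sdiff ({x, y, α} : Finset Ω) Sᶜ
      have h2 := Finset.card_le_three (a := x) (b := y) (c := α)
      have h3 : Sᶜ.card = 5 := by rw [Finset.card_compl, hn, hS]
      omega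
    obtain ⟨z, hz⟩ := Finset.card_pos.mp hc3
    rw [Finset.mem_sdiff, Finset.mem_compl] at hz
    simp only [Finset.mem_insert, Finset.mem_singleton, not_or] at hz
    have h1 : c3 x y z α = α := c3_other hxα.symm hyα.symm (Ne.symm hz.2.2.2)
    exact ⟨c3 x y z, (hs _ (c3_mem hxy (Ne.symm hz.2.2.1)) h1).mpr
      (Or.inl (c3_preserves' hx hy hz.1)), h1, c3_left hxy (Ne.symm hz.2.1)⟩
  have hswne : ∀ x ∈ S, sw x ≠ α := by
    intro x hx h
    have : sw x = sw α := by rw [h, hswα]
    have := sw.injective this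
    exact hαS (this ▸ hx)
  have hT3 : ∀ x ∈ S, ∀ y ∉ S, y ≠ α → ∃ g ∈ M, g α = α ∧ g x = y := by
    intro x hx y hy hyα
    obtain ⟨g, hg, hgα, hgx⟩ := hT2 (sw x) (hsw x hx) (hswne x hx) y hy hyα
    exact ⟨g * sw, M.mul_mem hg hswM, by rw [Perm.mul_apply, hswα, hgα],
      by rw [Perm.mul_apply, hgx]⟩
  have hT : ∀ x y, x ≠ α → y ≠ α → ∃ g ∈ M, g α = α ∧ g x = y := by
    intro x y hx hy
    by_cases h1 : x ∈ S
    · by_cases h2 : y ∈ S
      · exact hT1 x h1 y h2
      · exact hT3 x h1 y h2 hy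
    · by_cases h2 : y ∈ S
      · obtain ⟨g, hg, hgα, hgx⟩ := hT3 y h2 x h1 hx
        exact ⟨g⁻¹, M.inv_mem hg, by rw [Perm.inv_eq_iff_eq, hgα], by
          rw [Perm.inv_eq_iff_eq, hgx]⟩
      · exact hT2 x h1 hx y h2 hy
  have h2t : IsMultiplyPretransitive M Ω 2 := by
    rw [is_two_pretransitive_iff]
    intro a b c d hab hcd
    obtain ⟨h, hh, rfl⟩ := ht a
    obtain ⟨k, hk, rfl⟩ := ht c
    obtain ⟨g, hg, hgα, hgx⟩ := hT (h⁻¹ b) (k⁻¹ d)
      (by intro e; rw [Perm.inv_eq_iff_eq] at e; exact hab e.symm)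
      (by intro e; rw [Perm.inv_eq_iff_eq] at e; exact hcd e.symm)
    refine ⟨⟨k * g * h⁻¹, M.mul_mem (M.mul_mem hk hg) (M.inv_mem hh)⟩, ?_, ?_⟩
    · change (k * g * h⁻¹) (h α) = k α
      rw [Perm.mul_apply, Perm.mul_apply, inv_apply, hgα]
    · change (k * g * h⁻¹) b = d
      rw [Perm.mul_apply, Perm.mul_apply, hgx, apply_inv]
  have hprim : IsPreprimitive M Ω := isPreprimitive_of_is_two_pretransitive h2t
  -- a 3-cycle in `S`
  obtain ⟨x, hx, y, hy, z, hz, hxy, hxz, hyz⟩ := Finset.two_lt_card.mp (show 2 < S.card by omega)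
  have h1 : c3 x y z α = α := c3_other (fun h => hαS (h ▸ hx)) (fun h => hαS (h ▸ hy))
        (fun h => hαS (h ▸ hz))
  have h2 : c3 x y z ∈ M := (hs _ (c3_mem hxy hyz) h1).mpr (Or.inl (c3_preserves hx hy hz))
  have h3 : (c3 x y z).IsThreeCycle := by
    rw [c3, swap_comm x y]
    exact isThreeCycle_swap_mul_swap_same hxy.symm hyz hxz
  exact alternatingGroup_le_of_isPreprimitive_of_isThreeCycle_mem hprim h3 h2

/-! ### Two-transitivity from Jordan sets -/

/-- If a primitive group contains a subgroup acting transitively on the proper subset `Δ` with at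
least two points and fixing the other points then it is 2-transitive. -/
theorem two_trans_of_jordan {M : Subgroup (Perm Ω)} (hprim : IsPreprimitive M Ω) {Δ : Finset Ω}
    (h2 : 2 ≤ Δ.card) (hlt : Δ.card < Fintype.card Ω)
    (htr : ∀ x ∈ Δ, ∀ y ∈ Δ, ∃ g ∈ M, g ∈ fixU Δ ∧ g x = y) : IsMultiplyPretransitive M Ω 2 := by
  apply hprim.is_two_pretransitive (s := ((Δᶜ : Finset Ω) : Set Ω))
    (n := Fintype.card Ω - Δ.card - 1)
  · rw [Set.ncard_coe_finset, Finset.card_compl]
    omega
  · rw [Nat.card_eq_fintype_card]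
    omega
  · constructor
    rintro ⟨x, hx⟩ ⟨y, hy⟩
    rw [SubMulAction.mem_ofFixingSubgroup_iff, Finset.mem_coe, Finset.mem_compl, not_not] at hx hy
    obtain ⟨g, hg, hgf, hgx⟩ := htr x hx y hy
    refine ⟨⟨⟨g, hg⟩, ?_⟩, ?_⟩
    · rw [mem_fixingSubgroup_iff]
      intro z hz
      rw [Finset.mem_coe, Finset.mem_compl] at hz
      exact hgf z hz
    · apply Subtype.ext
      exact hgx

theorem dvd_of_two_trans {M : Subgroup (Perm Ω)} (h : IsMultiplyPretransitive M Ω 2)
    (hn : 2 ≤ Fintype.card Ω) : Fintype.card Ω - 1 ∣ Nat.card M := by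
  rw [is_two_pretransitive_iff] at h
  obtain ⟨α, β, hαβ⟩ := Fintype.exists_pair_of_one_lt_card (show 1 < Fintype.card Ω by omega)
  set K := M ⊓ fixU (Finset.univ.erase α) with hK
  have h1 : orbF K β = Finset.univ.erase α := by
    ext y
    rw [mem_orbF, Finset.mem_erase]
    constructor
    · rintro ⟨g, hg, rfl⟩
      refine ⟨?_, Finset.mem_univ _⟩
      intro e
      have h2 : g α = α := mem_fixU_erase.mp hg.2
      have : g β = g α := by rw [e, h2]
      exact hαβ (g.injective this).symm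
    · rintro ⟨hy, -⟩
      obtain ⟨⟨g, hg⟩, hg1, hg2⟩ := h hαβ (Ne.symm hy)
      exact ⟨g, ⟨hg, mem_fixU_erase.mpr hg1⟩, hg2⟩
  have h2 := card_orbF_dvd K β
  rw [h1, Finset.card_erase_of_mem (Finset.mem_univ α), Finset.card_univ] at h2
  exact h2.trans (Subgroup.card_dvd_of_le inf_le_left)

/-! ### Simple groups and small index -/

theorem card_le_factorial_index {G : Type*} [Group G] [Finite G] [IsSimpleGroup G]
    {H : Subgroup G} (hH : H ≠ ⊤) : Nat.card G ≤ H.index.factorial := by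
  have h0 : H.normalCore = ⊥ := by
    rcases (H.normalCore_normal).eq_bot_or_eq_top with h | h
    · exact h
    · exact absurd (top_unique (h ▸ H.normalCore_le)) hH
  have h : H.normalCore.index ∣ H.index.factorial := by
    rw [Subgroup.normalCore_eq_ker, Subgroup.index_ker, Subgroup.index_eq_card, ← Nat.card_perm]
    exact Subgroup.card_subgroup_dvd_card (toPermHom G (G ⧸ H)).range
  rw [h0, Subgroup.index_bot] at h
  exact Nat.le_of_dvd (Nat.factorial_pos _) h

/-! ### The Klein four-group -/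

/-- The Klein four group in `Perm (Fin 4)`. -/
def V4 : Subgroup (Perm (Fin 4)) where
  carrier := {g | g = 1 ∨ g = swap (0 : Fin 4) 1 * swap (2 : Fin 4) 3 ∨ g = swap (0 : Fin 4) 2 * swap (1 : Fin 4) 3 ∨
    g = swap (0 : Fin 4) 3 * swap (1 : Fin 4) 2}
  mul_mem' := by
    rintro a b (rfl | rfl | rfl | rfl) (rfl | rfl | rfl | rfl) <;> decide
  one_mem' := Or.inl rfl
  inv_mem' := by
    rintro a (rfl | rfl | rfl | rfl) <;> decide

theorem V4_sq : ∀ g ∈ V4, g ^ 2 = 1 := by
  rintro a (rfl | rfl | rfl | rfl) <;> decide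

theorem V4_sign : ∀ g ∈ V4, sign g = 1 := by
  rintro a (rfl | rfl | rfl | rfl) <;> decide

theorem V4_trans : ∀ i j : Fin 4, ∃ g ∈ V4, g i = j := by
  intro i j
  have h : ∀ i j : Fin 4, (1 : Perm (Fin 4)) i = j ∨ (swap (0 : Fin 4) 1 * swap (2 : Fin 4) 3 : Perm (Fin 4)) i = j ∨
    (swap (0 : Fin 4) 2 * swap (1 : Fin 4) 3 : Perm (Fin 4)) i = j ∨ (swap (0 : Fin 4) 3 * swap (1 : Fin 4) 2 : Perm (Fin 4)) i = j := by
    decide
  rcases h i j with h | h | h | h
  · exact ⟨_, Or.inl rfl, h⟩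
  · exact ⟨_, Or.inr (Or.inl rfl), h⟩
  · exact ⟨_, Or.inr (Or.inr (Or.inl rfl)), h⟩
  · exact ⟨_, Or.inr (Or.inr (Or.inr rfl)), h⟩

theorem V4_isPGroup : IsPGroup 2 V4 := by
  intro g
  refine ⟨1, Subtype.ext ?_⟩
  exact V4_sq g g.2

/-- A subgroup of odd index of `A_n` contains a Klein four group acting regularly on four
points. -/
theorem exists_four {M : Subgroup (Perm Ω)} (h : ¬ 2 ∣ M.relIndex (alternatingGroup Ω))
    (h4 : 4 ≤ Fintype.card Ω) :
    ∃ ι : Fin 4 ↪ Ω, ∀ g ∈ V4, g.viaEmbedding ι ∈ M := by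
  obtain ⟨ι⟩ : Nonempty (Fin 4 ↪ Ω) := by
    apply Function.Embedding.nonempty_of_card_le
    rwa [Fintype.card_fin]
  have hsign : ∀ g : Perm (Fin 4), sign (g.viaEmbedding ι) = sign g := by
    intro g
    unfold Perm.viaEmbedding
    letI : DecidablePred (fun x => x ∈ Set.range ι.1) := fun a => Classical.propDecidable _
    exact sign_extendDomain g (Equiv.ofInjective ι.1 ι.2)
  have hP : IsPGroup 2 (V4.map (viaEmbeddingHom ι)) := V4_isPGroup.map _
  obtain ⟨a, -, ha⟩ := exists_conj_le h hP (by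
    rintro _ ⟨g, hg, rfl⟩
    rw [mem_alternatingGroup, viaEmbeddingHom_apply, hsign, V4_sign g hg])
  refine ⟨ι.trans (a⁻¹).toEmbedding, fun g hg => ?_⟩
  have h1 := ha _ ⟨g, hg, rfl⟩
  convert h1 using 1
  ext x
  rw [viaEmbeddingHom_apply, Perm.mul_apply, Perm.mul_apply]
  by_cases hx : ∃ i, (ι.trans (a⁻¹).toEmbedding) i = x
  · obtain ⟨i, rfl⟩ := hx
    rw [viaEmbedding_apply]
    have e : ∀ j, (ι.trans (a⁻¹).toEmbedding) j = a⁻¹ (ι j) := fun j => rfl
    rw [e, e, apply_inv, viaEmbedding_apply]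
  · rw [viaEmbedding_apply_of_notMem _ _ _ (by
      rintro ⟨i, hi⟩; exact hx ⟨i, hi⟩), viaEmbedding_apply_of_notMem, inv_apply]
    rintro ⟨i, hi⟩
    apply hx
    refine ⟨i, ?_⟩
    change a⁻¹ (ι i) = x
    rw [hi, inv_apply]

end Cfsg.Agent.H165.HallAlt
end

-- part: H165/ChooseDiv
section
/-!
# Small prime divisors of binomial coefficients

`choose_small_prime`: if `2 ≤ y < x` and no prime `p ≤ x` divides `(x + y).choose y`, then
`x = 4` and `y = 3` (a weak form of a theorem of Ecklund, with an elementary proof by carries).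
-/

set_option autoImplicit false

namespace Cfsg.Agent.H165.ChooseDiv

/-- No carries when adding `x` and `y` in base `p` if `p` does not divide the binomial
coefficient. -/
theorem nocarry {p : ℕ} (hp : p.Prime) {x y : ℕ} (h : ¬ p ∣ (x + y).choose y) (j : ℕ) :
    x % p ^ j + y % p ^ j < p ^ j := by
  rcases Nat.eq_zero_or_pos j with rfl | hj
  · simp [Nat.mod_one]
  by_contra hc
  push Not at hc
  have h1 : ((x + y).choose y).factorization p = 0 := Nat.factorization_eq_zero_of_not_dvd h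
  have h2 := Nat.factorization_choose' (p := p) (n := x) (k := y)
    (b := max (Nat.log p (x + y)) j + 1) hp (by omega)
  rw [h1] at h2
  have h3 := Finset.card_eq_zero.mp h2.symm
  have h4 : j ∈ ({i ∈ Finset.Ico 1 (max (Nat.log p (x + y)) j + 1) |
      p ^ i ≤ y % p ^ i + x % p ^ i} : Finset ℕ) := by
    rw [Finset.mem_filter, Finset.mem_Ico]
    exact ⟨⟨hj, by omega⟩, by omega⟩
  rw [h3] at h4
  simp at h4

/-- The divisors of a composite number. -/
theorem le_half_of_not_prime {n p : ℕ} (hn : ¬ n.Prime) (hp : p.Prime) (h : p ∣ n) (h0 : 0 < n) :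
    2 * p ≤ n := by
  obtain ⟨m, rfl⟩ := h
  have hm0 : m ≠ 0 := by rintro rfl; simp at h0
  have hm1 : m ≠ 1 := by rintro rfl; rw [mul_one] at hn; exact hn hp
  have : 2 ≤ m := by omega
  nlinarith

theorem mod_of_dvd_add_one {x P : ℕ} (hP : 0 < P) (h : P ∣ x + 1) : x % P = P - 1 := by
  obtain ⟨c, hc⟩ := h
  have hc0 : c ≠ 0 := by rintro rfl; simp at hc
  obtain ⟨d, rfl⟩ : ∃ d, c = d + 1 := ⟨c - 1, by omega⟩
  have : x = (P - 1) + P * d := by
    have : P * (d + 1) = P * d + P := by ring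
    omega
  rw [this, Nat.add_mul_mod_self_left, Nat.mod_eq_of_lt (by omega)]

theorem mod_of_dvd_add_two {x P : ℕ} (hP : 2 ≤ P) (h : P ∣ x + 2) : x % P = P - 2 := by
  obtain ⟨c, hc⟩ := h
  have hc0 : c ≠ 0 := by rintro rfl; simp at hc
  obtain ⟨d, rfl⟩ : ∃ d, c = d + 1 := ⟨c - 1, by omega⟩
  have : x = (P - 2) + P * d := by
    have : P * (d + 1) = P * d + P := by ring
    omega
  rw [this, Nat.add_mul_mod_self_left, Nat.mod_eq_of_lt (by omega)]

theorem dvd_or_dvd_of_mod_le_one {y P : ℕ} (h : y % P ≤ 1) : P ∣ y ∨ P ∣ y - 1 := by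
  have h6 := Nat.div_add_mod y P
  rcases Nat.lt_or_ge (y % P) 1 with h1 | h1
  · left; exact Nat.dvd_of_mod_eq_zero (Nat.lt_one_iff.mp h1)
  · right
    have h2 : y % P = 1 := le_antisymm h h1
    rw [h2] at h6
    exact ⟨y / P, by omega⟩

theorem mod_add_eq {x y P r : ℕ} (hlt : x % P + y % P < P) (h : (x + y) % P = r) :
    x % P + y % P = r := by
  rw [Nat.add_mod, Nat.mod_eq_of_lt hlt] at h
  exact h

theorem dvd_of_dvd_add {x y P : ℕ} (hlt : x % P + y % P < P) (h : P ∣ x + y) : P ∣ y := by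
  have h1 := mod_add_eq hlt (Nat.mod_eq_zero_of_dvd h)
  exact Nat.dvd_of_mod_eq_zero (Nat.eq_zero_of_add_eq_zero_left h1)

theorem dvd_of_dvd_add_one {x y P : ℕ} (hlt : x % P + y % P < P) (h : P ∣ y + 1) : P ∣ x := by
  have hP : 0 < P := Nat.pos_of_ne_zero (by rintro rfl; simp at h)
  rw [mod_of_dvd_add_one hP h] at hlt
  apply Nat.dvd_of_mod_eq_zero
  generalize x % P = a at hlt
  omega

theorem dvd_of_dvd_add_sub_one {x y P : ℕ} (hlt : x % P + y % P < P) (hP : 2 ≤ P)
    (hy : 1 ≤ y) (h : P ∣ x + y - 1) : P ∣ y ∨ P ∣ y - 1 := by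
  have h2 : (x + y) % P = 1 := by
    obtain ⟨c, hc⟩ := h
    have : x + y = 1 + P * c := by omega
    rw [this, Nat.add_mul_mod_self_left, Nat.mod_eq_of_lt (by omega)]
  have h3 := mod_add_eq hlt h2
  apply dvd_or_dvd_of_mod_le_one
  generalize x % P = a at h3
  omega

theorem dvd_of_dvd_add_two {x y P : ℕ} (hlt : x % P + y % P < P) (hP : 2 ≤ P)
    (h : P ∣ x + 2) : P ∣ y ∨ P ∣ y - 1 := by
  rw [mod_of_dvd_add_two hP h] at hlt
  apply dvd_or_dvd_of_mod_le_one
  omega

theorem two_le_pow {p k : ℕ} (hp : p.Prime) (hk : 0 < k) : 2 ≤ p ^ k :=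
  calc 2 ≤ p := hp.two_le
    _ = p ^ 1 := (pow_one p).symm
    _ ≤ p ^ k := Nat.pow_le_pow_right hp.pos hk

/-- **Main lemma.** If `2 ≤ y < x` and no prime `p ≤ x` divides `(x + y).choose y` then
`x = 4`, `y = 3`. -/
theorem choose_small_prime {x y : ℕ} (hy : 2 ≤ y) (hyx : y < x)
    (h : ∀ p : ℕ, p.Prime → p ≤ x → ¬ p ∣ (x + y).choose y) : x = 4 ∧ y = 3 := by
  have nc : ∀ p : ℕ, p.Prime → p ≤ x → ∀ j, x % p ^ j + y % p ^ j < p ^ j :=
    fun p hp hpx j => nocarry hp (h p hp hpx) j
  -- `x + y` is prime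
  have hn : (x + y).Prime := by
    by_contra hn
    have h1 : x + y ∣ y := by
      rw [Nat.dvd_iff_prime_pow_dvd_dvd]
      intro p k hp hk
      rcases Nat.eq_zero_or_pos k with rfl | hk0
      · simp
      have hpd : p ∣ x + y := (dvd_pow_self p (by omega)).trans hk
      have hpx : p ≤ x := by
        have := le_half_of_not_prime hn hp hpd (by omega)
        omega
      exact dvd_of_dvd_add (nc p hp hpx k) hk
    have := Nat.le_of_dvd (by omega) h1
    omega
  -- `y + 1 ∣ x`
  have hdvd : y + 1 ∣ x := by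
    rw [Nat.dvd_iff_prime_pow_dvd_dvd]
    intro p k hp hk
    rcases Nat.eq_zero_or_pos k with rfl | hk0
    · simp
    have hpd : p ∣ y + 1 := (dvd_pow_self p (by omega)).trans hk
    have hpx : p ≤ x := (Nat.le_of_dvd (by omega) hpd).trans hyx
    exact dvd_of_dvd_add_one (nc p hp hpx k) hk
  obtain ⟨z, hz⟩ := hdvd
  have hz0 : z ≠ 0 := by rintro rfl; simp at hz; omega
  have hodd : (x + y) % 2 = 1 := by
    rcases hn.eq_two_or_odd with h1 | h1
    · omega
    · exact h1
  -- `x + y - 1 ∣ (z - 1) * (y - 1)`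
  have hdvd2 : x + y - 1 ∣ (z - 1) * (y - 1) := by
    rw [Nat.dvd_iff_prime_pow_dvd_dvd]
    intro p k hp hk
    rcases Nat.eq_zero_or_pos k with rfl | hk0
    · simp
    have hpd : p ∣ x + y - 1 := (dvd_pow_self p (by omega)).trans hk
    have hpx : p ≤ x := by
      have h1 : ¬ (x + y - 1).Prime := by
        intro h2
        rcases h2.eq_two_or_odd with h3 | h3 <;> omega
      have := le_half_of_not_prime h1 hp hpd (by omega)
      omega
    rcases dvd_of_dvd_add_sub_one (nc p hp hpx k) (two_le_pow hp hk0) (by omega) hk with h5 | h5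
    · apply Dvd.dvd.mul_right
      have h6 : x + y - 1 = (z - 1) + y * (z + 1) := by
        obtain ⟨w, rfl⟩ : ∃ w, z = w + 1 := ⟨z - 1, by omega⟩
        rw [hz]
        have : (y + 1) * (w + 1) + y = w + y * (w + 1 + 1) + 1 := by ring
        rw [this]
        (clear * -; omega)
      rw [h6] at hk
      exact (Nat.dvd_add_left (h5.mul_right _)).mp hk
    · exact Dvd.dvd.mul_left h5 _
  have hz1 : z = 1 := by
    by_contra hne
    have h2 : 0 < (z - 1) * (y - 1) := Nat.mul_pos (by omega) (by omega)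
    have h3 := Nat.le_of_dvd h2 hdvd2
    obtain ⟨w, rfl⟩ : ∃ w, z = w + 1 := ⟨z - 1, by omega⟩
    obtain ⟨v, rfl⟩ : ∃ v, y = v + 1 := ⟨y - 1, by omega⟩
    simp only [Nat.add_sub_cancel] at h3
    rw [hz] at h3
    have : (v + 1 + 1) * (w + 1) + (v + 1) - 1 = v * w + (2 * w + v + 2 + v) := by
      have : (v + 1 + 1) * (w + 1) + (v + 1) = v * w + (2 * w + v + 2 + v) + 1 := by ring
      (clear * - this; omega)
    rw [this, mul_comm w v] at h3
    omega
  subst hz1
  rw [mul_one] at hz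
  -- `x + 1` is prime
  have hx1 : (x + 1).Prime := by
    by_contra hn1
    have h1 : x + 1 ∣ y := by
      rw [Nat.dvd_iff_prime_pow_dvd_dvd]
      intro p k hp hk
      rcases Nat.eq_zero_or_pos k with rfl | hk0
      · simp
      have hpd : p ∣ x + 1 := (dvd_pow_self p (by omega)).trans hk
      have hpx : p ≤ x := by
        have := le_half_of_not_prime hn1 hp hpd (by omega)
        omega
      exact dvd_of_dvd_add_one (x := y) (y := x) (by rw [add_comm]; exact nc p hp hpx k) hk
    have := Nat.le_of_dvd (by omega) h1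
    omega
  have hxe : x % 2 = 0 := by
    rcases hx1.eq_two_or_odd with h3 | h3 <;> (clear * - hy hodd hz h3; omega)
  -- `x + 2 ∣ y (y - 1)`
  have hdvd3 : x + 2 ∣ y * (y - 1) := by
    rw [Nat.dvd_iff_prime_pow_dvd_dvd]
    intro p k hp hk
    rcases Nat.eq_zero_or_pos k with rfl | hk0
    · simp
    have hpd : p ∣ x + 2 := (dvd_pow_self p (by omega)).trans hk
    have hpx : p ≤ x := by
      have h1 : ¬ (x + 2).Prime := by
        intro h2
        rcases h2.eq_two_or_odd with h3 | h3 <;> (clear * - hy hodd hz hxe h3; omega)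
      have := le_half_of_not_prime h1 hp hpd (by omega)
      (clear * - hz this; omega)
    rcases dvd_of_dvd_add_two (nc p hp hpx k) (two_le_pow hp hk0) hk with h5 | h5
    · exact Dvd.dvd.mul_right h5 _
    · exact Dvd.dvd.mul_left h5 _
  have h12 : x + 2 ∣ 12 := by
    obtain ⟨v, rfl⟩ : ∃ v, y = v + 1 := ⟨y - 1, by (clear * - hz hxe; omega)⟩
    subst hz
    simp only [Nat.add_sub_cancel] at hdvd3
    have h7 : (v + 1) * v + 5 * (v + 1 + 1 + 2) + 2 * (v + 1 + 1 + 2) =
        12 + (v + 1 + 1 + 2) * (v + 1 + 1 + 2) := by ring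
    have h8 : v + 1 + 1 + 2 ∣ 12 + (v + 1 + 1 + 2) * (v + 1 + 1 + 2) := by
      rw [← h7]
      exact dvd_add (dvd_add hdvd3 (Dvd.intro_left 5 rfl)) (Dvd.intro_left 2 rfl)
    exact (Nat.dvd_add_left (Dvd.intro _ rfl)).mp h8
  have hle : x + 2 ≤ 12 := Nat.le_of_dvd (by norm_num) h12
  have hx4 : x = 4 ∨ x = 10 := by
    have : x ≤ 10 := by omega
    interval_cases x <;> omega
  rcases hx4 with h4 | h10
  · exact ⟨h4, by omega⟩
  · exfalso
    have hy9 : y = 9 := by omega
    subst hy9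
    subst h10
    exact h 2 Nat.prime_two (by norm_num) (by decide)

end Cfsg.Agent.H165.ChooseDiv
end

-- part: H165/HallAltMain
section
/-!
# Hall subgroups of alternating groups: the main theorem
-/

set_option autoImplicit false
set_option linter.unusedSectionVars false

namespace Cfsg.Agent.H165.HallAlt

open Equiv Equiv.Perm MulAction Cfsg.Agent.OddOrderLocal.HallPi

universe u

variable {Ω : Type u} [Fintype Ω] [DecidableEq Ω]

/-- The case of prime degree with only one smaller prime in `π`. -/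
theorem transE {π : Set ℕ} {M : Subgroup (Perm Ω)}
    (hM : Cfsg.IsPiHallOf π M (alternatingGroup Ω)) (hn5 : 5 ≤ Fintype.card Ω)
    (hnp : (Fintype.card Ω).Prime) (hnπ : Fintype.card Ω ∈ π) {α : Ω}
    (ht : ∀ x, ∃ h ∈ M, h α = x) {r : ℕ} (hr : r.Prime) (hrn : r < Fintype.card Ω) (hrπ : r ∈ π)
    (huniq : ∀ p : ℕ, p.Prime → p ∈ π → p < Fintype.card Ω → p = r) : False := by
  have hprim : IsPreprimitive M Ω := by
    have := pretransitive_of ht
    exact IsPreprimitive.of_prime_card (by rw [Nat.card_eq_fintype_card]; exact hnp)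
  have hA : ¬ alternatingGroup Ω ≤ M := by
    intro hA
    have h2 := huniq 2 Nat.prime_two (hM.2.1 2 Nat.prime_two
      ((prime_dvd_card_alt (by omega) Nat.prime_two (by omega)).trans
        (Subgroup.card_dvd_of_le hA))) (by omega)
    have h3 := huniq 3 Nat.prime_three (hM.2.1 3 Nat.prime_three
      ((prime_dvd_card_alt (by omega) Nat.prime_three (by omega)).trans
        (Subgroup.card_dvd_of_le hA))) (by omega)
    omega
  by_cases hr2 : r = 2
  · subst hr2
    obtain ⟨ι, hι⟩ := exists_four (hM.2.2 2 Nat.prime_two hrπ) (by omega)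
    have hcard : (Finset.univ.map ι).card = 4 := by rw [Finset.card_map]; rfl
    have h2t : IsMultiplyPretransitive M Ω 2 := by
      apply two_trans_of_jordan hprim (Δ := Finset.univ.map ι) (by omega) (by omega)
      intro x hx y hy
      obtain ⟨i, -, rfl⟩ := Finset.mem_map.mp hx
      obtain ⟨j, -, rfl⟩ := Finset.mem_map.mp hy
      obtain ⟨g, hg, hgi⟩ := V4_trans i j
      refine ⟨g.viaEmbedding ι, hι g hg, ?_, by rw [viaEmbedding_apply, hgi]⟩
      intro z hz
      apply viaEmbedding_apply_of_notMem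
      rintro ⟨k, rfl⟩
      exact hz (by simp)
    have hdvd := dvd_of_two_trans h2t (by omega)
    have h2t' : ∀ {a b c d : Ω}, a ≠ b → c ≠ d → ∃ g : M, g • a = c ∧ g • b = d :=
      is_two_pretransitive_iff.mp h2t
    set g0 : Perm (Fin 4) := swap (0 : Fin 4) 1 * swap (2 : Fin 4) 3 with hg0
    have hg0V : g0 ∈ V4 := Or.inr (Or.inl rfl)
    have hb := H891.MinDeg.two_trans_bound (G := M) hprim (by
        intro h
        apply hA
        refine h.trans ?_
        rintro _ ⟨g, rfl⟩
        exact g.2) (by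
        intro p x y hx hy
        obtain ⟨k, hk1, hk2⟩ := h2t' (Ne.symm hx) (Ne.symm hy)
        exact ⟨k, hk1, hk2⟩) ⟨g0.viaEmbedding ι, hι g0 hg0V⟩ (ι 0) (by
        change (g0.viaEmbedding ι) (ι 0) ≠ ι 0
        rw [viaEmbedding_apply]
        intro e
        exact absurd (ι.injective e) (by decide))
    have hsub : (Finset.univ.filter (fun x : Ω =>
        (⟨g0.viaEmbedding ι, hι g0 hg0V⟩ : M) • x ≠ x)).card ≤ 4 := by
      refine le_trans (Finset.card_le_card ?_) hcard.le
      intro x hx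
      rw [Finset.mem_filter] at hx
      by_contra hc
      apply hx.2
      change (g0.viaEmbedding ι) x = x
      apply viaEmbedding_apply_of_notMem
      rintro ⟨k, rfl⟩
      exact hc (by simp)
    generalize (Finset.univ.filter (fun x : Ω =>
        (⟨g0.viaEmbedding ι, hι g0 hg0V⟩ : M) • x ≠ x)).card = c at hb hsub
    have hc3 : c - 1 ≤ 3 := by omega
    have hb2 : Fintype.card Ω - 1 ≤ 9 := hb.trans (by nlinarith only [hc3])
    have h3π : ¬ 3 ∣ Nat.card M := by
      intro h3
      have := huniq 3 Nat.prime_three (hM.2.1 3 Nat.prime_three h3) (by omega)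
      omega
    have h5or7 : Fintype.card Ω = 5 ∨ Fintype.card Ω = 7 := by
      have h1 : Fintype.card Ω ≤ 10 := by omega
      generalize Fintype.card Ω = n at hnp hn5 h1
      interval_cases n
      · left; rfl
      · exact absurd hnp (by norm_num)
      · right; rfl
      · exact absurd hnp (by norm_num)
      · exact absurd hnp (by norm_num)
      · exact absurd hnp (by norm_num)
    rcases h5or7 with h5 | h7
    · have hnt : Nontrivial Ω := Fintype.one_lt_card_iff_nontrivial.mp (by omega)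
      have h1 := two_mul_nat_card_alternatingGroup (α := Ω)
      rw [Nat.card_perm, Nat.card_eq_fintype_card (α := Ω), h5] at h1
      have h2 : Nat.card (alternatingGroup Ω) = 60 := by
        have : Nat.factorial 5 = 120 := rfl
        omega
      have h3 := card_mul_relIndex hM.1
      rw [h2] at h3
      have h4 : M.relIndex (alternatingGroup Ω) ∣ 60 := ⟨Nat.card M, by rw [← h3]; ring⟩
      have h6 : M.relIndex (alternatingGroup Ω) ∣ 3 := by
        have hcop : Nat.Coprime (M.relIndex (alternatingGroup Ω)) 20 := by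
          rw [show 20 = 2 ^ 2 * 5 by norm_num]
          apply Nat.Coprime.mul_right
          · apply Nat.Coprime.pow_right
            rw [Nat.coprime_comm, Nat.Prime.coprime_iff_not_dvd Nat.prime_two]
            exact hM.2.2 2 Nat.prime_two hrπ
          · rw [Nat.coprime_comm, Nat.Prime.coprime_iff_not_dvd Nat.prime_five]
            exact hM.2.2 5 Nat.prime_five (h5 ▸ hnπ)
        rw [show 60 = 20 * 3 by norm_num] at h4
        exact hcop.dvd_of_dvd_mul_left h4
      have hsimp : IsSimpleGroup (alternatingGroup Ω) :=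
        alternatingGroup.isSimpleGroup (by rw [Nat.card_eq_fintype_card]; omega)
      have hne : M.subgroupOf (alternatingGroup Ω) ≠ ⊤ := by
        intro h
        exact hA (Subgroup.subgroupOf_eq_top.mp h)
      have h7 := card_le_factorial_index hne
      have h8 : (M.subgroupOf (alternatingGroup Ω)).index ≤ 3 := Nat.le_of_dvd (by norm_num) h6
      have h9 := Nat.factorial_le h8
      rw [h2] at h7
      have : Nat.factorial 3 = 6 := rfl
      omega
    · apply h3π
      rw [h7] at hdvd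
      exact (show 3 ∣ 7 - 1 by norm_num).trans hdvd
  · -- `r` odd
    have hrodd : r % 2 = 1 := hr.eq_two_or_odd.resolve_left hr2
    have : Fact r.Prime := ⟨hr⟩
    obtain ⟨g, hg, hgc⟩ := exists_mem_cycleType (p := r) (M := M) (hM.2.2 r hr hrπ) (m := {r})
      (by rw [Multiset.sum_singleton]; exact hrn.le)
      (by
        intro a ha
        rw [Multiset.mem_singleton] at ha
        exact ⟨1, one_pos, by rw [ha, pow_one]⟩)
      (by
        rw [Multiset.sum_singleton, Multiset.card_singleton]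
        have : Even (r + 1) := by rw [Nat.even_iff]; omega
        exact this.neg_one_pow)
    have hcyc : g.IsCycle := by
      rw [← card_cycleType_eq_one, hgc, Multiset.card_singleton]
    have hsupp : g.support.card = r := by
      rw [← sum_cycleType, hgc, Multiset.sum_singleton]
    have h2t : IsMultiplyPretransitive M Ω 2 := by
      apply two_trans_of_jordan hprim (Δ := g.support) (by rw [hsupp]; exact hr.two_le)
        (by rw [hsupp]; exact hrn)
      intro x hx y hy
      obtain ⟨i, hi⟩ := hcyc.exists_zpow_eq (mem_support.mp hx) (mem_support.mp hy)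
      refine ⟨g ^ i, M.zpow_mem hg i, ?_, hi⟩
      intro z hz
      exact zpow_apply_eq_self_of_apply_eq_self (notMem_support.mp hz) i
    have hdvd := dvd_of_two_trans h2t (by omega)
    have hodd : Fintype.card Ω % 2 = 1 := hnp.eq_two_or_odd.resolve_left (by omega)
    have h2 : 2 ∣ Nat.card M := (show 2 ∣ Fintype.card Ω - 1 by omega).trans hdvd
    exact hr2 (huniq 2 Nat.prime_two (hM.2.1 2 Nat.prime_two h2) (by omega)).symm

/-- The conclusion of the main theorem. -/
def Concl (π : Set ℕ) (M : Subgroup (Perm Ω)) : Prop :=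
  (M = alternatingGroup Ω ∧ ∀ p : ℕ, p.Prime → p ≤ Fintype.card Ω → p ∈ π) ∨
  ((Fintype.card Ω).Prime ∧
    (∀ p : ℕ, p.Prime → p ≤ Fintype.card Ω → (p ∈ π ↔ p < Fintype.card Ω)) ∧
    ∃ a : Ω, ∀ g, g ∈ M ↔ g ∈ alternatingGroup Ω ∧ g a = a) ∨
  (Fintype.card Ω = 7 ∧ (∀ p : ℕ, p.Prime → p ≤ 7 → (p ∈ π ↔ p = 2 ∨ p = 3)) ∧
    ∃ S : Finset Ω, S.card = 4 ∧ ∀ g, g ∈ M ↔ g ∈ alternatingGroup Ω ∧ ∀ x ∈ S, g x ∈ S) ∨
  (Fintype.card Ω = 8 ∧ (∀ p : ℕ, p.Prime → p ≤ 8 → (p ∈ π ↔ p = 2 ∨ p = 3)) ∧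
    ∃ S : Finset Ω, S.card = 4 ∧ ∀ g, g ∈ M ↔ g ∈ alternatingGroup Ω ∧
      ((∀ x ∈ S, g x ∈ S) ∨ (∀ x ∈ S, g x ∉ S)))

theorem relIndex_ne_one_of_ne {M : Subgroup (Perm Ω)} (h : M ≤ alternatingGroup Ω)
    (h1 : M.relIndex (alternatingGroup Ω) = 1) : M = alternatingGroup Ω :=
  le_antisymm h (Subgroup.relIndex_eq_one.mp h1)

/-- The transitive case. -/
theorem transitive_case {π : Set ℕ} {M : Subgroup (Perm Ω)}
    (IH : ∀ (U : Finset Ω), U.card < Fintype.card Ω →
      ∀ (L : Subgroup (Perm {x // x ∈ U})),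
      Cfsg.IsPiHallOf π L (alternatingGroup {x // x ∈ U}) →
      (∃ r s : ℕ, r.Prime ∧ s.Prime ∧ r < s ∧ r ∈ π ∧ s ∈ π ∧ s ≤ U.card) → Concl π L)
    (hM : Cfsg.IsPiHallOf π M (alternatingGroup Ω)) {r s : ℕ} (hr : r.Prime) (hs : s.Prime)
    (hrs : r < s) (hrπ : r ∈ π) (hsπ : s ∈ π) (hsn : s ≤ Fintype.card Ω) {α : Ω}
    (htr : orbF M α = Finset.univ) : Concl π M := by
  have ht : ∀ x, ∃ h ∈ M, h α = x := by
    intro x
    exact mem_orbF.mp (by rw [htr]; exact Finset.mem_univ x)
  have hn3 : 3 ≤ Fintype.card Ω := by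
    have := hr.two_le
    omega
  have hndvd : Fintype.card Ω ∣ Nat.card M := by
    have := card_orbF_dvd M α
    rwa [htr, Finset.card_univ] at this
  by_cases hex : ∃ r s : ℕ, r.Prime ∧ s.Prime ∧ r < s ∧ r ∈ π ∧ s ∈ π ∧ s ≤ Fintype.card Ω - 1
  · obtain ⟨U, hU⟩ : ∃ U : Finset Ω, U = Finset.univ.erase α := ⟨_, rfl⟩
    have hUcard : U.card = Fintype.card Ω - 1 := by
      rw [hU, Finset.card_erase_of_mem (Finset.mem_univ α), Finset.card_univ]
    have hαU : α ∉ U := by rw [hU]; simp only [_root_.Finset.mem_erase, _root_.ne_eq, _root_.not_true_eq_false, _root_.Finset.mem_univ, _root_.and_true, _root_.not_false_eq_true]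
    have hmemU : ∀ x, x ∈ U ↔ x ≠ α := by intro x; rw [hU]; simp only [_root_.Finset.mem_erase, _root_.ne_eq, _root_.Finset.mem_univ, _root_.and_true]
    have hL := hall_point hM htr hU
    have hfix : ∀ {g : Perm Ω}, g α = α → g ∈ fixU U := by
      intro g hg
      rw [hU]
      exact mem_fixU_erase.mpr hg
    have hincα : ∀ σ : Perm {x // x ∈ U}, incl U σ α = α := by
      intro σ
      exact incl_mem_fixU σ α hαU
    have hincA : ∀ σ : Perm {x // x ∈ U}, incl U σ ∈ alternatingGroup Ω ↔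
        σ ∈ alternatingGroup {x // x ∈ U} := by
      intro σ
      rw [mem_alternatingGroup, mem_alternatingGroup]
      rw [show sign (incl U σ) = sign σ from Perm.sign_ofSubtype σ]
    have hinc : ∀ (σ : Perm {x // x ∈ U}) (x : {x // x ∈ U}), incl U σ x = σ x := by
      intro σ x
      exact Perm.ofSubtype_apply_coe σ x
    have hcardU : Fintype.card {x // x ∈ U} = Fintype.card Ω - 1 := by
      rw [Fintype.card_coe, hUcard]
    rcases IH U (by omega) _ hL (by
      obtain ⟨r, s, h1, h2, h3, h4, h5, h6⟩ := hex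
      exact ⟨r, s, h1, h2, h3, h4, h5, by omega⟩) with hA | hB | hC | hD
    · -- `A_{n-1}`
      left
      have h1 : M.relIndex (alternatingGroup Ω) = 1 := by
        rw [← relIndex_point hM.1 htr, ← hU, ← relIndex_comap_incl, hA.1, Subgroup.relIndex_self]
      refine ⟨relIndex_ne_one_of_ne hM.1 h1, ?_⟩
      intro p hp hpn
      rcases Nat.lt_or_ge p (Fintype.card Ω) with h | h
      · exact hA.2 p hp (by rw [hcardU]; omega)
      · have : p = Fintype.card Ω := le_antisymm hpn h
        exact hM.2.1 p hp (this ▸ hndvd)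
    · exfalso
      obtain ⟨hprime, hπ, ⟨b, hb⟩, hbL⟩ := hB
      rw [hcardU] at hprime hπ
      have hn6 : 6 ≤ Fintype.card Ω := by
        obtain ⟨r, s, h1, h2, h3, h4, h5, h6⟩ := hex
        have h7 := (hπ s h2 h6).mp h5
        have h8 := h1.two_le
        have h9 : Fintype.card Ω - 1 ≠ 4 := by
          intro h; rw [h] at hprime; revert hprime; norm_num
        omega
      have hbα : α ≠ b := by
        rintro rfl
        exact hαU hb
      apply transB hn6 hbα ht
      intro g hg hgα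
      obtain ⟨σ, rfl⟩ := exists_incl (hfix hgα)
      have h1 := hbL σ
      rw [Subgroup.mem_comap] at h1
      rw [h1]
      constructor
      · rintro ⟨-, h2⟩
        have := hinc σ ⟨b, hb⟩
        rw [h2] at this
        exact this
      · intro h2
        refine ⟨(hincA σ).mp hg, ?_⟩
        apply Subtype.ext
        rw [← hinc σ ⟨b, hb⟩]
        exact h2
    · obtain ⟨h7, hπ, S, hS, hSL⟩ := hC
      rw [hcardU] at h7
      right; right; right
      have h8 : Fintype.card Ω = 8 := by omega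
      refine ⟨h8, ?_, S.map (Function.Embedding.subtype _), by rw [Finset.card_map, hS], ?_⟩
      · intro p hp hp8
        have : p ≠ 8 := by rintro rfl; revert hp; norm_num
        exact hπ p hp (by omega)
      · apply transC hM.1 h8 (by rw [Finset.card_map, hS]) (α := α) ?_ ht
        · intro g hg hgα
          obtain ⟨σ, rfl⟩ := exists_incl (hfix hgα)
          have h1 := hSL σ
          rw [Subgroup.mem_comap] at h1
          rw [h1]
          constructor
          · rintro ⟨-, h2⟩ x hx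
            obtain ⟨y, hy, rfl⟩ := Finset.mem_map.mp hx
            have h3 := h2 y hy
            exact Finset.mem_map.mpr ⟨σ y, h3, (hinc σ y).symm⟩
          · intro h2
            refine ⟨(hincA σ).mp hg, ?_⟩
            intro y hy
            have h3 := h2 y (Finset.mem_map.mpr ⟨y, hy, rfl⟩)
            rw [hinc] at h3
            obtain ⟨z, hz, hzy⟩ := Finset.mem_map.mp h3
            have : z = σ y := Subtype.ext hzy
            rwa [← this]
        · intro h
          obtain ⟨y, hy, hyα⟩ := Finset.mem_map.mp h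
          apply hαU
          rw [← hyα]
          exact y.2
    · exfalso
      obtain ⟨h8, hπ, S, hS, hSL⟩ := hD
      rw [hcardU] at h8
      have h9 : Fintype.card Ω = 9 := by omega
      have h2π : 2 ∈ π := (hπ 2 Nat.prime_two (by norm_num)).mpr (Or.inl rfl)
      have h5π : 5 ∉ π := by
        intro h
        have := (hπ 5 Nat.prime_five (by norm_num)).mp h
        omega
      apply h5π
      have hA : alternatingGroup Ω ≤ M := by
        have hs' : ∀ g ∈ alternatingGroup Ω, g α = α →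
            (g ∈ M ↔ ((∀ x ∈ S.map (Function.Embedding.subtype (fun x => x ∈ U)),
              g x ∈ S.map (Function.Embedding.subtype (fun x => x ∈ U))) ∨
              (∀ x ∈ S.map (Function.Embedding.subtype (fun x => x ∈ U)),
              g x ∉ S.map (Function.Embedding.subtype (fun x => x ∈ U))))) := by
          intro g hg hgα
          obtain ⟨σ, rfl⟩ := exists_incl (hfix hgα)
          have h1 := hSL σ
          rw [Subgroup.mem_comap] at h1
          rw [h1]
          have hiff : ∀ y : {x // x ∈ U}, σ y ∈ S ↔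
              incl U σ y ∈ S.map (Function.Embedding.subtype (fun x => x ∈ U)) := by
            intro y
            rw [hinc]
            constructor
            · intro h; exact Finset.mem_map.mpr ⟨σ y, h, rfl⟩
            · intro h
              obtain ⟨z, hz, hzy⟩ := Finset.mem_map.mp h
              have : z = σ y := Subtype.ext hzy
              rwa [← this]
          constructor
          · rintro ⟨-, h2 | h2⟩
            · left
              intro x hx
              obtain ⟨y, hy, rfl⟩ := Finset.mem_map.mp hx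
              exact (hiff y).mp (h2 y hy)
            · right
              intro x hx
              obtain ⟨y, hy, rfl⟩ := Finset.mem_map.mp hx
              exact fun h => h2 y hy ((hiff y).mpr h)
          · intro h2
            refine ⟨(hincA σ).mp hg, ?_⟩
            rcases h2 with h2 | h2
            · left
              intro y hy
              exact (hiff y).mpr (h2 y (Finset.mem_map.mpr ⟨y, hy, rfl⟩))
            · right
              intro y hy h
              exact h2 y (Finset.mem_map.mpr ⟨y, hy, rfl⟩) ((hiff y).mp h)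
        apply transD h9 (by rw [Finset.card_map, hS]) ?_ ht hs'
        · -- an element swapping
          by_contra hno
          push Not at hno
          have hpres : M.comap (incl U) ≤ setStab S := by
            intro σ hσ
            rcases ((hSL σ).mp hσ).2 with h | h
            · exact mem_setStab_of_forall h
            · exfalso
              obtain ⟨x, hx, hx2⟩ := hno (incl U σ) hσ (hincα σ)
              obtain ⟨y, hy, rfl⟩ := Finset.mem_map.mp hx
              have h3 : incl U σ y ∈ S.map (Function.Embedding.subtype (fun x => x ∈ U)) := hx2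
              rw [hinc] at h3
              obtain ⟨z, hz, hzy⟩ := Finset.mem_map.mp h3
              have h4 : z = σ y := Subtype.ext hzy
              exact h y hy (h4 ▸ hz)
          have h1 := choose_dvd hL.1 hpres (by rw [hcardU]; omega)
          rw [hcardU, h9, hS] at h1
          exact hL.2.2 2 Nat.prime_two h2π ((show 2 ∣ Nat.choose (9 - 1) 4 by decide).trans h1)
        · intro h
          obtain ⟨y, hy, hyα⟩ := Finset.mem_map.mp h
          apply hαU
          rw [← hyα]
          exact y.2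
      exact hM.2.1 5 Nat.prime_five ((prime_dvd_card_alt (by omega) Nat.prime_five
        (by omega)).trans (Subgroup.card_dvd_of_le hA))
  · -- `s = n`, `r` the only smaller prime
    have hsn' : s = Fintype.card Ω := by
      by_contra hne
      exact hex ⟨r, s, hr, hs, hrs, hrπ, hsπ, by omega⟩
    have huniq : ∀ p : ℕ, p.Prime → p ∈ π → p < Fintype.card Ω → p = r := by
      intro p hp hpπ hpn
      by_contra hne
      rcases Nat.lt_or_gt_of_ne hne with h | h
      · exact hex ⟨p, r, hp, hr, h, hpπ, hrπ, by omega⟩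
      · exact hex ⟨r, p, hr, hp, h, hrπ, hpπ, by omega⟩
    rcases Nat.lt_or_ge (Fintype.card Ω) 5 with h5 | h5
    · -- degree 3
      have h3 : Fintype.card Ω = 3 := by
        have h4 : Fintype.card Ω ≠ 4 := by
          intro h; rw [hsn', h] at hs; revert hs; norm_num
        omega
      have hr2 : r = 2 := by
        have := hr.two_le
        omega
      subst hr2
      have hnt : Nontrivial Ω := Fintype.one_lt_card_iff_nontrivial.mp (by omega)
      have h1 := two_mul_nat_card_alternatingGroup (α := Ω)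
      rw [Nat.card_perm, Nat.card_eq_fintype_card (α := Ω), h3] at h1
      have h2 : Nat.card (alternatingGroup Ω) = 3 := by
        have : Nat.factorial 3 = 6 := rfl
        omega
      left
      have hcard := card_mul_relIndex hM.1
      rw [h2] at hcard
      have h4 : M.relIndex (alternatingGroup Ω) ∣ 3 := ⟨Nat.card M, by rw [← hcard]; ring⟩
      rcases (Nat.dvd_prime Nat.prime_three).mp h4 with h6 | h6
      · refine ⟨relIndex_ne_one_of_ne hM.1 h6, ?_⟩
        intro p hp hpn
        have := hp.two_le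
        have h7 : p = 2 ∨ p = 3 := by omega
        rcases h7 with rfl | rfl
        · exact hrπ
        · rw [← h3, ← hsn']; exact hsπ
      · exfalso
        apply hM.2.2 s hs hsπ
        rw [h6, hsn', h3]
    · exfalso
      exact transE hM h5 (hsn' ▸ hs) (hsn' ▸ hsπ) ht hr (by omega) hrπ huniq

end Cfsg.Agent.H165.HallAlt
end

-- part: H165/HallAltFinal
section
/-!
# Hall subgroups of alternating groups (P. Hall, Thompson)

`main`: let `M` be a Hall `π`-subgroup of the alternating group of degree `n`, where two primes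
of `π` are at most `n`.  Then one of the following holds (see `Concl`):
* all primes `≤ n` lie in `π` and `M = A_n`;
* `n` is prime, `π` contains exactly the primes `< n` and `M` is a point stabilizer in `A_n`;
* `n = 7`, `π` meets the primes `≤ 7` in `{2, 3}`, `M` is the stabilizer in `A_n` of a 4-set;
* `n = 8`, `π` meets the primes `≤ 8` in `{2, 3}`, `M` is the stabilizer in `A_n` of a partition
  into two 4-sets.
-/

set_option autoImplicit false
set_option linter.unusedSectionVars false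

namespace Cfsg.Agent.H165.HallAlt

open Equiv Equiv.Perm MulAction Cfsg.Agent.OddOrderLocal.HallPi

universe u

variable {Ω : Type u} [Fintype Ω] [DecidableEq Ω]

theorem incl_mem_alt {U : Finset Ω} (σ : Perm {x // x ∈ U}) :
    incl U σ ∈ alternatingGroup Ω ↔ σ ∈ alternatingGroup {x // x ∈ U} := by
  rw [mem_alternatingGroup, mem_alternatingGroup]
  rw [show sign (incl U σ) = sign σ from Perm.sign_ofSubtype σ]

theorem incl_apply {U : Finset Ω} (σ : Perm {x // x ∈ U}) (x : {x // x ∈ U}) :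
    incl U σ x = σ x := Perm.ofSubtype_apply_coe σ x

theorem orbF_eq_of_mem {M : Subgroup (Perm Ω)} {x y : Ω} (h : y ∈ orbF M x) :
    orbF M y = orbF M x := by
  obtain ⟨g, hg, rfl⟩ := mem_orbF.mp h
  apply le_antisymm
  · exact orbF_subset (le_setStab_orbF M x) h
  · apply orbF_subset (le_setStab_orbF M _)
    rw [mem_orbF]
    exact ⟨g⁻¹, M.inv_mem hg, inv_apply g x⟩

theorem eq_orbF {M : Subgroup (Perm Ω)} {x : Ω} {V : Finset Ω} (hV : V ⊆ orbF M x)
    (hne : V.Nonempty) (hM : M ≤ setStab V) : V = orbF M x := by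
  obtain ⟨y, hy⟩ := hne
  apply le_antisymm hV
  rw [← orbF_eq_of_mem (hV hy)]
  exact orbF_subset hM hy

theorem eq_of_isPi {G : Type*} [Group G] [Finite G] {π : Set ℕ} {M K : Subgroup G}
    (h : Cfsg.IsPiHallOf π M K) (hK : ∀ p : ℕ, p.Prime → p ∣ Nat.card K → p ∈ π) : M = K :=
  Subgroup.eq_of_le_of_card_ge h.1
    (Nat.le_of_dvd Nat.card_pos (dvd_card_of_pi h (dvd_refl _) hK))

/-- The intransitive case. -/
theorem intransitive_case {π : Set ℕ} {M : Subgroup (Perm Ω)}
    (IH : ∀ (U : Finset Ω), U.card < Fintype.card Ω →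
      ∀ (L : Subgroup (Perm {x // x ∈ U})),
      Cfsg.IsPiHallOf π L (alternatingGroup {x // x ∈ U}) →
      (∃ r s : ℕ, r.Prime ∧ s.Prime ∧ r < s ∧ r ∈ π ∧ s ∈ π ∧ s ≤ U.card) → Concl π L)
    (hM : Cfsg.IsPiHallOf π M (alternatingGroup Ω)) {r s : ℕ} (hr : r.Prime) (hs : s.Prime)
    (hrs : r < s) (hrπ : r ∈ π) (hsπ : s ∈ π) (hsn : s ≤ Fintype.card Ω)
    (hnt : ∀ α, orbF M α ≠ Finset.univ) : Concl π M := by
  have hr2 := hr.two_le
  have hn3 : 3 ≤ Fintype.card Ω := by omega
  have hne : (Finset.univ : Finset Ω).Nonempty := by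
    rw [← Finset.card_pos, Finset.card_univ]; omega
  obtain ⟨x0, -, hmax⟩ := Finset.exists_max_image Finset.univ (fun x => (orbF M x).card) hne
  obtain ⟨O, hO⟩ : ∃ O, O = orbF M x0 := ⟨_, rfl⟩
  have hMO : M ≤ setStab O := hO ▸ le_setStab_orbF M x0
  have hOlt : O.card < Fintype.card Ω := by
    rw [← Finset.card_univ]
    apply Finset.card_lt_card
    rw [Finset.ssubset_univ_iff, hO]
    exact hnt x0
  have hmax' : ∀ y, (orbF M y).card ≤ O.card := by
    intro y
    rw [hO]
    exact hmax y (Finset.mem_univ y)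
  have hle : ∀ p : ℕ, p.Prime → p ∈ π → p ≤ Fintype.card Ω → p % 2 = 1 → p ≤ O.card := by
    intro p hp hpπ hpn hp2
    have : Fact p.Prime := ⟨hp⟩
    obtain ⟨g, hg, hgc⟩ := exists_mem_cycleType (p := p) (M := M) (hM.2.2 p hp hpπ) (m := {p})
      (by rw [Multiset.sum_singleton]; exact hpn)
      (by
        intro a ha
        rw [Multiset.mem_singleton] at ha
        exact ⟨1, one_pos, by rw [ha, pow_one]⟩)
      (by
        rw [Multiset.sum_singleton, Multiset.card_singleton]
        have : Even (p + 1) := by rw [Nat.even_iff]; omega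
        exact this.neg_one_pow)
    obtain ⟨y, hy⟩ := exists_orbF_ge hg (k := p) (by rw [hgc]; exact Multiset.mem_singleton_self p)
    exact hy.trans (hmax' y)
  have hsodd : s % 2 = 1 := hs.eq_two_or_odd.resolve_left (by omega)
  have hsO : s ≤ O.card := hle s hs hsπ hsn hsodd
  have hL := hall_comap hM hMO
  have hcardO : Fintype.card {x // x ∈ O} = O.card := Fintype.card_coe O
  have hfixmem : ∀ σ : Perm {x // x ∈ O}, σ ∈ M.comap (incl O) ↔ incl O σ ∈ M := fun σ => Iff.rfl
  have hconjfix : ∀ g ∈ M, ∀ k ∈ fixU O, g⁻¹ * k * g ∈ fixU O := by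
    intro g hg k hk
    have h1 := setStab_le_normalizer_fixU O (hMO (M.inv_mem hg))
    rw [Subgroup.mem_normalizer_iff] at h1
    have := (h1 k).mp hk
    rwa [inv_inv] at this
  -- arithmetic consequences
  have hch := choose_dvd hM.1 hMO hn3
  have hndvd : ∀ p : ℕ, p.Prime → p ∈ π → ¬ p ∣ (Fintype.card Ω).choose O.card :=
    fun p hp hpπ hd => hM.2.2 p hp hpπ (hd.trans hch)
  obtain ⟨y, hy⟩ : ∃ y, Fintype.card Ω = O.card + y := ⟨Fintype.card Ω - O.card, by omega⟩
  have hy1 : 1 ≤ y := by omega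
  have hndvd' : ∀ p : ℕ, p.Prime → p ∈ π → ¬ p ∣ (O.card + y).choose y := by
    intro p hp hpπ
    have h1 := hndvd p hp hpπ
    have h2 := Nat.choose_symm_add (a := O.card) (b := y)
    rwa [hy, h2] at h1
  have hylt : 2 ∈ π → 3 ≤ O.card → y < O.card := by
    intro h2π hO3
    have h1 := Nat.pow_log_le_self 2 (show Fintype.card Ω ≠ 0 by omega)
    have h2 := Nat.lt_pow_succ_log_self (b := 2) (by norm_num) (Fintype.card Ω)
    obtain ⟨j, hj⟩ : ∃ j, j = Nat.log 2 (Fintype.card Ω) := ⟨_, rfl⟩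
    rw [← hj] at h1 h2
    have hj2 : 2 ≤ j := by
      by_contra hc
      have : j + 1 ≤ 2 := by omega
      have h3 : 2 ^ (j + 1) ≤ 2 ^ 2 := Nat.pow_le_pow_right (by norm_num) this
      omega
    have hnc := ChooseDiv.nocarry Nat.prime_two (hndvd' 2 Nat.prime_two h2π) j
    rw [pow_succ] at h2
    rcases Nat.lt_or_ge (Fintype.card Ω) (2 ^ j + 2) with h4 | h4
    · rcases Nat.lt_or_ge O.card (2 ^ j) with h5 | h5
      · have h6 : y < 2 ^ j := by omega
        rw [Nat.mod_eq_of_lt h5, Nat.mod_eq_of_lt h6] at hnc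
        omega
      · omega
    · have : Fact (Nat.Prime 2) := ⟨Nat.prime_two⟩
      have heven : Even (2 ^ j) := by
        rw [Nat.even_pow]
        exact ⟨even_two, by omega⟩
      obtain ⟨g, hg, hgc⟩ := exists_mem_cycleType (p := 2) (M := M)
        (hM.2.2 2 Nat.prime_two h2π) (m := {2 ^ j, 2})
        (by
          rw [Multiset.insert_eq_cons, Multiset.sum_cons, Multiset.sum_singleton]
          exact h4)
        (by
          intro a ha
          rw [Multiset.insert_eq_cons, Multiset.mem_cons, Multiset.mem_singleton] at ha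
          rcases ha with rfl | rfl
          · exact ⟨j, by omega, rfl⟩
          · exact ⟨1, one_pos, by norm_num⟩)
        (by
          rw [Multiset.insert_eq_cons, Multiset.sum_cons, Multiset.sum_singleton,
            Multiset.card_cons, Multiset.card_singleton]
          have : Even (2 ^ j + 2 + (1 + 1)) := by
            rw [add_assoc]
            exact heven.add (by decide)
          exact this.neg_one_pow)
      obtain ⟨z, hz⟩ := exists_orbF_ge hg (k := 2 ^ j) (by
        rw [hgc, Multiset.insert_eq_cons]; exact Multiset.mem_cons_self _ _)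
      have := hz.trans (hmax' z)
      omega
  rcases IH O hOlt _ hL ⟨r, s, hr, hs, hrs, hrπ, hsπ, hsO⟩ with hA | hB | hC | hD
  · -- all primes up to `|O|`
    obtain ⟨hLA, hπ⟩ := hA
    rw [hcardO] at hπ
    have hO3 : 3 ≤ O.card := by omega
    have h2π : 2 ∈ π := hπ 2 Nat.prime_two (by omega)
    have h3π : 3 ∈ π := hπ 3 Nat.prime_three hO3
    have hyO := hylt h2π hO3
    have hfixA : ∀ g ∈ alternatingGroup Ω, g ∈ fixU O → g ∈ M := by
      intro g hgA hg
      obtain ⟨σ, rfl⟩ := exists_incl hg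
      have h1 : σ ∈ M.comap (incl O) := by
        rw [hLA]
        exact (incl_mem_alt σ).mp hgA
      exact h1
    rcases Nat.lt_or_ge y 2 with hy2 | hy2
    · -- point stabilizer
      have hy1' : y = 1 := by omega
      subst hy1'
      right; left
      have hcompl : Oᶜ.card = 1 := by rw [Finset.card_compl]; omega
      obtain ⟨β, hβ⟩ := Finset.card_eq_one.mp hcompl
      have hβO : ∀ x, x ∉ O ↔ x = β := by
        intro x
        rw [← Finset.mem_compl, hβ, Finset.mem_singleton]
      have hprime : (Fintype.card Ω).Prime := by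
        by_contra hnp
        have h1 := Nat.minFac_prime (show Fintype.card Ω ≠ 1 by omega)
        have h2 := Nat.minFac_dvd (Fintype.card Ω)
        have h3 := ChooseDiv.le_half_of_not_prime hnp h1 h2 (by omega)
        have h4 := hndvd' _ h1 (hπ _ h1 (by omega))
        apply h4
        rw [Nat.choose_one_right, ← hy]
        exact h2
      have hnπ : Fintype.card Ω ∉ π := by
        intro h
        apply hndvd' _ hprime h
        rw [Nat.choose_one_right, ← hy]
      refine ⟨hprime, ?_, β, ?_⟩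
      · intro p hp hpn
        constructor
        · intro h
          rcases Nat.lt_or_ge p (Fintype.card Ω) with h5 | h5
          · exact h5
          · exact absurd ((le_antisymm hpn h5) ▸ h) hnπ
        · intro h
          exact hπ p hp (by omega)
      · intro g
        constructor
        · intro hg
          refine ⟨hM.1 hg, ?_⟩
          rw [← hβO]
          intro h
          have : β ∉ O := (hβO β).mpr rfl
          exact this ((hMO hg β).mp h)
        · rintro ⟨hgA, hgβ⟩
          apply hfixA g hgA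
          intro x hx
          rw [hβO] at hx
          rw [hx, hgβ]
    · -- degree 7
      obtain ⟨h4, h3⟩ := ChooseDiv.choose_small_prime hy2 hyO
        (fun p hp hpO => hndvd' p hp (hπ p hp hpO))
      right; right; left
      have h7 : Fintype.card Ω = 7 := by omega
      refine ⟨h7, ?_, O, h4, ?_⟩
      · intro p hp hp7
        constructor
        · intro h
          by_cases hp2 : p = 2
          · exact Or.inl hp2
          · have h5 := hle p hp h (by omega) (hp.eq_two_or_odd.resolve_left hp2)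
            have := hp.two_le
            have h8 : p ≠ 4 := by rintro rfl; revert hp; norm_num
            right; omega
        · rintro (rfl | rfl)
          · exact h2π
          · exact h3π
      · have hK : M = setStab O ⊓ alternatingGroup Ω := by
          apply eq_of_isPi (isPiHallOf_mono hM (le_inf hMO hM.1) inf_le_right)
          intro p hp hd
          have h5 := hd.trans (Subgroup.card_dvd_of_le (inf_le_left : setStab O ⊓
            alternatingGroup Ω ≤ setStab O))
          rw [card_setStab, h4, h7] at h5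
          have h6 : p ∣ 2 ^ 4 * 3 ^ 2 := by
            have : Nat.factorial 4 * Nat.factorial (7 - 4) = 2 ^ 4 * 3 ^ 2 := by decide
            rwa [this] at h5
          rcases (Nat.Prime.dvd_mul hp).mp h6 with h | h
          · rw [(Nat.prime_dvd_prime_iff_eq hp Nat.prime_two).mp (hp.dvd_of_dvd_pow h)]
            exact h2π
          · rw [(Nat.prime_dvd_prime_iff_eq hp Nat.prime_three).mp (hp.dvd_of_dvd_pow h)]
            exact h3π
        intro g
        constructor
        · intro hg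
          exact ⟨hM.1 hg, fun x hx => (hMO hg x).mpr hx⟩
        · rintro ⟨hgA, hg⟩
          rw [hK]
          exact ⟨mem_setStab_of_forall hg, hgA⟩
  · -- a point stabilizer in `O` : impossible
    exfalso
    obtain ⟨hprime, hπ, ⟨b, hbO⟩, hbL⟩ := hB
    rw [hcardO] at hprime hπ
    have hs1 := (hπ s hs hsO).mp hsπ
    have hO5 : 5 ≤ O.card := by
      have : O.card ≠ 4 := by intro h; rw [h] at hprime; revert hprime; norm_num
      omega
    have hfb : ∀ k ∈ fixU O, k ∈ alternatingGroup Ω → (k ∈ M ↔ k b = b) := by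
      intro k hk hkA
      obtain ⟨σ, rfl⟩ := exists_incl hk
      have h1 := hbL σ
      rw [Subgroup.mem_comap] at h1
      rw [h1]
      constructor
      · rintro ⟨-, h2⟩
        have := incl_apply σ ⟨b, hbO⟩
        rw [h2] at this
        exact this
      · intro h2
        refine ⟨(incl_mem_alt σ).mp hkA, ?_⟩
        apply Subtype.ext
        rw [← incl_apply σ ⟨b, hbO⟩]
        exact h2
    have hfix : ∀ g ∈ M, g b = b := by
      intro g hg
      by_contra hne'
      have hcO : g b ∈ O := (hMO hg b).mpr hbO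
      have hc2 : 1 < (O \ {b, g b}).card := by
        have h1 := Finset.le_card_sdiff ({b, g b} : Finset Ω) O
        have h2 := Finset.card_le_two (a := b) (b := g b)
        omega
      obtain ⟨u, hu, v, hv, huv⟩ := Finset.one_lt_card.mp hc2
      rw [Finset.mem_sdiff] at hu hv
      simp only [Finset.mem_insert, Finset.mem_singleton, not_or] at hu hv
      have hκA := c3_mem (a := g b) (b := u) (c := v) (Ne.symm hu.2.2) huv
      have hκf : c3 (g b) u v ∈ fixU O := by
        intro x hx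
        exact c3_other (fun h => hx (h ▸ hcO)) (fun h => hx (h ▸ hu.1)) (fun h => hx (h ▸ hv.1))
      have hκb : c3 (g b) u v b = b := c3_other (Ne.symm hne') (Ne.symm hu.2.1) (Ne.symm hv.2.1)
      have hκM := (hfb _ hκf hκA).mpr hκb
      have h3 := (conj_mem_iff hg _).mpr hκM
      have h4 := (hfb _ (hconjfix g hg _ hκf) (hM.1 h3)).mp h3
      rw [conj_apply_eq, c3_left (Ne.symm hu.2.2) (Ne.symm hv.2.2)] at h4
      exact hu.2.2 h4
    have h1 : ({b} : Finset Ω) = orbF M x0 := by
      apply eq_orbF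
      · rw [← hO]; exact Finset.singleton_subset_iff.mpr hbO
      · exact Finset.singleton_nonempty b
      · intro g hg
        apply mem_setStab_of_forall
        intro x hx
        rw [Finset.mem_singleton] at hx ⊢
        rw [hx, hfix g hg]
    rw [← hO] at h1
    rw [← h1, Finset.card_singleton] at hO5
    omega
  · -- a 4-set in `O` : impossible
    exfalso
    obtain ⟨h7, hπ, S, hS, hSL⟩ := hC
    rw [hcardO] at h7
    obtain ⟨T, hT⟩ : ∃ T : Finset Ω, T = S.map (Function.Embedding.subtype _) := ⟨_, rfl⟩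
    have hTcard : T.card = 4 := by rw [hT, Finset.card_map, hS]
    have hTO : T ⊆ O := by
      intro x hx
      rw [hT] at hx
      obtain ⟨z, -, rfl⟩ := Finset.mem_map.mp hx
      exact z.2
    have hfb : ∀ k ∈ fixU O, k ∈ alternatingGroup Ω → (k ∈ M ↔ ∀ x ∈ T, k x ∈ T) := by
      intro k hk hkA
      obtain ⟨σ, rfl⟩ := exists_incl hk
      have h1 := hSL σ
      rw [Subgroup.mem_comap] at h1
      rw [h1, hT]
      constructor
      · rintro ⟨-, h2⟩ x hx
        obtain ⟨z, hz, rfl⟩ := Finset.mem_map.mp hx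
        exact Finset.mem_map.mpr ⟨σ z, h2 z hz, (incl_apply σ z).symm⟩
      · intro h2
        refine ⟨(incl_mem_alt σ).mp hkA, ?_⟩
        intro z hz
        have h3 := h2 z (Finset.mem_map.mpr ⟨z, hz, rfl⟩)
        rw [incl_apply] at h3
        obtain ⟨w, hw, hwz⟩ := Finset.mem_map.mp h3
        have : w = σ z := Subtype.ext hwz
        rwa [← this]
    have hMT : M ≤ setStab T := by
      intro g hg
      -- if `a ∈ T ∩ gT` then `T ⊆ gT`
      have step : ∀ x ∈ T, g x ∈ T → ∀ z ∈ T, g⁻¹ z ∈ T := by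
        intro x hx hgx z hz
        by_cases hxz : z = g x
        · rw [hxz, inv_apply]; exact hx
        have hc3 : 0 < (T \ {g x, z}).card := by
          have h1 := Finset.le_card_sdiff ({g x, z} : Finset Ω) T
          have h2 := Finset.card_le_two (a := g x) (b := z)
          omega
        obtain ⟨w, hw⟩ := Finset.card_pos.mp hc3
        rw [Finset.mem_sdiff] at hw
        simp only [Finset.mem_insert, Finset.mem_singleton, not_or] at hw
        have hκA := c3_mem (a := g x) (b := z) (c := w) (Ne.symm hxz) (Ne.symm hw.2.2)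
        have hκf : c3 (g x) z w ∈ fixU O := by
          intro v hv
          exact c3_other (fun h => hv (h ▸ hTO hgx)) (fun h => hv (h ▸ hTO hz))
            (fun h => hv (h ▸ hTO hw.1))
        have hκM := (hfb _ hκf hκA).mpr (c3_preserves hgx hz hw.1)
        have h3 := (conj_mem_iff hg _).mpr hκM
        have h4 := (hfb _ (hconjfix g hg _ hκf) (hM.1 h3)).mp h3 x hx
        rw [Perm.mul_apply, Perm.mul_apply, c3_left (Ne.symm hxz) (Ne.symm hw.2.1)] at h4
        exact h4
      by_cases hex : ∃ x ∈ T, g x ∈ T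
      · obtain ⟨x, hx, hgx⟩ := hex
        have h1 := inv_preserves (g := g⁻¹) (step x hx hgx)
        rw [inv_inv] at h1
        exact mem_setStab_of_forall h1
      · exfalso
        push Not at hex
        have h1 : T.map g.toEmbedding ⊆ O \ T := by
          intro z hz
          obtain ⟨x, hx, rfl⟩ := Finset.mem_map.mp hz
          rw [Finset.mem_sdiff]
          exact ⟨(hMO hg x).mpr (hTO hx), hex x hx⟩
        have h2 := Finset.card_le_card h1
        rw [Finset.card_map, Finset.card_sdiff_of_subset hTO, hTcard, h7] at h2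
        omega
    have h1 : T = orbF M x0 := by
      apply eq_orbF (by rw [← hO]; exact hTO) ?_ hMT
      rw [← Finset.card_pos]; omega
    rw [← hO] at h1
    rw [h1] at hTcard
    omega
  · -- `|O| = 8`
    exfalso
    obtain ⟨h8, hπ, -⟩ := hD
    rw [hcardO] at h8
    have h2π : 2 ∈ π := (hπ 2 Nat.prime_two (by norm_num)).mpr (Or.inl rfl)
    have h3π : 3 ∈ π := (hπ 3 Nat.prime_three (by norm_num)).mpr (Or.inr rfl)
    have hyO := hylt h2π (by omega)
    have hnc := ChooseDiv.nocarry Nat.prime_three (hndvd' 3 Nat.prime_three h3π) 2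
    rw [h8] at hnc hyO
    omega

/-- **Theorem (P. Hall, Thompson).** -/
theorem main_aux : ∀ (n : ℕ) (Ω : Type u) [Fintype Ω] [DecidableEq Ω], Fintype.card Ω = n →
    ∀ (π : Set ℕ) (M : Subgroup (Perm Ω)), Cfsg.IsPiHallOf π M (alternatingGroup Ω) →
    (∃ r s : ℕ, r.Prime ∧ s.Prime ∧ r < s ∧ r ∈ π ∧ s ∈ π ∧ s ≤ n) → Concl π M := by
  intro n
  induction n using Nat.strong_induction_on with
  | _ n ih =>
    intro Ω _ _ hn π M hM hex
    have IH : ∀ (U : Finset Ω), U.card < Fintype.card Ω →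
      ∀ (L : Subgroup (Perm {x // x ∈ U})),
      Cfsg.IsPiHallOf π L (alternatingGroup {x // x ∈ U}) →
      (∃ r s : ℕ, r.Prime ∧ s.Prime ∧ r < s ∧ r ∈ π ∧ s ∈ π ∧ s ≤ U.card) → Concl π L := by
      intro U hU L hL hex'
      exact ih U.card (hn ▸ hU) {x // x ∈ U} (Fintype.card_coe U) π L hL hex'
    obtain ⟨r, s, hr, hs, hrs, hrπ, hsπ, hsn⟩ := hex
    rw [← hn] at hsn
    by_cases htr : ∃ α, orbF M α = Finset.univ
    · obtain ⟨α, hα⟩ := htr
      exact transitive_case IH hM hr hs hrs hrπ hsπ hsn hα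
    · push Not at htr
      exact intransitive_case IH hM hr hs hrs hrπ hsπ hsn htr

/-- **Theorem (P. Hall, Thompson).**  Structure of the Hall `π`-subgroups of the alternating
group when two primes of `π` are at most the degree. -/
theorem main {π : Set ℕ} {M : Subgroup (Perm Ω)}
    (hM : Cfsg.IsPiHallOf π M (alternatingGroup Ω)) {r s : ℕ} (hr : r.Prime) (hs : s.Prime)
    (hrs : r < s) (hrπ : r ∈ π) (hsπ : s ∈ π) (hsn : s ≤ Fintype.card Ω) : Concl π M :=
  main_aux _ Ω rfl π M hM ⟨r, s, hr, hs, hrs, hrπ, hsπ, hsn⟩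

end Cfsg.Agent.H165.HallAlt
end

-- part: H324/Hall/Alt
section
/-!
# `PartB` for alternating groups
-/

set_option autoImplicit false
set_option linter.unusedSectionVars false

open Module Cfsg

universe u

namespace Cfsg.Agent.H324.Hall

theorem bigDeg_alt {r : ℕ} (hr : r.Prime) (h7 : 7 ≤ r) : BigDeg ↥(alternatingGroup (Fin r)) (r - 2) := by
  have hlow : H189.AltOddDim.Low.{0, 0} ℂ r (r - 1) := by
    rcases Nat.lt_or_ge r 9 with h9 | h9
    · obtain rfl : r = 7 := by
        interval_cases r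
        · rfl
        · exact absurd hr (by norm_num)
      exact AltSeven.low_seven_six
    · have h1 := H189.AltOddDim.low_odd.{0, 0} (k := ℂ) (by norm_num) 0 r h9
      rwa [if_neg (by rw [Nat.zero_dvd]; omega), Nat.sub_zero] at h1
  intro m σ hσ
  let ρ : ↥(alternatingGroup (Fin r)) →* End ℂ (Fin m → ℂ) :=
    (Matrix.toLinAlgEquiv' : Matrix (Fin m) (Fin m) ℂ ≃ₐ[ℂ] _).toAlgHom.toRingHom.toMonoidHom.comp
      ((Units.coeHom (Matrix (Fin m) (Fin m) ℂ)).comp σ)
  have h1 := hlow (Fin m → ℂ) ρ (by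
    by_contra hcon
    push Not at hcon
    apply hσ
    ext1 g
    apply Units.ext
    exact (Matrix.toLinAlgEquiv' : Matrix (Fin m) (Fin m) ℂ ≃ₐ[ℂ] _).injective ((hcon g).trans (map_one _).symm))
  rw [Module.finrank_fin_fun] at h1
  omega

variable {T : Type u} [Group T] [Finite T] [IsSimpleGroup T] {Y : Subgroup T} {n : ℕ} {S : Type u} [Group S]
  [IsSimpleGroup S] {A : Subgroup (MulAut T)}

theorem Frame.alt (f : Frame T Y n S A)
    (hFT : ∀ (X : Type u) [Group X] [Finite X], Odd (Nat.card X) → Group.IsSolvable X)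
    {m : ℕ} (hm : 5 ≤ m) (e : T ≃* ↥(alternatingGroup (Fin m))) : Goal Y A f.conj_mem := by
  classical
  let M : Subgroup (Equiv.Perm (Fin m)) := (Y.map e.toMonoidHom).map (alternatingGroup (Fin m)).subtype
  have hMmem : ∀ y ∈ Y, ((e y : ↥(alternatingGroup (Fin m))) : Equiv.Perm (Fin m)) ∈ M := fun y hy =>
    ⟨e y, ⟨y, hy, rfl⟩, rfl⟩
  have hMof : ∀ g : ↥(alternatingGroup (Fin m)), (g : Equiv.Perm (Fin m)) ∈ M → e.symm g ∈ Y := by
    rintro g ⟨g', ⟨y, hy, rfl⟩, hg'⟩
    have h1 : e.toMonoidHom y = g := Subtype.ext hg'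
    rw [← h1]
    show e.symm (e y) ∈ Y
    rwa [MulEquiv.symm_apply_apply]
  have hMle : M ≤ alternatingGroup (Fin m) := by
    rintro g ⟨g', -, rfl⟩
    exact g'.2
  have hMcard : Nat.card M = Nat.card Y := by
    show Nat.card ((Y.map e.toMonoidHom).map (alternatingGroup (Fin m)).subtype : Subgroup _) = _
    rw [Subgroup.card_map_of_injective (Subgroup.subtype_injective _), Subgroup.card_map_of_injective e.injective]
  have hMidx : M.relIndex (alternatingGroup (Fin m)) = Y.index := by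
    have h1 : M.subgroupOf (alternatingGroup (Fin m)) = Y.map e.toMonoidHom := by
      ext g
      rw [Subgroup.mem_subgroupOf]
      constructor
      · intro hg
        exact ⟨e.symm g, hMof g hg, e.apply_symm_apply g⟩
      · rintro ⟨y, hy, rfl⟩
        exact hMmem y hy
    show (M.subgroupOf (alternatingGroup (Fin m))).index = Y.index
    rw [h1]
    exact Subgroup.index_map_equiv Y e
  let π : Set ℕ := {p | p ∣ Nat.card Y}
  have hHall : Cfsg.IsPiHallOf π M (alternatingGroup (Fin m)) := by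
    refine ⟨hMle, fun p _ hp => by rwa [hMcard] at hp, fun p hp hpπ hpi => ?_⟩
    rw [hMidx] at hpi
    have h2 := Nat.dvd_gcd hpπ hpi
    rw [f.cop] at h2
    exact hp.one_lt.ne' (Nat.dvd_one.1 h2)
  have h2π : 2 ∈ π := f.two_dvd hFT
  -- every prime in `π` is at most `m`
  have hle : ∀ p : ℕ, p.Prime → p ∈ π → p ≤ m := by
    intro p hp hpπ
    have h3 : p ∣ Nat.card ↥(alternatingGroup (Fin m)) := by
      rw [← Nat.card_congr e.toEquiv]
      exact dvd_trans hpπ (Subgroup.card_subgroup_dvd_card Y)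
    have h4 : p ∣ Nat.card (Equiv.Perm (Fin m)) := h3.trans (Subgroup.card_subgroup_dvd_card _)
    rw [Nat.card_eq_fintype_card, Fintype.card_perm, Fintype.card_fin] at h4
    exact (hp.dvd_factorial).1 h4
  obtain ⟨s, hs, hsπ, h2s⟩ : ∃ s : ℕ, s.Prime ∧ s ∈ π ∧ 2 < s := by
    by_contra hcon
    push Not at hcon
    refine f.not_solvable (H497.isSolvable_of_two_primes Nat.prime_two Nat.prime_three (by norm_num) ?_)
    intro r hr hrY
    have := hcon r hr hrY
    have := hr.two_le
    left; omega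
  have hC := H165.HallAlt.main hHall Nat.prime_two hs h2s h2π hsπ (by
    rw [Fintype.card_fin]; exact hle s hs hsπ)
  have hsolv : (∀ r : ℕ, r.Prime → r ∈ π → r = 2 ∨ r = 3) → False := fun h =>
    f.not_solvable (H497.isSolvable_of_two_primes Nat.prime_two Nat.prime_three (by norm_num) h)
  rcases hC with ⟨h1, -⟩ | ⟨h1, h2, a, ha⟩ | ⟨h1, h2, -⟩ | ⟨h1, h2, -⟩
  · exfalso
    apply f.ne_top
    rw [eq_top_iff]
    intro t _
    have h2 := hMof (e t) (by rw [h1]; exact (e t).2)
    rwa [MulEquiv.symm_apply_apply] at h2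
  · rw [Fintype.card_fin] at h1
    have hm7 : 7 ≤ m := by
      by_contra hlt
      have h5 : m = 5 := by
        have h6 : m ≠ 6 := by rintro rfl; revert h1; norm_num
        omega
      subst h5
      refine hsolv fun r hr hrπ => ?_
      have h3 : r < 5 := by
        have := (h2 r hr (by rw [Fintype.card_fin]; exact hle r hr hrπ)).1 hrπ
        rwa [Fintype.card_fin] at this
      have := hr.two_le
      interval_cases r
      · left; rfl
      · right; rfl
      · exact absurd hr (by norm_num)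
    have h6 : m ≠ 6 := by omega
    let Φ : A →* Equiv.Perm (Fin m) :=
      (autAlt m (by omega) h6).toMonoidHom.comp ((MulAut.congr e).toMonoidHom.comp A.subtype)
    have hΦinj : Function.Injective Φ :=
      (autAlt m (by omega) h6).injective.comp ((MulAut.congr e).injective.comp A.subtype_injective)
    have hΦ : ∀ (α : A) (t : T), ((e (α.1 t) : ↥(alternatingGroup (Fin m))) : Equiv.Perm (Fin m)) =
        Φ α * (e t : ↥(alternatingGroup (Fin m))) * (Φ α)⁻¹ := by
      intro α t
      have h3 := autAlt_apply m (by omega) h6 ((MulAut.congr e) α.1) (e t)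
      refine Eq.trans ?_ h3
      congr 1
      show e (α.1 t) = e (α.1 (e.symm (e t)))
      rw [MulEquiv.symm_apply_apply]
    have hfix : ∀ α : A, Φ α a = a := by
      intro α
      by_contra hne
      set σ := Φ α with hσ
      -- a point `c ≠ a` with `σ c = a`
      have hc : σ (σ⁻¹ a) = a := σ.apply_symm_apply a
      have hca : σ⁻¹ a ≠ a := by
        intro h
        rw [h] at hc
        exact hne hc
      set c := σ⁻¹ a with hcdef
      obtain ⟨x, hx⟩ : ∃ x : Fin m, x ∉ ({a, c} : Finset (Fin m)) := by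
        by_contra hcon
        push Not at hcon
        have h3 := Finset.card_le_card (Finset.subset_univ ({a, c} : Finset (Fin m)))
        have h4 : (Finset.univ : Finset (Fin m)) ⊆ {a, c} := fun x _ => hcon x
        have h5 := (Finset.card_le_card h4).trans Finset.card_le_two
        rw [Finset.card_univ, Fintype.card_fin] at h5
        omega
      obtain ⟨z, hz⟩ : ∃ z : Fin m, z ∉ ({a, c, x} : Finset (Fin m)) := by
        by_contra hcon
        push Not at hcon
        have h4 : (Finset.univ : Finset (Fin m)) ⊆ {a, c, x} := fun x _ => hcon x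
        have h5 := (Finset.card_le_card h4).trans Finset.card_le_three
        rw [Finset.card_univ, Fintype.card_fin] at h5
        omega
      simp only [Finset.mem_insert, Finset.mem_singleton, not_or] at hx hz
      obtain ⟨xa, xc⟩ := hx
      obtain ⟨za, zc, zx⟩ := hz
      let g : Equiv.Perm (Fin m) := Equiv.swap c x * Equiv.swap x z
      have hgalt : g ∈ alternatingGroup (Fin m) := by
        rw [Equiv.Perm.mem_alternatingGroup, Equiv.Perm.sign_mul, Equiv.Perm.sign_swap (Ne.symm xc),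
          Equiv.Perm.sign_swap (Ne.symm zx)]
        norm_num
      have hga : g a = a := by
        show Equiv.swap c x (Equiv.swap x z a) = a
        rw [Equiv.swap_apply_of_ne_of_ne (Ne.symm xa) (Ne.symm za),
          Equiv.swap_apply_of_ne_of_ne (Ne.symm hca) (Ne.symm xa)]
      have hgc : g c = x := by
        show Equiv.swap c x (Equiv.swap x z c) = x
        rw [Equiv.swap_apply_of_ne_of_ne (Ne.symm xc) (Ne.symm zc), Equiv.swap_apply_left]
      have hgM : g ∈ M := (ha g).2 ⟨hgalt, hga⟩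
      have hy := hMof ⟨g, hgalt⟩ hgM
      have hy2 := hMmem _ (f.stable α.1 α.2 _ hy)
      rw [hΦ, MulEquiv.apply_symm_apply, ← hσ] at hy2
      have h3 := ((ha _).1 hy2).2
      have h4 : σ (g c) = a := h3
      rw [hgc] at h4
      have h5 : σ x = σ c := h4.trans hc.symm
      exact xc (σ.injective h5)
    let B : A →* Equiv.Perm {x : Fin m // x ≠ a} :=
      { toFun := fun α => (Φ α).subtypePerm (fun x => by
          constructor
          · intro hx h3
            apply hx
            rw [h3, hfix α]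
          · intro hx h3
            apply hx
            apply (Φ α).injective
            rw [h3, hfix α])
        map_one' := by
          ext x
          show ((Φ 1 (x : Fin m) : Fin m) : ℕ) = _
          rw [map_one]; rfl
        map_mul' := fun α β => by
          ext x
          show ((Φ (α * β) (x : Fin m) : Fin m) : ℕ) = _
          rw [map_mul]; rfl }
    have hBinj : ∀ α : A, B α = 1 → α = 1 := by
      intro α hα
      apply hΦinj
      rw [map_one]
      ext x : 1
      rcases eq_or_ne x a with rfl | hx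
      · exact hfix α
      · have h3 := congrArg (fun τ : Equiv.Perm {x : Fin m // x ≠ a} => ((τ ⟨x, hx⟩ : {x : Fin m // x ≠ a}) : Fin m)) hα
        exact h3
    refine f.goal_of_action B ?_ ?_
    · obtain ⟨y, hy, hy1⟩ : ∃ y ∈ Y, y ≠ 1 := by
        by_contra hcon
        push Not at hcon
        exact f.ne_bot ((Subgroup.eq_bot_iff_forall Y).2 hcon)
      refine ⟨y, hy, fun h => hy1 ?_⟩
      have h3 := congrArg Subtype.val (hBinj _ h)
      apply conj_injective f.nc
      rw [map_one]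
      exact h3
    · have h3 : Nat.card {x : Fin m // x ≠ a} = m - 1 := by
        rw [Nat.card_eq_fintype_card, Fintype.card_subtype_compl, Fintype.card_fin, Fintype.card_subtype_eq]
      rw [h3]
      exact ((bigDeg_alt h1 hm7).congr e).mono (by omega)
  · exfalso
    rw [Fintype.card_fin] at h1
    exact hsolv fun r hr hrπ => (h2 r hr (h1 ▸ hle r hr hrπ)).1 hrπ
  · exfalso
    rw [Fintype.card_fin] at h1
    exact hsolv fun r hr hrπ => (h2 r hr (h1 ▸ hle r hr hrπ)).1 hrπ

end Cfsg.Agent.H324.Hall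
end

private theorem dce_5662bb88ad89 : _root_.True := by
  try have : _root_.True := by simp only [_root_.Cfsg.Agent.H165.HallAlt.c3.eq_1]
  exact _root_.True.intro
end

-- part: H324/Hall/Final
section
prune_inst 0x405204c00116000004000051000000084510000000000000048200000080002000082080000800004022800810001002813000030420000000a000000000104010001840000000008200000000000010000000000000000000000000000000004204010000
set_option linter.all false
open scoped Cfsg.Agent.FastGrp

-- part: H324/Hall/Heis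
section
/-!
# Heisenberg groups in representations

A representation in which the centre `z` of a Heisenberg group `⟨z, x_i, y_i⟩` over `F` (`i < k`) acts nontrivially
has degree at least `|F| ^ k`.
-/

set_option autoImplicit false
set_option linter.unusedSectionVars false

open Module Cfsg

universe u

namespace Cfsg.Agent.H324.Hall

open Cfsg.Agent.H121.Wt

section

variable {F : Type*} [Field F] [Fintype F]

theorem exists_shift {φ : AddChar F ℂ} (hφ : φ ≠ 1) (ψ : AddChar F ℂ) : ∃ d : F, ∀ a, ψ a = φ (d * a) := by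
  classical
  have hinj : Function.Injective (fun d : F => AddChar.mulShift φ d) :=
    fun a b h => AddChar.to_mulShift_inj_of_isPrimitive (AddChar.IsPrimitive.of_ne_one hφ) h
  have hb : Function.Bijective (fun d : F => AddChar.mulShift φ d) := by
    rw [Fintype.bijective_iff_injective_and_card]
    exact ⟨hinj, (AddChar.card_eq (α := F)).symm⟩
  obtain ⟨d, hd⟩ := hb.2 ψ
  exact ⟨d, fun a => by rw [← hd, AddChar.mulShift_apply]⟩

/-- The data of a Heisenberg group of rank `k` over `F`. -/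
structure Heis {G : Type*} [Group G] (z : F → G) (x y : ℕ → F → G) (ε : ℕ → F) (k : ℕ) : Prop where
  eps : ∀ i < k, ε i ≠ 0
  zero : ∀ i < k, x i 0 = 1
  add : ∀ i < k, ∀ a b, x i (a + b) = x i a * x i b
  xx : ∀ i < k, ∀ j < k, i ≠ j → ∀ a b, x i a * x j b = x j b * x i a
  xy : ∀ i < k, ∀ j < k, i ≠ j → ∀ a b, x i a * y j b = y j b * x i a
  c : ∀ i < k, ∀ a b, x i a * y i b = z (ε i * a * b) * y i b * x i a
  zx : ∀ i < k, ∀ a b, z a * x i b = x i b * z a
  zy : ∀ i < k, ∀ a b, z a * y i b = y i b * z a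

variable {G : Type*} [Group G] {z : F → G} {x y : ℕ → F → G} {ε : ℕ → F}

theorem Heis.pred {k : ℕ} (H : Heis z x y ε (k + 1)) : Heis z x y ε k where
  eps i hi := H.eps i (by omega)
  zero i hi := H.zero i (by omega)
  add i hi := H.add i (by omega)
  xx i hi j hj := H.xx i (by omega) j (by omega)
  xy i hi j hj := H.xy i (by omega) j (by omega)
  c i hi := H.c i (by omega)
  zx i hi := H.zx i (by omega)
  zy i hi := H.zy i (by omega)

variable {V : Type*} [AddCommGroup V] [Module ℂ V] [FiniteDimensional ℂ V] (ρ : Representation ℂ G V)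

theorem Heis.le_finrank {k : ℕ} (H : Heis z x y ε k) {φ : AddChar F ℂ} (hφ : φ ≠ 1) (U : Submodule ℂ V) (hU : U ≠ ⊥)
    (hUz : ∀ v ∈ U, ∀ a, ρ (z a) v = φ a • v) (hUx : ∀ i < k, ∀ a, ∀ v ∈ U, ρ (x i a) v ∈ U)
    (hUy : ∀ i < k, ∀ a, ∀ v ∈ U, ρ (y i a) v ∈ U) : Fintype.card F ^ k ≤ finrank ℂ U := by
  classical
  induction k generalizing U with
  | zero =>
    rw [pow_zero]
    have h1 : finrank ℂ U ≠ 0 := fun h => hU (Submodule.finrank_eq_zero.1 h)
    omega
  | succ k ih =>
    have hk : k < k + 1 := Nat.lt_succ_self k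
    let R : F → Module.End ℂ U := fun a => (ρ (x k a)).restrict (hUx k hk a)
    have hR : IsAct R :=
      { zero := by
          ext v
          show ρ (x k 0) v = v
          rw [H.zero k hk, map_one]; rfl
        add := fun a b => by
          ext v
          show ρ (x k (a + b)) v = ρ (x k a) (ρ (x k b) v)
          rw [H.add k hk, map_mul]; rfl }
    let W : AddChar F ℂ → Submodule ℂ V := fun ψ => (wt R ψ).map U.subtype
    have hW : ∀ ψ v, v ∈ W ψ ↔ v ∈ U ∧ ∀ a, ρ (x k a) v = ψ a • v := by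
      intro ψ v
      constructor
      · rintro ⟨w, hw, rfl⟩
        exact ⟨w.2, fun a => congrArg Subtype.val (hw a)⟩
      · rintro ⟨hv, h⟩
        exact ⟨⟨v, hv⟩, fun a => Subtype.ext (h a), rfl⟩
    have hfin : ∀ ψ, finrank ℂ (W ψ) = finrank ℂ (wt R ψ) := fun ψ => Submodule.finrank_map_subtype_eq U (wt R ψ)
    have hsum : ∑ ψ, finrank ℂ (W ψ) = finrank ℂ U := by
      rw [← sum_finrank hR]
      exact Finset.sum_congr rfl fun ψ _ => hfin ψ
    -- a nonzero weight space
    obtain ⟨ψ0, hψ0⟩ : ∃ ψ, W ψ ≠ ⊥ := by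
      by_contra hcon
      push Not at hcon
      apply hU
      rw [← Submodule.finrank_eq_zero (R := ℂ), ← hsum]
      exact Finset.sum_eq_zero fun ψ _ => by rw [hcon ψ, finrank_bot]
    -- all weight spaces are nonzero
    have hall : ∀ ψ, W ψ ≠ ⊥ := by
      intro ψ
      obtain ⟨v, hv, hv0⟩ := (Submodule.ne_bot_iff _).1 hψ0
      obtain ⟨hvU, hvx⟩ := (hW ψ0 v).1 hv
      obtain ⟨d, hd⟩ := exists_shift hφ (ψ * ψ0⁻¹)
      have heps := H.eps k hk
      let b : F := (ε k)⁻¹ * d
      rw [Submodule.ne_bot_iff]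
      refine ⟨ρ (y k b) v, (hW ψ _).2 ⟨hUy k hk b v hvU, fun a => ?_⟩, fun h0 => hv0 ?_⟩
      · have h1 : ρ (x k a) (ρ (y k b) v) = ρ (z (ε k * a * b)) (ρ (y k b) (ρ (x k a) v)) := by
          have h2 := congrArg (fun g => ρ g v) (H.c k hk a b)
          simp only [map_mul, Module.End.mul_apply] at h2
          exact h2
        rw [h1, hvx a, map_smul, map_smul, hUz _ (hUy k hk b v hvU), smul_smul]
        congr 1
        have h3 := hd a
        rw [AddChar.mul_apply, AddChar.inv_apply] at h3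
        have h4 : ε k * a * b = d * a := by
          show ε k * a * ((ε k)⁻¹ * d) = d * a
          field_simp
        rw [h4, ← h3]
        have h5 : ψ0 (-a) * ψ0 a = 1 := neg_mul_self ψ0 a
        calc ψ0 a * (ψ a * ψ0 (-a)) = ψ a * (ψ0 (-a) * ψ0 a) := by ring
          _ = ψ a := by rw [h5, mul_one]
      · have h1 : ρ (y k b)⁻¹ (ρ (y k b) v) = v := by
          rw [← Module.End.mul_apply, ← map_mul, inv_mul_cancel, map_one]; rfl
        rw [← h1, h0, map_zero]
    have hle : ∀ ψ, Fintype.card F ^ k ≤ finrank ℂ (W ψ) := by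
      intro ψ
      refine ih H.pred (W ψ) (hall ψ) (fun v hv a => hUz v ((hW ψ v).1 hv).1 a) ?_ ?_
      · intro i hi a v hv
        obtain ⟨hvU, hvx⟩ := (hW ψ v).1 hv
        refine (hW ψ _).2 ⟨hUx i (by omega) a v hvU, fun b => ?_⟩
        rw [← Module.End.mul_apply, ← map_mul, H.xx k hk i (by omega) (by omega) b a, map_mul, Module.End.mul_apply,
          hvx b, map_smul]
      · intro i hi a v hv
        obtain ⟨hvU, hvx⟩ := (hW ψ v).1 hv
        refine (hW ψ _).2 ⟨hUy i (by omega) a v hvU, fun b => ?_⟩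
        rw [← Module.End.mul_apply, ← map_mul, H.xy k hk i (by omega) (by omega) b a, map_mul, Module.End.mul_apply,
          hvx b, map_smul]
    have hcard : Fintype.card (AddChar F ℂ) = Fintype.card F := AddChar.card_eq
    calc Fintype.card F ^ (k + 1) = ∑ _ψ : AddChar F ℂ, Fintype.card F ^ k := by
          rw [Finset.sum_const, Finset.card_univ, hcard, smul_eq_mul, pow_succ, mul_comm]
      _ ≤ ∑ ψ, finrank ℂ (W ψ) := Finset.sum_le_sum fun ψ _ => hle ψ
      _ = finrank ℂ U := hsum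

/-- **The bound.** -/
theorem Heis.bigDeg {T : Type*} [Group T] [IsSimpleGroup T] {z : F → T} {x y : ℕ → F → T} {k : ℕ}
    (H : Heis z x y ε k) (hz0 : z 0 = 1) (hz : ∀ a b, z (a + b) = z a * z b) (hz1 : ∃ a, z a ≠ 1) {d : ℕ}
    (hd : d < Fintype.card F ^ k) : BigDeg T d := by
  classical
  refine bigDeg_of_rep fun m ρ hρ => ?_
  -- `ρ` is faithful
  have hker : ρ.ker = ⊥ := by
    rcases (inferInstance : ρ.ker.Normal).eq_bot_or_eq_top with h1 | h1
    · exact h1
    · exfalso
      obtain ⟨g, hg⟩ := hρ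
      apply hg
      have : g ∈ ρ.ker := by rw [h1]; trivial
      exact this
  obtain ⟨a, ha⟩ := hz1
  have ha' : ρ (z a) ≠ 1 := by
    intro h
    apply ha
    have h1 : z a ∈ ρ.ker := h
    rwa [hker, Subgroup.mem_bot] at h1
  let R : F → Module.End ℂ (Fin m → ℂ) := fun a => ρ (z a)
  have hR : IsAct R := ⟨by show ρ (z 0) = 1; rw [hz0, map_one], fun a b => by show ρ (z (a + b)) = _; rw [hz, map_mul]⟩
  obtain ⟨φ, hφ, hφ1⟩ : ∃ φ : AddChar F ℂ, φ ≠ 1 ∧ wt R φ ≠ ⊥ := by
    by_contra hcon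
    push Not at hcon
    have hs := sum_finrank hR
    have h1 : finrank ℂ (wt R 1) = finrank ℂ (Fin m → ℂ) := by
      rw [← hs]
      symm
      apply Finset.sum_eq_single_of_mem (1 : AddChar F ℂ) (Finset.mem_univ _)
      intro φ _ hφ
      rw [hcon φ hφ, finrank_bot]
    have h2 := Submodule.eq_top_of_finrank_eq h1
    apply ha'
    refine LinearMap.ext fun v => ?_
    have h3 : v ∈ wt R 1 := by rw [h2]; trivial
    have h4 := h3 a
    rw [AddChar.one_apply, one_smul] at h4
    exact h4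
  have h1 := H.le_finrank ρ hφ (wt R φ) hφ1 (fun v hv a => hv a)
    (fun i hi a v hv b => by
      show ρ (z b) (ρ (x i a) v) = φ b • ρ (x i a) v
      have hv' : ρ (z b) v = φ b • v := hv b
      rw [← Module.End.mul_apply, ← map_mul, H.zx i hi, map_mul, Module.End.mul_apply, hv', map_smul])
    (fun i hi a v hv b => by
      show ρ (z b) (ρ (y i a) v) = φ b • ρ (y i a) v
      have hv' : ρ (z b) v = φ b • v := hv b
      rw [← Module.End.mul_apply, ← map_mul, H.zy i hi, map_mul, Module.End.mul_apply, hv', map_smul])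
  have h2 := Submodule.finrank_le (wt R φ)
  rw [Module.finrank_fin_fun] at h2
  omega

end

end Cfsg.Agent.H324.Hall
end

-- part: H324/Hall/HeisTab
section
/-!
# Heisenberg groups in the Chevalley groups, from the tables
-/

set_option autoImplicit false
set_option linter.unusedSectionVars false
set_option maxRecDepth 100000

open Module Cfsg

universe u

namespace Cfsg.Agent.H324.Hall

open Cfsg.Lie Cfsg.Agent.ChevalleyStructure.Elts Cfsg.Agent.TitsThree.KExcBase
open scoped commutatorElement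

section restrict

variable {F K : Type*} [Field F] [Field K] {G : Type*} [Group G]

theorem Heis.restrict (ι : F →+* K) (B : Subgroup G) {z : K → G} {x y : ℕ → K → G} {c : ℕ → ℤ} {k : ℕ}
    (H : Heis z x y (fun i => ((c i : ℤ) : K)) k) (hz : ∀ t, z (ι t) ∈ B) (hx : ∀ i, ∀ t, x i (ι t) ∈ B)
    (hy : ∀ i, ∀ t, y i (ι t) ∈ B) :
    Heis (F := F) (fun t => (⟨z (ι t), hz t⟩ : B)) (fun i t => ⟨x i (ι t), hx i t⟩) (fun i t => ⟨y i (ι t), hy i t⟩)
      (fun i => ((c i : ℤ) : F)) k where
  eps i hi := by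
    intro h
    apply H.eps i hi
    have h1 := congrArg ι h
    rwa [map_intCast, map_zero] at h1
  zero i hi := Subtype.ext (by
    show x i (ι 0) = 1
    rw [map_zero]; exact H.zero i hi)
  add i hi a b := Subtype.ext (by
    show x i (ι (a + b)) = x i (ι a) * x i (ι b)
    rw [map_add]; exact H.add i hi _ _)
  xx i hi j hj hij a b := Subtype.ext (H.xx i hi j hj hij _ _)
  xy i hi j hj hij a b := Subtype.ext (H.xy i hi j hj hij _ _)
  c i hi a b := Subtype.ext (by
    show x i (ι a) * y i (ι b) = z (ι (((c i : ℤ) : F) * a * b)) * y i (ι b) * x i (ι a)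
    rw [map_mul, map_mul, map_intCast]
    exact H.c i hi _ _)
  zx i hi a b := Subtype.ext (H.zx i hi _ _)
  zy i hi a b := Subtype.ext (H.zy i hi _ _)

end restrict

/-- the root elements of `r`, `s` commute -/
def Nil (D : ChevalleyDatum) (r s : ℕ) : Prop :=
  r < D.nroots ∧ s < D.nroots ∧ s ≠ r ∧ s ≠ D.neg r ∧ D.commTerms r s = []

instance instDecNil (D : ChevalleyDatum) (r s : ℕ) : Decidable (Nil D r s) := by unfold Nil; infer_instance

/-- the commutator of the root elements of `r`, `s` is one root element -/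
def One (D : ChevalleyDatum) (r s z : ℕ) (c : ℤ) : Prop :=
  r < D.nroots ∧ s < D.nroots ∧ s ≠ r ∧ s ≠ D.neg r ∧ D.commTerms r s = [(z, c, 1, 1)]

instance instDecOne (D : ChevalleyDatum) (r s z : ℕ) (c : ℤ) : Decidable (One D r s z c) := by unfold One; infer_instance

/-- the table of a Heisenberg group -/
def Tab (D : ChevalleyDatum) (z : ℕ) (xs ys : List ℕ) (cs : List ℤ) (k : ℕ) : Prop :=
  z < D.nroots ∧
  (∀ i < k, ∀ j < k, i ≠ j → Nil D (xs.getD i 0) (xs.getD j 0)) ∧
  (∀ i < k, ∀ j < k, i ≠ j → Nil D (xs.getD i 0) (ys.getD j 0)) ∧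
  (∀ i < k, One D (xs.getD i 0) (ys.getD i 0) z (cs.getD i 0)) ∧
  (∀ i < k, Nil D z (xs.getD i 0)) ∧
  (∀ i < k, Nil D z (ys.getD i 0))

instance instDecTab (D : ChevalleyDatum) (z : ℕ) (xs ys : List ℕ) (cs : List ℤ) (k : ℕ) : Decidable (Tab D z xs ys cs k) := by
  unfold Tab; infer_instance

section

variable {D : ChevalleyDatum} (hD : InList D) {K : Type u} [Field K]

theorem Nil.comm {r s : ℕ} (h : Nil D r s) (a b : K) : xG hD r a * xG hD s b = xG hD s b * xG hD r a :=
  comm_nil hD h.1 h.2.1 h.2.2.1 h.2.2.2.1 h.2.2.2.2 a b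

theorem Tab.heis {z : ℕ} {xs ys : List ℕ} {cs : List ℤ} {k : ℕ} (h : Tab D z xs ys cs k)
    (hc : ∀ i < k, ((cs.getD i 0 : ℤ) : K) ≠ 0) :
    Heis (F := K) (fun t => xG hD z t) (fun i t => xG hD (xs.getD i 0) t) (fun i t => xG hD (ys.getD i 0) t)
      (fun i => ((cs.getD i 0 : ℤ) : K)) k := by
  obtain ⟨hz, hxx, hxy, hone, hzx, hzy⟩ := h
  refine
    { eps := hc
      zero := fun i _ => xG_zero hD _
      add := fun i _ a b => (xG_add hD _ a b).symm
      xx := fun i hi j hj hij a b => (hxx i hi j hj hij).comm hD a b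
      xy := fun i hi j hj hij a b => (hxy i hi j hj hij).comm hD a b
      c := fun i hi a b => ?_
      zx := fun i hi a b => (hzx i hi).comm hD a b
      zy := fun i hi a b => (hzy i hi).comm hD a b }
  obtain ⟨h1, h2, h3, h4, h5⟩ := hone i hi
  have h6 := comm_one (F := K) hD h1 h2 h3 h4 h5 (fun t u => ((hzx i hi).comm hD u t).symm)
    (fun t u => ((hzy i hi).comm hD u t).symm) a b
  show xG hD (xs.getD i 0) a * xG hD (ys.getD i 0) b =
    xG hD z (((cs.getD i 0 : ℤ) : K) * a * b) * xG hD (ys.getD i 0) b * xG hD (xs.getD i 0) a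
  rw [← h6, commutatorElement_def]
  group

end

theorem tab_g2 : Tab chevG2 11 [6, 8] [10, 9] [1, 3] 2 := by decide +kernel

theorem tab_e6 : Tab chevE6 71 [46, 47, 51, 53] [70, 69, 65, 63] [1, -1, -1, 1] 4 := by (refine of_decide_eq_true ?_; delta Cfsg.Agent.H324.Hall.Nil Cfsg.Agent.H324.Hall.One Cfsg.Agent.H324.Hall.Tab Cfsg.Agent.H324.Hall.instDecNil Cfsg.Agent.H324.Hall.instDecOne Cfsg.Agent.H324.Hall.instDecTab; rewrite [Cfsg.Agent.ChevFast.E6.commTerms, Cfsg.Agent.ChevFast.E6.neg]; decide +kernel)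

end Cfsg.Agent.H324.Hall
end

-- part: H324/Hall/FamExc
section
/-!
# `PartB` for the exceptional Chevalley groups in characteristic at least five, `p ∤ |Y|`
-/

set_option autoImplicit false
set_option linter.unusedSectionVars false
set_option maxRecDepth 100000

open Module Cfsg

universe u

namespace Cfsg.Agent.H324.Hall

open Cfsg.Lie Cfsg.Agent.ChevalleyStructure.Elts

theorem tab_f4 : Tab chevF4 47 [24, 26, 31, 32] [46, 45, 43, 42] [1, 1, -1, 1] 4 := by (refine of_decide_eq_true ?_; delta Cfsg.Agent.H324.Hall.Nil Cfsg.Agent.H324.Hall.One Cfsg.Agent.H324.Hall.Tab Cfsg.Agent.H324.Hall.instDecNil Cfsg.Agent.H324.Hall.instDecOne Cfsg.Agent.H324.Hall.instDecTab; rewrite [Cfsg.Agent.ChevFast.F4.commTerms, Cfsg.Agent.ChevFast.F4.neg]; decide +kernel)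

theorem tab_e7 : Tab chevE7 125 [93, 94, 95, 96] [124, 123, 122, 121] [1, -1, 1, -1] 4 := by (refine of_decide_eq_true ?_; delta Cfsg.Agent.H324.Hall.Nil Cfsg.Agent.H324.Hall.One Cfsg.Agent.H324.Hall.Tab Cfsg.Agent.H324.Hall.instDecNil Cfsg.Agent.H324.Hall.instDecOne Cfsg.Agent.H324.Hall.instDecTab; rewrite [Cfsg.Agent.ChevFast.E7.commTerms, Cfsg.Agent.ChevFast.E7.neg]; decide +kernel)

theorem tab_e8 : Tab chevE8 239 [120, 122, 125, 129] [238, 237, 236, 235] [1, 1, 1, 1] 4 := by (refine of_decide_eq_true ?_; delta Cfsg.Agent.H324.Hall.Nil Cfsg.Agent.H324.Hall.One Cfsg.Agent.H324.Hall.Tab Cfsg.Agent.H324.Hall.instDecNil Cfsg.Agent.H324.Hall.instDecOne Cfsg.Agent.H324.Hall.instDecTab; rewrite [Cfsg.Agent.ChevFast.E8.commTerms, Cfsg.Agent.ChevFast.E8.neg]; decide +kernel)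

theorem Heis.map {F : Type*} [Field F] {G G' : Type*} [Group G] [Group G'] {z : F → G} {x y : ℕ → F → G}
    {ε : ℕ → F} {k : ℕ} (H : Heis z x y ε k) (φ : G →* G') :
    Heis (fun t => φ (z t)) (fun i t => φ (x i t)) (fun i t => φ (y i t)) ε k where
  eps := H.eps
  zero i hi := by rw [H.zero i hi, map_one]
  add i hi a b := by rw [H.add i hi, map_mul]
  xx i hi j hj hij a b := by rw [← map_mul, H.xx i hi j hj hij, map_mul]
  xy i hi j hj hij a b := by rw [← map_mul, H.xy i hi j hj hij, map_mul]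
  c i hi a b := by rw [← map_mul, H.c i hi, map_mul, map_mul]
  zx i hi a b := by rw [← map_mul, H.zx i hi, map_mul]
  zy i hi a b := by rw [← map_mul, H.zy i hi, map_mul]

theorem pow_five_mul {q a k : ℕ} (hq : 5 ≤ q) (h5 : 5 * a ≤ q) : 5 ^ (k + 1) * a ≤ q ^ (k + 1) := by
  rw [pow_succ, pow_succ]
  calc 5 ^ k * 5 * a = 5 ^ k * (5 * a) := by ring
    _ ≤ q ^ k * q := Nat.mul_le_mul (Nat.pow_le_pow_left hq k) h5

/-- `|Out|` transported -/
theorem outLe_of_out {T : Type*} [Group T] {X : Type u} [Group X] (e : T ≃* X) {o : ℕ}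
    (h : Nat.card (Cfsg.Out X) ≤ o) : OutLe T o := by
  have h1 : OutLe X o := h
  exact h1.congr e

section

variable {T : Type u} [Group T] [Finite T] [IsSimpleGroup T] {Y : Subgroup T} {n : ℕ} {S : Type u} [Group S]
  [IsSimpleGroup S] {A : Subgroup (MulAut T)}

theorem Frame.chev (f : Frame T Y n S A) {p : ℕ} (hp : p.Prime) (hpY : ¬ p ∣ Nat.card Y) {F : Type} [Field F]
    [Fintype F] [CharP F p] {D : ChevalleyDatum} (hD : InList D) (e : T ≃* ↥(D.group F)) {z : ℕ} {xs ys : List ℕ}
    {cs : List ℤ} {k : ℕ} (tab : Tab D z xs ys cs k) (hc : ∀ i < k, ((cs.getD i 0 : ℤ) : F) ≠ 0) {o : ℕ}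
    (ho : OutLe T o) (h : o * (D.rank + D.nroots) < Fintype.card F ^ k) : Goal Y A f.conj_mem := by
  have H := ((tab.heis hD hc).restrict (RingHom.id F) (D.group F) (fun t => xG_mem_group hD _ _)
    (fun i t => xG_mem_group hD _ _) (fun i t => xG_mem_group hD _ _)).map e.symm.toMonoidHom
  have hcard : Fintype.card D.Idx = D.rank + D.nroots := by
    rw [Fintype.card_sum, Fintype.card_fin, Fintype.card_fin]
  refine f.goal_of_mat e hp hpY ((Units.coeHom (Matrix D.Idx D.Idx F)).comp (D.group F).subtype) ?_ ho ?_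
  · intro a b hab
    exact Subtype.ext (Units.ext hab)
  · rw [hcard]
    refine H.bigDeg ?_ ?_ ⟨1, ?_⟩ h
    · show e.symm ⟨xG hD z (0 : F), _⟩ = 1
      rw [EmbeddingLike.map_eq_one_iff]
      exact Subtype.ext (xG_zero hD z)
    · intro a b
      show e.symm ⟨xG hD z (a + b), _⟩ = e.symm ⟨xG hD z a, _⟩ * e.symm ⟨xG hD z b, _⟩
      rw [← map_mul]
      congr 1
      exact Subtype.ext (xG_add hD z a b).symm
    · show e.symm ⟨xG hD z (1 : F), _⟩ ≠ 1
      rw [Ne, EmbeddingLike.map_eq_one_iff]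
      intro h1
      have h2 : xG hD z (1 : F) = 1 := congrArg Subtype.val h1
      rw [xG_eq_one_iff hD tab.1] at h2
      exact one_ne_zero h2

theorem cast_ne {F : Type*} [Field F] {p : ℕ} (hp5 : 5 ≤ p) [CharP F p] {c : ℤ}
    (hc : c = 1 ∨ c = -1 ∨ c = 3) : ((c : ℤ) : F) ≠ 0 := by
  rcases hc with rfl | rfl | rfl
  · simp
  · simp
  · intro h
    have h1 : ((3 : ℕ) : F) = 0 := by exact_mod_cast h
    rw [CharP.cast_eq_zero_iff F p] at h1
    have := Nat.le_of_dvd (by norm_num) h1
    omega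

theorem Frame.excChev (f : Frame T Y n S A) {p : ℕ} (hp : p.Prime) (hp5 : 5 ≤ p) (hpY : ¬ p ∣ Nat.card Y)
    (h : IsExceptionalChevChar p T) : Goal Y A f.conj_mem := by
  obtain ⟨F, _, _, _, h⟩ := h
  obtain ⟨a, ha, hF⟩ := exists_pow F p
  have hpa : 5 ≤ p ^ a := le_trans hp5 (Nat.le_self_pow (by omega) p)
  have hfact : Fact p.Prime := ⟨hp⟩
  have h5 := five_mul_le hp5 ha
  have hq2 := pow_five_mul (k := 1) hpa h5
  have hq4 := pow_five_mul (k := 3) hpa h5
  rcases h with ⟨-, ⟨e⟩⟩ | ⟨⟨e⟩⟩ | ⟨⟨e⟩⟩ | ⟨⟨e⟩⟩ | ⟨⟨e⟩⟩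
  · have h1 := S2121.result (F := F) p a hF (by omega)
    rw [if_neg (by omega)] at h1
    refine f.chev hp hpY (by simp) e tab_g2 ?_ (outLe_of_out e (le_of_eq h1)) ?_
    · intro i hi
      interval_cases i
      · exact cast_ne hp5 (Or.inl rfl)
      · exact cast_ne hp5 (Or.inr (Or.inr rfl))
    · rw [hF, show chevG2.rank + chevG2.nroots = 14 from by decide +kernel]
      norm_num at hq2 ⊢
      omega
  · have h1 := S2122.result (F := F) p a hF
    refine f.chev hp hpY (by simp) e tab_f4 ?_ (outLe_of_out e (o := 2 * a) ?_) ?_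
    · intro i hi
      interval_cases i
      · exact cast_ne hp5 (Or.inl rfl)
      · exact cast_ne hp5 (Or.inl rfl)
      · exact cast_ne hp5 (Or.inr (Or.inl rfl))
      · exact cast_ne hp5 (Or.inl rfl)
    · rw [h1]
      exact Nat.mul_le_mul_right a (Nat.gcd_le_left _ (by norm_num))
    · rw [hF, show chevF4.rank + chevF4.nroots = 52 from by decide +kernel]
      norm_num at hq4 ⊢
      omega
  · have h1 := S2123.result (F := F) p a hF
    refine f.chev hp hpY (by simp) e tab_e6 ?_ (outLe_of_out e (o := 6 * a) ?_) ?_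
    · intro i hi
      interval_cases i
      · exact cast_ne hp5 (Or.inl rfl)
      · exact cast_ne hp5 (Or.inr (Or.inl rfl))
      · exact cast_ne hp5 (Or.inr (Or.inl rfl))
      · exact cast_ne hp5 (Or.inl rfl)
    · rw [h1]
      refine Nat.mul_le_mul_right a ?_
      have := Nat.gcd_le_left (p ^ a - 1) (show 0 < 3 by norm_num)
      omega
    · rw [hF, show chevE6.rank + chevE6.nroots = 78 from by decide +kernel]
      norm_num at hq4 ⊢
      omega
  · have h1 := S2124.result (F := F) p a hF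
    refine f.chev hp hpY (by simp) e tab_e7 ?_ (outLe_of_out e (o := 2 * a) ?_) ?_
    · intro i hi
      interval_cases i
      · exact cast_ne hp5 (Or.inl rfl)
      · exact cast_ne hp5 (Or.inr (Or.inl rfl))
      · exact cast_ne hp5 (Or.inl rfl)
      · exact cast_ne hp5 (Or.inr (Or.inl rfl))
    · rw [h1]
      exact Nat.mul_le_mul_right a (Nat.gcd_le_left _ (by norm_num))
    · rw [hF, show chevE7.rank + chevE7.nroots = 133 from by decide +kernel]
      norm_num at hq4 ⊢
      omega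
  · have h1 := S2125.result (F := F) p a hF
    refine f.chev hp hpY (by simp) e tab_e8 ?_ (outLe_of_out e (le_of_eq h1)) ?_
    · intro i hi
      interval_cases i
      · exact cast_ne hp5 (Or.inl rfl)
      · exact cast_ne hp5 (Or.inl rfl)
      · exact cast_ne hp5 (Or.inl rfl)
      · exact cast_ne hp5 (Or.inl rfl)
    · rw [hF, show chevE8.rank + chevE8.nroots = 248 from by decide +kernel]
      norm_num at hq4 ⊢
      omega

end

end Cfsg.Agent.H324.Hall
end

-- part: H324/Hall/FamTw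
section
/-!
# `PartB` for the twisted groups `²E₆`, `³D₄` in characteristic at least five, `p ∤ |Y|`
-/

set_option autoImplicit false
set_option linter.unusedSectionVars false
set_option maxRecDepth 100000

open Module Cfsg

universe u

namespace Cfsg.Agent.H324.Hall

open Cfsg.Lie Cfsg.Agent.ChevalleyStructure.Elts Cfsg.Agent.ChevalleyStructure
  Cfsg.Agent.ChevalleyStructure.TwistedU Cfsg.Agent.ChevalleyStructure.TwistedFix
  Cfsg.Agent.ChevalleyStructure.TwistedE6Sigma Cfsg.Agent.ChevalleyStructure.TwistedE6U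
  Cfsg.Agent.ChevalleyStructure.GraphSymm

/-- The long root elements of `²E₆(q)`. -/
theorem long_mem {K : Type u} [Field K] [Fintype K] {q : ℕ} {φ : K →+* K} (hφ : ∀ t, φ t = t ^ q)
    (hφφ : ∀ t, φ (φ t) = t) {r : ℕ} (hr : r ∈ [71, 46, 47, 51, 53, 70, 69, 65, 63, 0]) (hr0 : r ≠ 0) {t : K}
    (ht : φ t = t) : xG hE6 r t ∈ twistedE6 K q := by
  have h1 : ∀ s ∈ [71, 46, 47, 51, 53, 70, 69, 65, 63, 0], s ≠ 0 →
      s ∈ TwistedE6U.L.flatten ∧ s < 72 ∧ rho s = s ∧ eps s = 1 := by decide +kernel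
  obtain ⟨h2, h3, h4, h5⟩ := h1 r hr hr0
  have h6 : xG hE6 r t ∈ rspan (X (K := K)) {k | k ∈ TwistedE6U.L.flatten} ⊓ fixS (sig symmE6 φ) := by
    refine ⟨mem_rspan (X (K := K)) h2 t, ?_⟩
    show sig symmE6 φ (xG hE6 r t) = xG hE6 r t
    have h7 := sig_X φ h3 t
    rw [h4, h5, ht, Int.cast_one, one_mul] at h7
    exact h7
  rw [← TwistedE6Rel.posUnipotent_inf_eq hφ hφφ] at h6
  exact h6.2

section

variable {T : Type u} [Group T] [Finite T] [IsSimpleGroup T] {Y : Subgroup T} {n : ℕ} {S : Type u} [Group S]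
  [IsSimpleGroup S] {A : Subgroup (MulAut T)}

theorem Frame.twE6 (f : Frame T Y n S A) {p : ℕ} (hp : p.Prime) (hp5 : 5 ≤ p) (hpY : ¬ p ∣ Nat.card Y) {K : Type}
    [Field K] [Fintype K] [CharP K p] {q : ℕ} (hq : IsPrimePow q) (hK : Fintype.card K = q ^ 2)
    (e : T ≃* ↥(twistedE6 K q)) : Goal Y A f.conj_mem := by
  classical
  obtain ⟨a', ha', hF⟩ := exists_pow K p
  obtain ⟨a, -, hqa⟩ : ∃ a ≤ a', q = p ^ a := (Nat.dvd_prime_pow hp).1 (by
    rw [← hF, hK]; exact dvd_pow_self q (by norm_num))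
  subst hqa
  have ha : 1 ≤ a := by
    by_contra h0
    have : a = 0 := by omega
    rw [this, pow_zero, one_pow] at hK
    have := Fintype.one_lt_card (α := K)
    omega
  have hpa : 5 ≤ p ^ a := le_trans hp5 (Nat.le_self_pow (by omega) p)
  have hfact : Fact p.Prime := ⟨hp⟩
  obtain ⟨φ, hφ⟩ := D4Fixed.exists_frob hq hK
  have hφφ : ∀ t, φ (φ t) = t := by
    intro t
    rw [hφ, hφ, ← pow_mul, ← pow_two, ← hK, FiniteField.pow_card]
  let σ : K ≃+* K := RingEquiv.ofBijective φ (Finite.injective_iff_bijective.1 φ.injective)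
  have hσφ : ∀ x, σ x = φ x := fun x => rfl
  have hσ : orderOf σ = 2 := by
    refine orderOf_eq_prime ?_ ?_
    · ext t
      show σ (σ t) = t
      rw [hσφ, hσφ, hφφ]
    · intro h1
      have h2 : ∀ t : K, t ^ (p ^ a) = t := by
        intro t
        have h3 := congrArg (fun τ : K ≃+* K => τ t) h1
        have h4 : φ t = t := h3
        rwa [hφ] at h4
      have h5 := FiniteField.X_pow_card_sub_X_natDegree_eq K (show 1 < p ^ a by omega)
      have h6 : (Polynomial.X ^ (p ^ a) - Polynomial.X : Polynomial K) ≠ 0 :=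
        FiniteField.X_pow_card_sub_X_ne_zero K (show 1 < p ^ a by omega)
      have h7 : (Finset.univ : Finset K).card ≤ (Polynomial.X ^ (p ^ a) - Polynomial.X : Polynomial K).natDegree := by
        refine Polynomial.card_le_degree_of_subset_roots ?_
        intro t _
        rw [Polynomial.mem_roots h6, Polynomial.IsRoot.def, Polynomial.eval_sub, Polynomial.eval_pow,
          Polynomial.eval_X, h2, sub_self]
      rw [h5, Finset.card_univ, hK] at h7
      nlinarith only [hpa, h7]
  let F0 : Subfield K := RingHom.eqLocusField (σ : K →+* K) (RingHom.id K)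
  have hF0 : Fintype.card F0 = p ^ a := by
    have h1 := H202.Descent.card_fixed hσ
    rw [Nat.card_eq_fintype_card, hK, Nat.card_eq_fintype_card] at h1
    exact (Nat.pow_left_injective (by norm_num : (2 : ℕ) ≠ 0) h1).symm
  have hmem : ∀ r ∈ [71, 46, 47, 51, 53, 70, 69, 65, 63, 0], r ≠ 0 → ∀ t : F0,
      xG hE6 r (F0.subtype t) ∈ twistedE6 K (p ^ a) := fun r hr hr0 t => long_mem hφ hφφ hr hr0 t.2
  have hxs : ∀ i : ℕ, ∀ t : F0, (if i < 4 then xG hE6 ([46, 47, 51, 53].getD i 0) (F0.subtype t) else 1) ∈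
      twistedE6 K (p ^ a) := by
    intro i t
    split_ifs with hi
    · interval_cases i <;> exact hmem _ (by decide) (by decide) t
    · exact one_mem _
  have hys : ∀ i : ℕ, ∀ t : F0, (if i < 4 then xG hE6 ([70, 69, 65, 63].getD i 0) (F0.subtype t) else 1) ∈
      twistedE6 K (p ^ a) := by
    intro i t
    split_ifs with hi
    · interval_cases i <;> exact hmem _ (by decide) (by decide) t
    · exact one_mem _
  have hc : ∀ i < 4, ((([1, -1, -1, 1] : List ℤ).getD i 0 : ℤ) : K) ≠ 0 := by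
    intro i hi
    interval_cases i
    · exact cast_ne hp5 (Or.inl rfl)
    · exact cast_ne hp5 (Or.inr (Or.inl rfl))
    · exact cast_ne hp5 (Or.inr (Or.inl rfl))
    · exact cast_ne hp5 (Or.inl rfl)
  have H0 := tab_e6.heis hE6 hc
  have H1 : Heis (F := K) (fun t => xG hE6 71 t)
      (fun i t => if i < 4 then xG hE6 ([46, 47, 51, 53].getD i 0) t else 1)
      (fun i t => if i < 4 then xG hE6 ([70, 69, 65, 63].getD i 0) t else 1)
      (fun i => ((([1, -1, -1, 1] : List ℤ).getD i 0 : ℤ) : K)) 4 :=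
    { eps := H0.eps
      zero := fun i hi => by simp only [if_pos hi]; exact H0.zero i hi
      add := fun i hi u v => by simp only [if_pos hi]; exact H0.add i hi u v
      xx := fun i hi j hj hij u v => by simp only [if_pos hi, if_pos hj]; exact H0.xx i hi j hj hij u v
      xy := fun i hi j hj hij u v => by simp only [if_pos hi, if_pos hj]; exact H0.xy i hi j hj hij u v
      c := fun i hi u v => by simp only [if_pos hi]; exact H0.c i hi u v
      zx := fun i hi u v => by simp only [if_pos hi]; exact H0.zx i hi u v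
      zy := fun i hi u v => by simp only [if_pos hi]; exact H0.zy i hi u v }
  have H := (H1.restrict F0.subtype (twistedE6 K (p ^ a)) (fun t => hmem 71 (by decide) (by decide) t) hxs hys).map
    e.symm.toMonoidHom
  have h1 := S2130.result (K := K) p a (by rw [hK, ← pow_mul, mul_comm]) ha
  have ho : OutLe T (6 * a) := outLe_of_out e (by
    rw [h1]
    refine Nat.mul_le_mul_right a ?_
    have := Nat.gcd_le_left (p ^ a + 1) (show 0 < 3 by norm_num)
    omega)
  refine f.goal_of_mat e hp hpY ((Units.coeHom (Matrix chevE6.Idx chevE6.Idx K)).comp (twistedE6 K (p ^ a)).subtype)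
    ?_ ho ?_
  · intro u v huv
    exact Subtype.ext (Units.ext huv)
  · have hcard : Fintype.card chevE6.Idx = 78 := by
      rw [Fintype.card_sum, Fintype.card_fin, Fintype.card_fin]
      decide +kernel
    rw [hcard]
    refine H.bigDeg ?_ ?_ ⟨1, ?_⟩ ?_
    · show e.symm ⟨xG hE6 71 (F0.subtype 0), _⟩ = 1
      rw [EmbeddingLike.map_eq_one_iff]
      apply Subtype.ext
      show xG hE6 71 (F0.subtype 0) = 1
      rw [map_zero, xG_zero]
    · intro u v
      show e.symm ⟨xG hE6 71 (F0.subtype (u + v)), _⟩ =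
        e.symm ⟨xG hE6 71 (F0.subtype u), _⟩ * e.symm ⟨xG hE6 71 (F0.subtype v), _⟩
      rw [← map_mul]
      congr 1
      apply Subtype.ext
      show xG hE6 71 (F0.subtype (u + v)) = xG hE6 71 (F0.subtype u) * xG hE6 71 (F0.subtype v)
      rw [map_add, xG_add]
    · show e.symm ⟨xG hE6 71 (F0.subtype 1), _⟩ ≠ 1
      rw [Ne, EmbeddingLike.map_eq_one_iff]
      intro h2
      have h3 : xG hE6 71 (F0.subtype 1) = 1 := congrArg Subtype.val h2
      rw [xG_eq_one_iff hE6 (by decide +kernel), map_one] at h3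
      exact one_ne_zero h3
    · rw [hF0]
      have h5 := five_mul_le hp5 ha
      have hq4 := pow_five_mul (k := 3) hpa h5
      norm_num at hq4 ⊢
      omega

theorem Frame.twD4 (f : Frame T Y n S A) {p : ℕ} (hp : p.Prime) (hp5 : 5 ≤ p) (hpY : ¬ p ∣ Nat.card Y) {K : Type}
    [Field K] [Fintype K] [CharP K p] {q : ℕ} (hq : IsPrimePow q) (hK : Fintype.card K = q ^ 3)
    (e : T ≃* ↥(twistedD4 K q)) : Goal Y A f.conj_mem := by
  classical
  obtain ⟨a', ha', hF⟩ := exists_pow K p
  obtain ⟨a, -, hqa⟩ : ∃ a ≤ a', q = p ^ a := (Nat.dvd_prime_pow hp).1 (by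
    rw [← hF, hK]; exact dvd_pow_self q (by norm_num))
  subst hqa
  have ha : 1 ≤ a := by
    by_contra h0
    have : a = 0 := by omega
    rw [this, pow_zero, one_pow] at hK
    have := Fintype.one_lt_card (α := K)
    omega
  have hpa : 5 ≤ p ^ a := le_trans hp5 (Nat.le_self_pow (by omega) p)
  have hfact : Fact p.Prime := ⟨hp⟩
  have hs : IsSimpleGroup ↥(twistedD4 K (p ^ a)) := (S1071.result hq hK).1
  have hperf : commutator ↥(twistedD4 K (p ^ a)) = ⊤ := by
    apply commutator_eq_top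
    obtain ⟨u, v, huv⟩ := f.nc
    refine ⟨e u, e v, fun h => huv ?_⟩
    apply e.injective
    rw [map_mul, map_mul, h]
  have h1 := S2129.result (K := K) p a (by rw [hK, ← pow_mul, mul_comm]) ha
  have ho : OutLe T (3 * a) := outLe_of_out e (le_of_eq h1)
  refine f.goal_of_mat e hp hpY ((Units.coeHom (Matrix chevD4.Idx chevD4.Idx K)).comp (twistedD4 K (p ^ a)).subtype)
    ?_ ho ?_
  · intro u v huv
    exact Subtype.ext (Units.ext huv)
  · have hcard : Fintype.card chevD4.Idx = 28 := by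
      rw [Fintype.card_sum, Fintype.card_fin, Fintype.card_fin]
      decide +kernel
    rw [hcard]
    refine bigDeg_of_irr hperf e.symm.toMonoidHom ?_ fun k ρ hρ hk => ?_
    · obtain ⟨g, hg⟩ := exists_ne (1 : ↥(twistedD4 K (p ^ a)))
      refine ⟨g, fun h => hg ?_⟩
      apply e.symm.injective
      rw [map_one]
      exact h
    · refine lt_of_lt_of_le ?_ (S2342.result (p ^ a) hq hK k ρ hρ hk)
      have h5 := five_mul_le hp5 ha
      have h6 : 25 * 24 + 1 ≤ (p ^ a) ^ 4 - (p ^ a) ^ 2 + 1 := by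
        have h7 : (p ^ a) ^ 4 = (p ^ a) ^ 2 * (p ^ a) ^ 2 := by ring
        have h8 : 25 ≤ (p ^ a) ^ 2 := by nlinarith only [hpa]
        have h9 : 25 * (p ^ a) ^ 2 ≤ (p ^ a) ^ 4 := by
          rw [h7]; exact Nat.mul_le_mul_right _ h8
        omega
      calc 3 * a * 28 < 5 * a * (25 * 24 + 1) := by omega
        _ ≤ p ^ a * ((p ^ a) ^ 4 - (p ^ a) ^ 2 + 1) := Nat.mul_le_mul h5 h6

end

end Cfsg.Agent.H324.Hall
end

-- part: H324/Hall/Lie5
section
/-!
# `PartB` for the groups of Lie type in characteristic at least five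
-/

set_option autoImplicit false
set_option linter.unusedSectionVars false

open Module Cfsg

universe u

namespace Cfsg.Agent.H324.Hall

variable {T : Type u} [Group T] [Finite T] [IsSimpleGroup T] {Y : Subgroup T} {n : ℕ} {S : Type u} [Group S]
  [IsSimpleGroup S] {A : Subgroup (MulAut T)}

/-- Characteristic `p ≥ 5`, `p ∤ |Y|`. -/
theorem Frame.lie5' (f : Frame T Y n S A) (tab : OrdDiv.OrderTable.{u}) (hS : IsKnownSimple' S) {p : ℕ}
    (hp : p.Prime) (hp5 : 5 ≤ p) (hpY : ¬ p ∣ Nat.card Y) (h : IsLieTypeChar p T) : Goal Y A f.conj_mem := by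
  rcases h with h | h | h | h | h | h | h | h | h | h | h
  · obtain ⟨F, _, _, _, m, hm, -, ⟨e⟩⟩ := h
    rcases Nat.lt_or_ge m 3 with h3 | h3
    · obtain rfl : m = 2 := by omega
      exact f.psl_two tab hS hp hp5 hpY e
    · exact f.psl hp hp5 hpY h3 e
  · obtain ⟨F, _, _, _, m, hm, -, ⟨e⟩⟩ := h
    exact f.psp tab hS hp hp5 hpY hm e
  · obtain ⟨F, _, _, _, m, q, hq, hm, -, ⟨e⟩⟩ := h
    exact f.psu tab hS hp hp5 hpY hq hm e
  · obtain ⟨F, _, _, _, m, hm, -, ⟨e⟩⟩ := h
    exact f.odd hp hp5 hpY hm e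
  · obtain ⟨F, _, _, _, m, hm, ⟨e⟩⟩ := h
    exact f.plus hp hp5 hpY hm e
  · obtain ⟨F, _, _, _, m, c, d, hm, hcd, ⟨e⟩⟩ := h
    exact f.minus hp hp5 hpY hm c d hcd e
  · exact f.excChev hp hp5 hpY h
  · obtain ⟨K, _, _, _, q, hq, h⟩ := h
    rcases h with ⟨hK, ⟨e⟩⟩ | ⟨hK, ⟨e⟩⟩
    · exact f.twE6 hp hp5 hpY hq hK e
    · exact f.twD4 hp hp5 hpY hq hK e
  · omega
  · omega
  · omega

/-- Characteristic dividing `|Y|`. -/
theorem Frame.lieDvd (f : Frame T Y n S A) {p : ℕ} (hp : p.Prime) (h : IsLieTypeChar p T) (hpY : p ∣ Nat.card Y) :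
    False :=
  f.false_of_noBad (H393.noBad_of_lie hp h) hp hpY

/-- Characteristic `p ≥ 5`. -/
theorem Frame.lie5 (f : Frame T Y n S A) (tab : OrdDiv.OrderTable.{u}) (hS : IsKnownSimple' S) {p : ℕ}
    (hp : p.Prime) (hp5 : 5 ≤ p) (h : IsLieTypeChar p T) : Goal Y A f.conj_mem := by
  by_cases hpY : p ∣ Nat.card Y
  · exact (f.lieDvd hp h hpY).elim
  · exact f.lie5' tab hS hp hp5 hpY h

end Cfsg.Agent.H324.Hall
end

-- part: H324/Hall/CharThree
section
/-!
# `PartB` for the groups of Lie type in characteristic three, `3 ∤ |Y|`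
-/

set_option autoImplicit false
set_option linter.unusedSectionVars false

open Module Cfsg

universe u

namespace Cfsg.Agent.H324.Hall

variable {T : Type u} [Group T] [Finite T] [IsSimpleGroup T] {Y : Subgroup T} {n : ℕ} {S : Type u} [Group S]
  [IsSimpleGroup S] {A : Subgroup (MulAut T)}

/-- Sylow `2`-subgroups of a direct power of a Suzuki group. -/
theorem sylow_pow {Y : Type u} [Group Y] [Finite Y] {n : ℕ} (hn : n ≠ 0) {S : Type u} [Group S] [Finite S]
    (hS : Cfsg.Lie.IsoSuzuki S) (e : Y ≃* (Fin n → S)) (P : Sylow 2 Y) :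
    (∀ x ∈ P, x * x = 1 → ∀ y ∈ P, x * y = y * x) ∧ ∃ x ∈ P, ∃ y ∈ P, x * y ≠ y * x := by
  have hp2 : Fact (Nat.Prime 2) := ⟨Nat.prime_two⟩
  let π : Fin n → (Y →* S) := fun i => (Pi.evalMonoidHom (fun _ : Fin n => S) i).comp e.toMonoidHom
  have hπ : ∀ i, Function.Surjective (π i) := by
    intro i s
    exact ⟨e.symm (fun _ => s), by simp [π]⟩
  have hSL : ∀ i, H331.SCExc.SL ((P.mapSurjective (hπ i) : Sylow 2 S) : Subgroup S) := fun i =>
    H331.SCExc.sylow_isoSuzuki hS _
  have hmem : ∀ i, ∀ x ∈ P, π i x ∈ (P.mapSurjective (hπ i) : Sylow 2 S) := fun i x hx => ⟨x, hx, rfl⟩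
  constructor
  · intro x hx hxx y hy
    apply e.injective
    funext i
    have h1 := (hSL i).inv ⟨π i x, hmem i x hx⟩ (Subtype.ext (by
      show π i x * π i x = 1
      rw [← map_mul, hxx, map_one]))
    have h2 := Subgroup.mem_center_iff.1 h1 ⟨π i y, hmem i y hy⟩
    have h3 : π i y * π i x = π i x * π i y := congrArg Subtype.val h2
    rw [← map_mul, ← map_mul] at h3
    exact h3.symm
  · obtain ⟨⟨x, x', hx', rfl⟩, ⟨y, y', hy', rfl⟩, hxy⟩ := (hSL ⟨0, Nat.pos_of_ne_zero hn⟩).nab
    refine ⟨x', hx', y', hy', fun h => hxy (Subtype.ext ?_)⟩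
    show π ⟨0, Nat.pos_of_ne_zero hn⟩ x' * π ⟨0, Nat.pos_of_ne_zero hn⟩ y' =
      π ⟨0, Nat.pos_of_ne_zero hn⟩ y' * π ⟨0, Nat.pos_of_ne_zero hn⟩ x'
    rw [← map_mul, h, map_mul]

/-- Characteristic three, `3 ∤ |Y|`. -/
theorem Frame.char_three (f : Frame T Y n S A)
    (hFT : ∀ (X : Type u) [Group X] [Finite X], Odd (Nat.card X) → Group.IsSolvable X)
    (h : IsLieTypeChar 3 T) (h3 : ¬ 3 ∣ Nat.card Y) : False := by
  have hp2 : Fact (Nat.Prime 2) := ⟨Nat.prime_two⟩
  have hfin : Finite S := f.finiteS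
  have h3S : ¬ 3 ∣ Nat.card S := fun h1 => h3 (by rw [f.card]; exact dvd_pow h1 f.pos)
  have hSuz := ThreePrime.Main.isoSuzuki f.ncS h3S
  obtain ⟨e⟩ := f.equiv
  obtain ⟨P⟩ : Nonempty (Sylow 2 Y) := inferInstance
  obtain ⟨h4, h5⟩ := sylow_pow f.pos hSuz e P
  -- the Sylow subgroup of `T`
  have h2Y := f.two_dvd hFT
  have hidx : ¬ 2 ∣ ((P : Subgroup Y).map Y.subtype).index := by
    rw [Subgroup.index_map_subtype]
    intro h1
    rcases (Nat.Prime.dvd_mul Nat.prime_two).1 h1 with h1 | h1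
    · exact P.not_dvd_index h1
    · have h2 := Nat.dvd_gcd h2Y h1
      rw [f.cop] at h2
      norm_num at h2
  have hPp : IsPGroup 2 ((P : Subgroup Y).map Y.subtype) := P.isPGroup'.map _
  let Q : Sylow 2 T := hPp.toSylow hidx
  have hQ : (Q : Subgroup T) = (P : Subgroup Y).map Y.subtype := rfl
  -- its involutions
  let Z : Subgroup T :=
    { carrier := {x | x ∈ (Q : Subgroup T) ∧ x * x = 1}
      mul_mem' := by
        rintro _ _ ⟨⟨x, hx, rfl⟩, hxx⟩ ⟨⟨y, hy, rfl⟩, hyy⟩
        refine ⟨⟨x * y, mul_mem hx hy, map_mul _ _ _⟩, ?_⟩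
        have hxx' : x * x = 1 := Subtype.ext hxx
        have hyy' : y * y = 1 := Subtype.ext hyy
        have h6 := h4 x hx hxx' y hy
        have h7 : (x * y) * (x * y) = 1 := by
          calc (x * y) * (x * y) = x * (y * x) * y := by group
            _ = x * (x * y) * y := by rw [h6]
            _ = (x * x) * (y * y) := by group
            _ = 1 := by rw [hxx', hyy', one_mul]
        exact congrArg Subtype.val h7
      one_mem' := ⟨one_mem _, one_mul 1⟩
      inv_mem' := by
        rintro x ⟨hx, hxx⟩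
        refine ⟨inv_mem hx, ?_⟩
        rw [← mul_inv_rev, hxx, inv_one] }
  have hZle : Z ≤ (Q : Subgroup T) := fun x hx => hx.1
  have hZ1 : Z ≠ ⊥ := by
    intro hbot
    have h6 : 2 ∣ Nat.card (Q : Subgroup T) := by
      by_contra h7
      have h8 : 2 ∣ Nat.card (Q : Subgroup T) * (Q : Subgroup T).index := by
        rw [Subgroup.card_mul_index]
        exact h2Y.trans (Subgroup.card_subgroup_dvd_card Y)
      rcases (Nat.Prime.dvd_mul Nat.prime_two).1 h8 with h8 | h8
      · exact h7 h8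
      · exact Q.not_dvd_index h8
    obtain ⟨x, hx⟩ := exists_prime_orderOf_dvd_card' 2 h6
    have h7 : (x : T) ∈ Z := ⟨x.2, by
      have h9 : x ^ 2 = 1 := orderOf_dvd_iff_pow_eq_one.1 (dvd_of_eq hx)
      rw [pow_two] at h9
      exact congrArg Subtype.val h9⟩
    rw [hbot, Subgroup.mem_bot] at h7
    have h8 : x = 1 := Subtype.ext h7
    rw [h8, orderOf_one] at hx
    norm_num at hx
  have hZc : IsMulCommutative Z := by
    refine ⟨⟨?_⟩⟩
    rintro ⟨x, hx, hxx⟩ ⟨y, hy, hyy⟩
    obtain ⟨x, hx, rfl⟩ := hx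
    obtain ⟨y, hy, rfl⟩ := hy
    apply Subtype.ext
    show (x : T) * (y : T) = (y : T) * (x : T)
    exact congrArg Subtype.val (h4 x hx (Subtype.ext hxx) y hy)
  have hsc : Cfsg.IsStronglyClosed Z (Q : Subgroup T) := by
    refine ⟨hZle, ?_⟩
    rintro x ⟨hx, hxx⟩ g hg
    refine ⟨hg, ?_⟩
    calc g * x * g⁻¹ * (g * x * g⁻¹) = g * (x * x) * g⁻¹ := by group
      _ = 1 := by rw [hxx]; group
  rcases S1169.result Q Z hZ1 hZc hsc with h6 | ⟨H, hH⟩
  · obtain ⟨x, hx, y, hy, hxy⟩ := h5
    apply hxy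
    have h7 := h6.is_comm.comm ⟨(x : T), ⟨x, hx, rfl⟩⟩ ⟨(y : T), ⟨y, hy, rfl⟩⟩
    have h8 : (x : T) * (y : T) = (y : T) * (x : T) := congrArg Subtype.val h7
    exact Subtype.ext h8
  · have h3T : 3 ∣ Nat.card T := by
      by_contra h3T
      obtain ⟨r, hr, M, hM, hM1, -⟩ := H393.noBad_of_lie Nat.prime_three h (⊥ : Subgroup T) bot_ne_top
        (by rwa [Subgroup.index_bot]) (by rwa [Subgroup.index_bot])
      exact hM1 (le_bot_iff.1 hM)
    rcases S0222.result f.nc H hH with ⟨F, _, _, hF, h4F, e'⟩ | h7 | ⟨F, _, _, q, hF, hq, hq4, ⟨e'⟩⟩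
    · exact f.lieDvd Nat.prime_two (Or.inl ⟨F, _, _, hF, 2, le_rfl, fun _ => h4F, e'⟩) h2Y
    · exact H964.PrimeGraph.suzuki_not_dvd (H331.SCExc.isoSuzuki_of_isSuzuki h7) h3T
    · have hF2 : CharP F 2 := by
        obtain ⟨p, hp⟩ := CharP.exists F
        obtain ⟨k, hpp, hk⟩ := FiniteField.card F p
        have h2 : 2 ∣ p ^ (k : ℕ) := by
          rw [← hk, hF]
          exact dvd_pow (even_iff_two_dvd.1 hq) two_ne_zero
        have h3 : p = 2 := ((Nat.prime_dvd_prime_iff_eq Nat.prime_two hpp).1 (Nat.prime_two.dvd_of_dvd_pow h2)).symm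
        rwa [h3] at hp
      exact f.lieDvd Nat.prime_two (Or.inr (Or.inr (Or.inl ⟨F, _, _, hF2, 3, q, hF, le_rfl, by omega, ⟨e'⟩⟩))) h2Y

end Cfsg.Agent.H324.Hall
end

-- part: H324/Hall/SporAll
section
/-!
# `PartB` for the sporadic groups and the Tits group: all cases
-/

set_option autoImplicit false
set_option linter.unusedSectionVars false
set_option maxRecDepth 100000

open Module Cfsg

universe u

namespace Cfsg.Agent.H324.Hall

open Cfsg.Agent.OrdDiv

variable {T : Type u} [Group T] [Finite T] [IsSimpleGroup T] {Y : Subgroup T} {n : ℕ} {S : Type u} [Group S]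
  [IsSimpleGroup S] {A : Subgroup (MulAut T)}

private noncomputable def hq (N o f : ℕ) : ℕ → Bool :=
  @Nat.rec (fun _ => ℕ → Bool) (fun _ => false) (fun _ ih P =>
    @Bool.rec (fun _ => Bool) false (@Bool.rec (fun _ => Bool) (ih (Nat.mul P o))
      (@Bool.rec (fun _ => Bool) true (ih (Nat.mul P o)) (Nat.beq P N)) (Nat.beq (Nat.gcd P (Nat.div N P)) 1))
      (Nat.beq (Nat.mod N P) 0)) f

private theorem hq_of {N o : ℕ} : ∀ f k m : ℕ, m < f → N % o ^ (k + m + 1) = 0 →
    Nat.gcd (o ^ (k + m + 1)) (N / o ^ (k + m + 1)) = 1 → o ^ (k + m + 1) ≠ N → hq N o f (o ^ (k + 1)) = true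
  | 0, _, _, h, _, _, _ => absurd h (Nat.not_lt_zero _)
  | f + 1, k, m, h, h1, h2, h3 => by
    have e : Nat.beq (Nat.mod N (o ^ (k + 1))) 0 = true := Nat.beq_eq ▸ Nat.mod_eq_zero_of_dvd
      ((Nat.pow_dvd_pow o (by omega)).trans (Nat.dvd_of_mod_eq_zero h1))
    change @Bool.rec (fun _ => Bool) false (@Bool.rec (fun _ => Bool) (hq N o f (o ^ (k + 1 + 1)))
      (@Bool.rec (fun _ => Bool) true (hq N o f (o ^ (k + 1 + 1))) (Nat.beq (o ^ (k + 1)) N))
      (Nat.beq (Nat.gcd (o ^ (k + 1)) (N / o ^ (k + 1))) 1)) (Nat.beq (Nat.mod N (o ^ (k + 1))) 0) = true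
    rw [e]
    cases m with
    | zero =>
      have a : Nat.beq (Nat.gcd (o ^ (k + 1)) (N / o ^ (k + 1))) 1 = true := Nat.beq_eq ▸ h2
      have b : Nat.beq (o ^ (k + 1)) N = false := Bool.eq_false_iff.2 fun c => h3 (Nat.eq_of_beq_eq_true c)
      rw [a, b]
    | succ m =>
      have c : k + (m + 1) + 1 = k + 1 + m + 1 := by omega
      rw [c] at h1 h2 h3
      rw [hq_of f (k + 1) m (by omega) h1 h2 h3]
      cases Nat.beq (o ^ (k + 1)) N <;> cases Nat.beq (Nat.gcd (o ^ (k + 1)) (N / o ^ (k + 1))) 1 <;> rfl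

private theorem nil_of {L : List OrdDiv.Grp} {N : ℕ}
    (h : L.filter (fun g => hq N (OrdDiv.ordN g) 200 (OrdDiv.ordN g)) = []) :
    L.filter (fun g => Hall.hp N (OrdDiv.ordN g)) = [] := by
  rw [List.filter_eq_nil_iff] at h ⊢
  intro g hg h1
  obtain ⟨m, hm, h2⟩ := List.any_eq_true.1 h1
  simp only [Bool.and_eq_true, beq_iff_eq, Bool.not_eq_true', beq_eq_false_iff_ne] at h2
  have h3 := hq_of 200 0 m (List.mem_range.1 hm) (by rw [Nat.zero_add]; exact h2.1.1) (by rw [Nat.zero_add]; exact h2.1.2)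
    (by rw [Nat.zero_add]; exact h2.2)
  rw [Nat.zero_add, pow_one] at h3
  exact h g hg h3

private noncomputable def _root_.Cfsg.Agent.LsF.f4b6e62_1 : {f // @Nat.factorial = f} := ⟨_, by first | (delta Nat.factorial Nat.brecOn.go Nat.brecOn Nat.factorial._f; rewrite [Cfsg.Agent.LsF.nmul_pat]; (try delta Nat.factorial.match_1); (try delta Nat.casesOn); first | dsimp -zeta only | exact rfl) | exact rfl⟩
private noncomputable def _root_.Cfsg.Agent.LsF.f4b6e62_2 : {f // @Cfsg.Agent.OrdDiv.glN = f} := ⟨_, by first | (delta Cfsg.Agent.OrdDiv.glN; rewrite [Cfsg.Agent.LsF.nsub_pat, Cfsg.Agent.LsF.npow_pat, Cfsg.Agent.LsF.map_eq, Cfsg.Agent.LsF.range_eq, Cfsg.Agent.LsF.prod_eq]; exact rfl) | exact rfl⟩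
private noncomputable def _root_.Cfsg.Agent.LsF.f4b6e62_3 : {f // @Cfsg.Agent.OrdDiv.fPSL = f} := ⟨_, by first | (delta Cfsg.Agent.OrdDiv.fPSL; rewrite [Cfsg.Agent.LsF.f4b6e62_2.2, Cfsg.Agent.LsF.nmul_pat, Cfsg.Agent.LsF.nsub_pat, Cfsg.Agent.LsF.ndiv_pat, Cfsg.Agent.LsF.and_eq, Cfsg.Agent.LsF.not_eq]; exact rfl) | exact rfl⟩
private noncomputable def _root_.Cfsg.Agent.LsF.f4b6e62_4 : {f // @Cfsg.Agent.OrdDiv.prB = f} := ⟨_, by first | (delta Cfsg.Agent.OrdDiv.prB; rewrite [Cfsg.Agent.LsF.nadd_pat, Cfsg.Agent.LsF.nmul_pat, Cfsg.Agent.LsF.nsub_pat, Cfsg.Agent.LsF.npow_pat, Cfsg.Agent.LsF.map_eq, Cfsg.Agent.LsF.range_eq, Cfsg.Agent.LsF.prod_eq]; exact rfl) | exact rfl⟩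
private noncomputable def _root_.Cfsg.Agent.LsF.f4b6e62_5 : {f // @Cfsg.Agent.OrdDiv.fPSp = f} := ⟨_, by first | (delta Cfsg.Agent.OrdDiv.fPSp; rewrite [Cfsg.Agent.LsF.f4b6e62_4.2, Cfsg.Agent.LsF.nmul_pat, Cfsg.Agent.LsF.nsub_pat, Cfsg.Agent.LsF.npow_pat, Cfsg.Agent.LsF.and_eq, Cfsg.Agent.LsF.not_eq]; exact rfl) | exact rfl⟩
private noncomputable def _root_.Cfsg.Agent.LsF.f4b6e62_6 : {f // @Cfsg.Agent.OrdDiv.prU = f} := ⟨_, by first | (delta Cfsg.Agent.OrdDiv.prU; rewrite [Cfsg.Agent.LsF.nadd_pat, Cfsg.Agent.LsF.nsub_pat, Cfsg.Agent.LsF.nmod_pat, Cfsg.Agent.LsF.npow_pat, Cfsg.Agent.LsF.map_eq, Cfsg.Agent.LsF.range_eq, Cfsg.Agent.LsF.prod_eq, Cfsg.Agent.LsF.dBoolEq_eq, Cfsg.Agent.LsF.ite_eq]; exact rfl) | exact rfl⟩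
private noncomputable def _root_.Cfsg.Agent.LsF.f4b6e62_7 : {f // @Cfsg.Agent.OrdDiv.fPSU = f} := ⟨_, by first | (delta Cfsg.Agent.OrdDiv.fPSU; rewrite [Cfsg.Agent.LsF.f4b6e62_6.2, Cfsg.Agent.LsF.nadd_pat, Cfsg.Agent.LsF.nmul_pat, Cfsg.Agent.LsF.nsub_pat, Cfsg.Agent.LsF.ndiv_pat, Cfsg.Agent.LsF.npow_pat, Cfsg.Agent.LsF.and_eq, Cfsg.Agent.LsF.not_eq]; exact rfl) | exact rfl⟩
private noncomputable def _root_.Cfsg.Agent.LsF.f4b6e62_8 : {f // @Cfsg.Agent.OrdDiv.fOOdd = f} := ⟨_, by first | (delta Cfsg.Agent.OrdDiv.fOOdd; rewrite [Cfsg.Agent.LsF.f4b6e62_4.2, Cfsg.Agent.LsF.nmul_pat, Cfsg.Agent.LsF.nmod_pat, Cfsg.Agent.LsF.npow_pat]; exact rfl) | exact rfl⟩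
private noncomputable def _root_.Cfsg.Agent.LsF.f4b6e62_9 : {f // @Cfsg.Agent.OrdDiv.fOPlus = f} := ⟨_, by first | (delta Cfsg.Agent.OrdDiv.fOPlus; rewrite [Cfsg.Agent.LsF.f4b6e62_4.2, Cfsg.Agent.LsF.nmul_pat, Cfsg.Agent.LsF.nsub_pat, Cfsg.Agent.LsF.npow_pat]; exact rfl) | exact rfl⟩
private noncomputable def _root_.Cfsg.Agent.LsF.f4b6e62_10 : {f // @Cfsg.Agent.OrdDiv.fOMinus = f} := ⟨_, by first | (delta Cfsg.Agent.OrdDiv.fOMinus; rewrite [Cfsg.Agent.LsF.f4b6e62_4.2, Cfsg.Agent.LsF.nadd_pat, Cfsg.Agent.LsF.nmul_pat, Cfsg.Agent.LsF.nsub_pat, Cfsg.Agent.LsF.npow_pat]; exact rfl) | exact rfl⟩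
private noncomputable def _root_.Cfsg.Agent.LsF.f4b6e62_11 : {f // @Cfsg.Agent.OrdDiv.one = f} := ⟨_, by first | (delta Cfsg.Agent.OrdDiv.one; rewrite [Cfsg.Agent.LsF.nadd_pat, Cfsg.Agent.LsF.nmul_pat, Cfsg.Agent.LsF.npow_pat]; exact rfl) | exact rfl⟩
private noncomputable def _root_.Cfsg.Agent.LsF.f4b6e62_12 : {f // @Cfsg.Agent.OrdDiv.fG2 = f} := ⟨_, by first | (delta Cfsg.Agent.OrdDiv.fG2; rewrite [Cfsg.Agent.LsF.f4b6e62_11.2, Cfsg.Agent.LsF.nmul_pat, Cfsg.Agent.LsF.nsub_pat, Cfsg.Agent.LsF.npow_pat]; exact rfl) | exact rfl⟩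
private noncomputable def _root_.Cfsg.Agent.LsF.f4b6e62_13 : {f // @Cfsg.Agent.OrdDiv.fF4 = f} := ⟨_, by first | (delta Cfsg.Agent.OrdDiv.fF4; rewrite [Cfsg.Agent.LsF.f4b6e62_11.2, Cfsg.Agent.LsF.nmul_pat, Cfsg.Agent.LsF.nsub_pat, Cfsg.Agent.LsF.npow_pat]; exact rfl) | exact rfl⟩
private noncomputable def _root_.Cfsg.Agent.LsF.f4b6e62_14 : {f // @Cfsg.Agent.OrdDiv.fE6 = f} := ⟨_, by first | (delta Cfsg.Agent.OrdDiv.fE6; rewrite [Cfsg.Agent.LsF.f4b6e62_11.2, Cfsg.Agent.LsF.nmul_pat, Cfsg.Agent.LsF.nsub_pat, Cfsg.Agent.LsF.npow_pat]; exact rfl) | exact rfl⟩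
private noncomputable def _root_.Cfsg.Agent.LsF.f4b6e62_15 : {f // @Cfsg.Agent.OrdDiv.fE7 = f} := ⟨_, by first | (delta Cfsg.Agent.OrdDiv.fE7; rewrite [Cfsg.Agent.LsF.f4b6e62_11.2, Cfsg.Agent.LsF.nmul_pat, Cfsg.Agent.LsF.nsub_pat, Cfsg.Agent.LsF.npow_pat]; exact rfl) | exact rfl⟩
private noncomputable def _root_.Cfsg.Agent.LsF.f4b6e62_16 : {f // @Cfsg.Agent.OrdDiv.fE8 = f} := ⟨_, by first | (delta Cfsg.Agent.OrdDiv.fE8; rewrite [Cfsg.Agent.LsF.f4b6e62_11.2, Cfsg.Agent.LsF.nmul_pat, Cfsg.Agent.LsF.nsub_pat, Cfsg.Agent.LsF.npow_pat]; exact rfl) | exact rfl⟩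
private noncomputable def _root_.Cfsg.Agent.LsF.f4b6e62_17 : {f // @Cfsg.Agent.OrdDiv.fTE6 = f} := ⟨_, by first | (delta Cfsg.Agent.OrdDiv.fTE6; rewrite [Cfsg.Agent.LsF.f4b6e62_11.2, Cfsg.Agent.LsF.nadd_pat, Cfsg.Agent.LsF.nmul_pat, Cfsg.Agent.LsF.nsub_pat, Cfsg.Agent.LsF.npow_pat]; exact rfl) | exact rfl⟩
private noncomputable def _root_.Cfsg.Agent.LsF.f4b6e62_18 : {f // @Cfsg.Agent.OrdDiv.fTD4 = f} := ⟨_, by first | (delta Cfsg.Agent.OrdDiv.fTD4; rewrite [Cfsg.Agent.LsF.f4b6e62_11.2, Cfsg.Agent.LsF.nadd_pat, Cfsg.Agent.LsF.nmul_pat, Cfsg.Agent.LsF.nsub_pat, Cfsg.Agent.LsF.npow_pat]; exact rfl) | exact rfl⟩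
private noncomputable def _root_.Cfsg.Agent.LsF.f4b6e62_19 : {f // @Cfsg.Agent.OrdDiv.fSz = f} := ⟨_, by first | (delta Cfsg.Agent.OrdDiv.fSz; rewrite [Cfsg.Agent.LsF.f4b6e62_11.2, Cfsg.Agent.LsF.nadd_pat, Cfsg.Agent.LsF.nmul_pat, Cfsg.Agent.LsF.nsub_pat, Cfsg.Agent.LsF.nmod_pat, Cfsg.Agent.LsF.npow_pat, Cfsg.Agent.LsF.and_eq]; exact rfl) | exact rfl⟩
private noncomputable def _root_.Cfsg.Agent.LsF.f4b6e62_20 : {f // @Cfsg.Agent.OrdDiv.fRee = f} := ⟨_, by first | (delta Cfsg.Agent.OrdDiv.fRee; rewrite [Cfsg.Agent.LsF.f4b6e62_11.2, Cfsg.Agent.LsF.nadd_pat, Cfsg.Agent.LsF.nmul_pat, Cfsg.Agent.LsF.nsub_pat, Cfsg.Agent.LsF.nmod_pat, Cfsg.Agent.LsF.npow_pat, Cfsg.Agent.LsF.and_eq]; exact rfl) | exact rfl⟩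
private noncomputable def _root_.Cfsg.Agent.LsF.f4b6e62_21 : {f // @Cfsg.Agent.OrdDiv.fTF4 = f} := ⟨_, by first | (delta Cfsg.Agent.OrdDiv.fTF4; rewrite [Cfsg.Agent.LsF.f4b6e62_11.2, Cfsg.Agent.LsF.nadd_pat, Cfsg.Agent.LsF.nmul_pat, Cfsg.Agent.LsF.nsub_pat, Cfsg.Agent.LsF.nmod_pat, Cfsg.Agent.LsF.npow_pat, Cfsg.Agent.LsF.and_eq]; exact rfl) | exact rfl⟩
private noncomputable def _root_.Cfsg.Agent.LsF.f4b6e62_22 : {f // @Cfsg.Agent.OrdDiv.instDecidableEqGrp.decEq = f} := ⟨_, by first | (delta Cfsg.Agent.OrdDiv.instDecidableEqGrp.decEq; rewrite [Cfsg.Agent.LsF.instDecEq_eq, Cfsg.Agent.LsF.dite_eq]; (try delta Cfsg.Agent.OrdDiv.instDecidableEqGrp.decEq.match_1); (try delta Decidable.casesOn); exact rfl) | exact rfl⟩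
private noncomputable def _root_.Cfsg.Agent.LsF.f4b6e62_23 : {f // @Cfsg.Agent.OrdDiv.instDecidableEqGrp = f} := ⟨_, by first | (delta Cfsg.Agent.OrdDiv.instDecidableEqGrp; rewrite [Cfsg.Agent.LsF.f4b6e62_22.2]; exact rfl) | exact rfl⟩
private noncomputable def _root_.Cfsg.Agent.LsF.f4b6e62_24 : {f // @Cfsg.Agent.OrdDiv.ordN = f} := ⟨_, by first | (delta Cfsg.Agent.OrdDiv.ordN Option.map; rewrite [Cfsg.Agent.LsF.f4b6e62_1.2, Cfsg.Agent.LsF.f4b6e62_3.2, Cfsg.Agent.LsF.f4b6e62_5.2, Cfsg.Agent.LsF.f4b6e62_7.2, Cfsg.Agent.LsF.f4b6e62_8.2, Cfsg.Agent.LsF.f4b6e62_9.2, Cfsg.Agent.LsF.f4b6e62_10.2, Cfsg.Agent.LsF.f4b6e62_12.2, Cfsg.Agent.LsF.f4b6e62_13.2, Cfsg.Agent.LsF.f4b6e62_14.2, Cfsg.Agent.LsF.f4b6e62_15.2, Cfsg.Agent.LsF.f4b6e62_16.2, Cfsg.Agent.LsF.f4b6e62_17.2, Cfsg.Agent.LsF.f4b6e62_18.2, Cfsg.Agent.LsF.f4b6e62_19.2, Cfsg.Agent.LsF.f4b6e62_20.2, Cfsg.Agent.LsF.f4b6e62_21.2, Cfsg.Agent.LsF.f4b6e62_23.2, Cfsg.Agent.LsF.ndiv_pat, Cfsg.Agent.LsF.find?_eq, Cfsg.Agent.LsF.ogetD_eq,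 Cfsg.Agent.LsF.decide_eq]; (try delta Cfsg.Agent.OrdDiv.ordN.match_1); (try delta Cfsg.Agent.OrdDiv.ordN._sparseCasesOn_1); (try delta Option.getD.match_1); (try delta Option.casesOn); exact rfl) | exact rfl⟩
private noncomputable def _root_.Cfsg.Agent.LsF.f4b6e62_25 : {f // @Cfsg.Agent.OrdDiv.candAlt = f} := ⟨_, by first | (delta Cfsg.Agent.OrdDiv.candAlt; rewrite [Cfsg.Agent.LsF.f4b6e62_1.2, Cfsg.Agent.LsF.nadd_pat, Cfsg.Agent.LsF.nmul_pat, Cfsg.Agent.LsF.nmod_pat, Cfsg.Agent.LsF.nbeq_pat, Cfsg.Agent.LsF.and_eq, Cfsg.Agent.LsF.flatMap_eq, Cfsg.Agent.LsF.filter_eq, Cfsg.Agent.LsF.range_eq, Cfsg.Agent.LsF.dBoolEq_eq, Cfsg.Agent.LsF.ite_eq]; exact rfl) | exact rfl⟩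
private noncomputable def _root_.Cfsg.Agent.LsF.f4b6e62_27 : {f // @Cfsg.Agent.OrdDiv.cand = f} := ⟨_, by first | (delta Cfsg.Agent.OrdDiv.cand; rewrite [Cfsg.Agent.LsF.nmul_pat, Cfsg.Agent.LsF.nmod_pat, Cfsg.Agent.LsF.nbeq_pat, Cfsg.Agent.LsF.and_eq, Cfsg.Agent.LsF.filter_eq]; exact rfl) | exact rfl⟩
private noncomputable def _root_.Cfsg.Agent.LsF.f4b6e62_28 : {f // @Cfsg.Agent.OrdDiv.cands = f} := ⟨_, by first | (delta Cfsg.Agent.OrdDiv.cands; rewrite [Cfsg.Agent.LsF.f4b6e62_25.2, Cfsg.Agent.LsF.f4b6e62_27.2, Cfsg.Agent.LsF.f4b6e62_3.2, Cfsg.Agent.LsF.f4b6e62_5.2, Cfsg.Agent.LsF.f4b6e62_7.2, Cfsg.Agent.LsF.f4b6e62_8.2, Cfsg.Agent.LsF.f4b6e62_9.2, Cfsg.Agent.LsF.f4b6e62_10.2, Cfsg.Agent.LsF.f4b6e62_12.2, Cfsg.Agent.LsF.f4b6e62_13.2, Cfsg.Agent.LsF.f4b6e62_14.2, Cfsg.Agent.LsF.f4b6e62_15.2, Cfsg.Agent.LsF.f4b6e62_16.2, Cfsg.Agent.LsF.f4b6e62_17.2, Cfsg.Agent.LsF.f4b6e62_18.2, Cfsg.Agent.LsF.f4b6e62_19.2, Cfsg.Agent.LsF.f4b6e62_20.2, Cfsg.Agent.LsF.f4b6e62_21.2, Cfsg.Agent.LsF.nmod_pat,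 Cfsg.Agent.LsF.nbeq_pat, Cfsg.Agent.LsF.map_eq, Cfsg.Agent.LsF.flatten_eq, Cfsg.Agent.LsF.filter_eq]; exact rfl) | exact rfl⟩
theorem Frame.tits (f : Frame T Y n S A) (tab : OrderTable.{u}) (hS : IsKnownSimple' S) (h : Lie.IsoTits T) :
    Goal Y A f.conj_mem := by
  exact (f.false_of_nil tab hS (tab.spor T (.tits, 17971200) (by decide) h)
    [(2, 11), (3, 3), (5, 2), (13, 1)] (by decide +kernel) (by norm_num) (by (refine nil_of (of_decide_eq_true ?_); (try (rewrite [Cfsg.Agent.LsF.f4b6e62_24.2, Cfsg.Agent.LsF.f4b6e62_28.2, Cfsg.Agent.LsF.filter_eq, Cfsg.Agent.LsF.decide_eq])); decide +kernel))).elim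

theorem Frame.spor (f : Frame T Y n S A) (tab : OrderTable.{u}) (hS : IsKnownSimple' S) (h : IsSporadicGroup T) :
    Goal Y A f.conj_mem := by
  rcases h with h | h | h | h | h | h | h | h | h | h | h | h | h | h | h | h | h | h | h | h | h | h | h | h | h | h
  · exact (f.false_of_nil tab hS (tab.spor T (.m11, 7920) (by decide) h)
      [(2, 4), (3, 2), (5, 1), (11, 1)] (by decide +kernel) (by norm_num) (nil_of (by decide +kernel))).elim
  · exact (f.false_of_nil tab hS (tab.spor T (.m12, 95040) (by decide) h)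
      [(2, 6), (3, 3), (5, 1), (11, 1)] (by decide +kernel) (by norm_num) (nil_of (by decide +kernel))).elim
  · exact (f.false_of_nil tab hS (tab.spor T (.m22, 443520) (by decide) h)
      [(2, 7), (3, 2), (5, 1), (7, 1), (11, 1)] (by decide +kernel) (by norm_num) (by (refine nil_of (of_decide_eq_true ?_); (try (rewrite [Cfsg.Agent.LsF.f4b6e62_24.2, Cfsg.Agent.LsF.f4b6e62_28.2, Cfsg.Agent.LsF.filter_eq, Cfsg.Agent.LsF.decide_eq])); decide +kernel))).elim
  · exact f.m23 tab hS h
  · exact (f.false_of_nil tab hS (tab.spor T (.m24, 244823040) (by decide) h)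
      [(2, 10), (3, 3), (5, 1), (7, 1), (11, 1), (23, 1)] (by decide +kernel) (by norm_num) (by (refine nil_of (of_decide_eq_true ?_); (try (rewrite [Cfsg.Agent.LsF.f4b6e62_24.2, Cfsg.Agent.LsF.f4b6e62_28.2, Cfsg.Agent.LsF.filter_eq, Cfsg.Agent.LsF.decide_eq])); decide +kernel))).elim
  · exact (f.j1 tab hS h).elim
  · exact (f.false_of_nil tab hS (tab.spor T (.j2, 604800) (by decide) h)
      [(2, 7), (3, 3), (5, 2), (7, 1)] (by decide +kernel) (by norm_num) (by (refine nil_of (of_decide_eq_true ?_); (try (rewrite [Cfsg.Agent.LsF.f4b6e62_24.2, Cfsg.Agent.LsF.f4b6e62_28.2, Cfsg.Agent.LsF.filter_eq, Cfsg.Agent.LsF.decide_eq])); decide +kernel))).elim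
  · exact (f.false_of_nil tab hS (tab.spor T (.j3, 50232960) (by decide) h)
      [(2, 7), (3, 5), (5, 1), (17, 1), (19, 1)] (by decide +kernel) (by norm_num) (by (refine nil_of (of_decide_eq_true ?_); (try (rewrite [Cfsg.Agent.LsF.f4b6e62_24.2, Cfsg.Agent.LsF.f4b6e62_28.2, Cfsg.Agent.LsF.filter_eq, Cfsg.Agent.LsF.decide_eq])); decide +kernel))).elim
  · exact (f.false_of_nil tab hS (tab.spor T (.j4, 86775571046077562880) (by decide) h)
      [(2, 21), (3, 3), (5, 1), (7, 1), (11, 3), (23, 1), (29, 1), (31, 1), (37, 1), (43, 1)] (by decide +kernel) (by norm_num) (by (refine nil_of (of_decide_eq_true ?_); (try (rewrite [Cfsg.Agent.LsF.f4b6e62_24.2, Cfsg.Agent.LsF.f4b6e62_28.2, Cfsg.Agent.LsF.filter_eq, Cfsg.Agent.LsF.decide_eq])); decide +kernel))).elim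
  · exact (f.false_of_nil tab hS (tab.spor T (.co1, 4157776806543360000) (by decide) h)
      [(2, 21), (3, 9), (5, 4), (7, 2), (11, 1), (13, 1), (23, 1)] (by decide +kernel) (by norm_num) (by (refine nil_of (of_decide_eq_true ?_); (try (rewrite [Cfsg.Agent.LsF.f4b6e62_24.2, Cfsg.Agent.LsF.f4b6e62_28.2, Cfsg.Agent.LsF.filter_eq, Cfsg.Agent.LsF.decide_eq])); decide +kernel))).elim
  · exact (f.false_of_nil tab hS (tab.spor T (.co2, 42305421312000) (by decide) h)
      [(2, 18), (3, 6), (5, 3), (7, 1), (11, 1), (23, 1)] (by decide +kernel) (by norm_num) (by (refine nil_of (of_decide_eq_true ?_); (try (rewrite [Cfsg.Agent.LsF.f4b6e62_24.2, Cfsg.Agent.LsF.f4b6e62_28.2, Cfsg.Agent.LsF.filter_eq, Cfsg.Agent.LsF.decide_eq])); decide +kernel))).elim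
  · exact (f.false_of_nil tab hS (tab.spor T (.co3, 495766656000) (by decide) h)
      [(2, 10), (3, 7), (5, 3), (7, 1), (11, 1), (23, 1)] (by decide +kernel) (by norm_num) (by (refine nil_of (of_decide_eq_true ?_); (try (rewrite [Cfsg.Agent.LsF.f4b6e62_24.2, Cfsg.Agent.LsF.f4b6e62_28.2, Cfsg.Agent.LsF.filter_eq, Cfsg.Agent.LsF.decide_eq])); decide +kernel))).elim
  · exact (f.false_of_nil tab hS (tab.spor T (.mcl, 898128000) (by decide) h)
      [(2, 7), (3, 6), (5, 3), (7, 1), (11, 1)] (by decide +kernel) (by norm_num) (by (refine nil_of (of_decide_eq_true ?_); (try (rewrite [Cfsg.Agent.LsF.f4b6e62_24.2, Cfsg.Agent.LsF.f4b6e62_28.2, Cfsg.Agent.LsF.filter_eq, Cfsg.Agent.LsF.decide_eq])); decide +kernel))).elim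
  · exact (f.false_of_nil tab hS (tab.spor T (.hs, 44352000) (by decide) h)
      [(2, 9), (3, 2), (5, 3), (7, 1), (11, 1)] (by decide +kernel) (by norm_num) (by (refine nil_of (of_decide_eq_true ?_); (try (rewrite [Cfsg.Agent.LsF.f4b6e62_24.2, Cfsg.Agent.LsF.f4b6e62_28.2, Cfsg.Agent.LsF.filter_eq, Cfsg.Agent.LsF.decide_eq])); decide +kernel))).elim
  · exact (f.false_of_nil tab hS (tab.spor T (.suz, 448345497600) (by decide) h)
      [(2, 13), (3, 7), (5, 2), (7, 1), (11, 1), (13, 1)] (by decide +kernel) (by norm_num) (by (refine nil_of (of_decide_eq_true ?_); (try (rewrite [Cfsg.Agent.LsF.f4b6e62_24.2, Cfsg.Agent.LsF.f4b6e62_28.2, Cfsg.Agent.LsF.filter_eq, Cfsg.Agent.LsF.decide_eq])); decide +kernel))).elim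
  · exact (f.false_of_nil tab hS (tab.spor T (.he, 4030387200) (by decide) h)
      [(2, 10), (3, 3), (5, 2), (7, 3), (17, 1)] (by decide +kernel) (by norm_num) (by (refine nil_of (of_decide_eq_true ?_); (try (rewrite [Cfsg.Agent.LsF.f4b6e62_24.2, Cfsg.Agent.LsF.f4b6e62_28.2, Cfsg.Agent.LsF.filter_eq, Cfsg.Agent.LsF.decide_eq])); decide +kernel))).elim
  · exact (f.false_of_nil tab hS (tab.spor T (.ru, 145926144000) (by decide) h)
      [(2, 14), (3, 3), (5, 3), (7, 1), (13, 1), (29, 1)] (by decide +kernel) (by norm_num) (by (refine nil_of (of_decide_eq_true ?_); (try (rewrite [Cfsg.Agent.LsF.f4b6e62_24.2, Cfsg.Agent.LsF.f4b6e62_28.2, Cfsg.Agent.LsF.filter_eq, Cfsg.Agent.LsF.decide_eq])); decide +kernel))).elim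
  · exact (f.false_of_nil tab hS (tab.spor T (.on, 460815505920) (by decide) h)
      [(2, 9), (3, 4), (5, 1), (7, 3), (11, 1), (19, 1), (31, 1)] (by decide +kernel) (by norm_num) (by (refine nil_of (of_decide_eq_true ?_); (try (rewrite [Cfsg.Agent.LsF.f4b6e62_24.2, Cfsg.Agent.LsF.f4b6e62_28.2, Cfsg.Agent.LsF.filter_eq, Cfsg.Agent.LsF.decide_eq])); decide +kernel))).elim
  · exact (f.false_of_nil tab hS (tab.spor T (.ly, 51765179004000000) (by decide) h)
      [(2, 8), (3, 7), (5, 6), (7, 1), (11, 1), (31, 1), (37, 1), (67, 1)] (by decide +kernel) (by norm_num) (by (refine nil_of (of_decide_eq_true ?_); (try (rewrite [Cfsg.Agent.LsF.f4b6e62_24.2, Cfsg.Agent.LsF.f4b6e62_28.2, Cfsg.Agent.LsF.filter_eq, Cfsg.Agent.LsF.decide_eq])); decide +kernel))).elim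
  · exact (f.false_of_nil tab hS (tab.spor T (.fi22, 64561751654400) (by decide) h)
      [(2, 17), (3, 9), (5, 2), (7, 1), (11, 1), (13, 1)] (by decide +kernel) (by norm_num) (by (refine nil_of (of_decide_eq_true ?_); (try (rewrite [Cfsg.Agent.LsF.f4b6e62_24.2, Cfsg.Agent.LsF.f4b6e62_28.2, Cfsg.Agent.LsF.filter_eq, Cfsg.Agent.LsF.decide_eq])); decide +kernel))).elim
  · exact (f.false_of_nil tab hS (tab.spor T (.fi23, 4089470473293004800) (by decide) h)
      [(2, 18), (3, 13), (5, 2), (7, 1), (11, 1), (13, 1), (17, 1), (23, 1)] (by decide +kernel) (by norm_num) (by (refine nil_of (of_decide_eq_true ?_); (try (rewrite [Cfsg.Agent.LsF.f4b6e62_24.2, Cfsg.Agent.LsF.f4b6e62_28.2, Cfsg.Agent.LsF.filter_eq, Cfsg.Agent.LsF.decide_eq])); decide +kernel))).elim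
  · exact (f.false_of_nil tab hS (tab.spor T (.fi24, 1255205709190661721292800) (by decide) h)
      [(2, 21), (3, 16), (5, 2), (7, 3), (11, 1), (13, 1), (17, 1), (23, 1), (29, 1)] (by decide +kernel) (by norm_num) (by (refine nil_of (of_decide_eq_true ?_); (try (rewrite [Cfsg.Agent.LsF.f4b6e62_24.2, Cfsg.Agent.LsF.f4b6e62_28.2, Cfsg.Agent.LsF.filter_eq, Cfsg.Agent.LsF.decide_eq])); decide +kernel))).elim
  · exact (f.false_of_nil tab hS (tab.spor T (.hn, 273030912000000) (by decide) h)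
      [(2, 14), (3, 6), (5, 6), (7, 1), (11, 1), (19, 1)] (by decide +kernel) (by norm_num) (by (refine nil_of (of_decide_eq_true ?_); (try (rewrite [Cfsg.Agent.LsF.f4b6e62_24.2, Cfsg.Agent.LsF.f4b6e62_28.2, Cfsg.Agent.LsF.filter_eq, Cfsg.Agent.LsF.decide_eq])); decide +kernel))).elim
  · exact (f.false_of_nil tab hS (tab.spor T (.th, 90745943887872000) (by decide) h)
      [(2, 15), (3, 10), (5, 3), (7, 2), (13, 1), (19, 1), (31, 1)] (by decide +kernel) (by norm_num) (by (refine nil_of (of_decide_eq_true ?_); (try (rewrite [Cfsg.Agent.LsF.f4b6e62_24.2, Cfsg.Agent.LsF.f4b6e62_28.2, Cfsg.Agent.LsF.filter_eq, Cfsg.Agent.LsF.decide_eq])); decide +kernel))).elim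
  · exact (f.false_of_nil tab hS (tab.spor T (.b, 4154781481226426191177580544000000) (by decide) h)
      [(2, 41), (3, 13), (5, 6), (7, 2), (11, 1), (13, 1), (17, 1), (19, 1), (23, 1), (31, 1), (47, 1)] (by decide +kernel) (by norm_num) (by (refine nil_of (of_decide_eq_true ?_); (try (rewrite [Cfsg.Agent.LsF.f4b6e62_24.2, Cfsg.Agent.LsF.f4b6e62_28.2, Cfsg.Agent.LsF.filter_eq, Cfsg.Agent.LsF.decide_eq])); decide +kernel))).elim
  · exact (f.false_of_nil tab hS (tab.spor T (.m, 808017424794512875886459904961710757005754368000000000) (by decide) h)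
      [(2, 46), (3, 20), (5, 9), (7, 6), (11, 2), (13, 3), (17, 1), (19, 1), (23, 1), (29, 1), (31, 1), (41, 1), (47, 1), (59, 1), (71, 1)] (by decide +kernel) (by norm_num) (by (refine nil_of (of_decide_eq_true ?_); (try (rewrite [Cfsg.Agent.LsF.f4b6e62_24.2, Cfsg.Agent.LsF.f4b6e62_28.2, Cfsg.Agent.LsF.filter_eq, Cfsg.Agent.LsF.decide_eq])); decide +kernel))).elim

end Cfsg.Agent.H324.Hall
end

-- part: H324/Hall/Final
section
/-!
# `PartB`
-/

set_option autoImplicit false
set_option linter.unusedSectionVars false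

open Module Cfsg

universe u

namespace Cfsg.Agent.H324.Hall

/-- **`PartB`**, from the table of the orders, the odd order theorem and the classification. -/
theorem partB (tab : OrdDiv.OrderTable.{u})
    (hFT : ∀ (X : Type u) [Group X] [Finite X], Odd (Nat.card X) → Group.IsSolvable X)
    (hK : ∀ (X : Type u) [Group X] [Finite X] [IsSimpleGroup X], IsKnownSimple' X) : PartB.{u} := by
  refine partB_of fun T _ _ _ Y n S _ _ A f => ?_
  have hfin : Finite S := f.finiteS
  have hS : IsKnownSimple' S := hK S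
  rcases PreUniq.known_cases (hK T) with h | ⟨m, hm, ⟨e⟩⟩ | ⟨p, hp, h⟩ | h | h
  · exfalso
    have : Fact (Nat.card T).Prime := ⟨h⟩
    have : IsCyclic T := isCyclic_of_prime_card (p := Nat.card T) rfl
    obtain ⟨a, b, hab⟩ := f.nc
    exact hab ((IsCyclic.isMulCommutative (α := T)).is_comm.comm a b)
  · exact f.alt hFT hm e
  · by_cases hpY : p ∣ Nat.card Y
    · exact (f.lieDvd hp h hpY).elim
    · rcases Nat.lt_or_ge p 5 with h5 | h5
      · have h2 := hp.two_le
        interval_cases p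
        · exact absurd (f.two_dvd hFT) hpY
        · exact (f.char_three hFT h hpY).elim
        · exact absurd hp (by norm_num)
      · exact f.lie5 tab hS hp h5 h
  · exact f.tits tab hS h
  · exact f.spor tab hS h

end Cfsg.Agent.H324.Hall
end
end

-- part: H715/Red
section
prune_inst 0x4252068040800120000180512900020245400049200600400dda104400806136029812901408008174a328c8120050028110000000000000000000400000104019082c6000340018c24008f802086010000000000000000000000000000041000204010000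
set_option linter.all false
open scoped Cfsg.Agent.FastGrp

-- part: H715/Basic
section
/-!
# Extension of all irreducible characters of a subgroup (helper715)

* `Ext H` : every irreducible character of `H` is the restriction of an irreducible character of `G`.
* `Compl H` : `H` has a normal complement.
* `Ext.exists_rep` : irreducible representations of `H` extend to `G`.
* `Ext.isConj` : `H` controls the `G`-fusion of its elements.
* `kap H` : the intersection of the kernels of the representations of `G` which are irreducible on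
  `H`.
* `Ext.quot` : `Ext` in quotients.
-/

set_option autoImplicit false

namespace Cfsg.Agent.H715

open Subgroup Cfsg.Agent.Characters

universe u

variable {G : Type u} [Group G]

/-- every irreducible character of `H` extends to `G` -/
def Ext (H : Subgroup G) : Prop :=
  ∀ θ : Cfsg.IrrCharacter H, ∃ χ : Cfsg.IrrCharacter G, ∀ x : H, (χ : G → ℂ) x = (θ : H → ℂ) x

/-- `H` has a normal complement -/
def Compl (H : Subgroup G) : Prop :=
  ∃ N : Subgroup G, N.Normal ∧ H ⊔ N = ⊤ ∧ H ⊓ N = ⊥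

/-- A representation whose restriction along a homomorphism is irreducible is irreducible. -/
theorem irr_of_comp {H V : Type*} [Group H] [AddCommGroup V] [Module ℂ V]
    (f : H →* G) (ρ : Representation ℂ G V)
    (h : Representation.IsIrreducible (ρ.comp f : Representation ℂ H V)) : ρ.IsIrreducible := by
  have hinj : ∀ σ : Subrepresentation ρ, ∃ τ : Subrepresentation (ρ.comp f : Representation ℂ H V),
      τ.toSubmodule = σ.toSubmodule := fun σ =>
    ⟨⟨σ.toSubmodule, fun g v hv => σ.apply_mem_toSubmodule (f g) hv⟩, rfl⟩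
  have hn := h.toNontrivial
  refine { exists_pair_ne := ?_, eq_bot_or_eq_top := ?_ }
  · refine ⟨⊥, ⊤, fun hbt => ?_⟩
    have h1 : (⊥ : Subrepresentation ρ).toSubmodule = (⊤ : Subrepresentation ρ).toSubmodule := by
      rw [hbt]
    have h2 : (⊥ : Subrepresentation (ρ.comp f : Representation ℂ H V)) = ⊤ :=
      Subrepresentation.toSubmodule_injective h1
    exact bot_ne_top h2
  · intro σ
    obtain ⟨τ, hτ⟩ := hinj σ
    rcases h.eq_bot_or_eq_top τ with h0 | h0
    · left
      apply Subrepresentation.toSubmodule_injective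
      rw [← hτ, h0]
      rfl
    · right
      apply Subrepresentation.toSubmodule_injective
      rw [← hτ, h0]
      rfl

/-- Pulling back along a surjection keeps irreducibility. -/
theorem irr_comp_surj {H V : Type*} [Group H] [AddCommGroup V] [Module ℂ V]
    (f : H →* G) (hf : Function.Surjective f) (ρ : Representation ℂ G V)
    (h : ρ.IsIrreducible) : Representation.IsIrreducible (ρ.comp f : Representation ℂ H V) := by
  have hs : IsSimpleOrder (Subrepresentation ρ) := h
  let F : Subrepresentation (ρ.comp f : Representation ℂ H V) → Subrepresentation ρ := fun W =>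
    { toSubmodule := W.toSubmodule
      apply_mem_toSubmodule := by
        intro g v hv
        obtain ⟨x, rfl⟩ := hf g
        exact W.apply_mem_toSubmodule x hv }
  refine
    { exists_pair_ne := ⟨⊥, ⊤, fun hbt => ?_⟩
      eq_bot_or_eq_top := fun σ => ?_ }
  · have h1 : (⊥ : Submodule ℂ V) = ⊤ := congrArg Subrepresentation.toSubmodule hbt
    have h2 : (⊥ : Subrepresentation ρ) = ⊤ := Subrepresentation.toSubmodule_injective h1
    exact bot_ne_top h2
  · rcases eq_bot_or_eq_top (F σ) with h1 | h1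
    · left
      apply Subrepresentation.toSubmodule_injective
      have h2 := congrArg Subrepresentation.toSubmodule h1
      exact h2
    · right
      apply Subrepresentation.toSubmodule_injective
      have h2 := congrArg Subrepresentation.toSubmodule h1
      exact h2

/-- The easy direction. -/
theorem Compl.ext {H : Subgroup G} (hc : Compl H) : Ext H := by
  obtain ⟨N, hN, hsup, hinf⟩ := hc
  have hinj : Function.Injective ((QuotientGroup.mk' N).comp H.subtype) := by
    rw [injective_iff_map_eq_one]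
    intro x hx
    have h1 : (x : G) ∈ N := (QuotientGroup.eq_one_iff (x : G)).1 hx
    have h2 : (x : G) ∈ H ⊓ N := ⟨x.2, h1⟩
    rw [hinf, mem_bot] at h2
    exact Subtype.ext h2
  have hsurj : Function.Surjective ((QuotientGroup.mk' N).comp H.subtype) := by
    intro q
    obtain ⟨g, rfl⟩ := QuotientGroup.mk'_surjective N q
    have hg : g ∈ H ⊔ N := by rw [hsup]; exact mem_top g
    rw [← SetLike.mem_coe, mul_normal] at hg
    obtain ⟨h, hh, n, hn, rfl⟩ := hg
    refine ⟨⟨h, hh⟩, ?_⟩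
    show (h : G ⧸ N) = ((h * n : G) : G ⧸ N)
    rw [QuotientGroup.eq]
    simpa using hn
  let e : H ≃* G ⧸ N := MulEquiv.ofBijective _ ⟨hinj, hsurj⟩
  let r : G →* H := e.symm.toMonoidHom.comp (QuotientGroup.mk' N)
  have hr : Function.Surjective r :=
    e.symm.surjective.comp (QuotientGroup.mk'_surjective N)
  intro θ
  refine ⟨⟨(θ : H → ℂ) ∘ r, Core.isIrr_comp r hr θ.2⟩, fun x => ?_⟩
  have hx : r x = x := by
    show e.symm (QuotientGroup.mk' N (x : G)) = x
    rw [MulEquiv.symm_apply_eq]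
    rfl
  show (θ : H → ℂ) (r x) = (θ : H → ℂ) x
  rw [hx]

/-- Irreducible representations of `H` extend. -/
theorem Ext.exists_rep [Finite G] {H : Subgroup G} (hE : Ext H) {V : Type*} [AddCommGroup V]
    [Module ℂ V] [FiniteDimensional ℂ V] (τ : Representation ℂ H V) (hτ : τ.IsIrreducible) :
    ∃ ρ : Representation ℂ G V, ∀ h : H, ρ h = τ h := by
  obtain ⟨χ, hχ⟩ := hE ⟨τ.character, Core.isIrrCharacter_of_rep τ hτ⟩
  obtain ⟨n, ρ0, -, h0⟩ := χ.2
  let ρ1 : Representation ℂ H (Fin n → ℂ) := ρ0.comp H.subtype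
  have hch : ρ1.character = τ.character := by
    funext x
    have h1 := hχ x
    rw [← h0] at h1
    exact h1
  obtain ⟨e⟩ := Core.nonempty_equiv_of_character_eq ρ1 τ hch
  refine ⟨Core.transportRep e.toLinearEquiv ρ0, fun h => ?_⟩
  rw [Core.transportRep_apply]
  ext v
  have h1 := Representation.IntertwiningMap.isIntertwining _ _ e.toIntertwiningMap h (e.toLinearEquiv.symm v)
  rw [LinearEquiv.conj_apply_apply]
  refine Eq.trans h1 ?_
  congr 1
  exact e.toLinearEquiv.apply_symm_apply v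

/-- An element on which every irreducible character takes its degree is trivial; more generally
irreducible characters separate classes. -/
theorem isConj_of_irr {H : Type*} [Group H] [Finite H] {x y : H}
    (h : ∀ θ : Cfsg.IrrCharacter H, (θ : H → ℂ) x = (θ : H → ℂ) y) : IsConj x y := by
  classical
  let L : (ConjClasses H → ℂ) →ₗ[ℂ] ℂ :=
    (LinearMap.proj (ConjClasses.mk x) : (ConjClasses H → ℂ) →ₗ[ℂ] ℂ) -
      (LinearMap.proj (ConjClasses.mk y) : (ConjClasses H → ℂ) →ₗ[ℂ] ℂ)
  have hL : L = 0 := by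
    apply (Core.irrBasis H).ext
    intro θ
    simp only [L, LinearMap.sub_apply, LinearMap.proj_apply, Core.irrBasis_apply, LinearMap.zero_apply, h θ,
      sub_self]
  have h2 := LinearMap.congr_fun hL (Pi.single (ConjClasses.mk x) 1)
  simp only [L, LinearMap.sub_apply, LinearMap.proj_apply, LinearMap.zero_apply, Pi.single_eq_same] at h2
  by_contra hc
  have h3 : ConjClasses.mk y ≠ ConjClasses.mk x := fun h0 =>
    hc (ConjClasses.mk_eq_mk_iff_isConj.1 h0).symm
  rw [Pi.single_eq_of_ne h3] at h2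
  simp at h2

/-- `H` controls the fusion of its elements. -/
theorem Ext.isConj [Finite G] {H : Subgroup G} (hE : Ext H) {x y : H} (h : IsConj (x : G) (y : G)) :
    IsConj x y := by
  apply isConj_of_irr
  intro θ
  obtain ⟨χ, hχ⟩ := hE θ
  rw [← hχ, ← hχ]
  exact Core.classFunction_apply_eq (Core.isIrr_isClassFunction χ.2) h

/-- An element of a finite group killed by every irreducible representation is trivial. -/
theorem eq_one_of_irr {H : Type*} [Group H] [Finite H] {x : H}
    (h : ∀ (n : ℕ) (τ : Representation ℂ H (Fin n → ℂ)), τ.IsIrreducible → τ x = 1) : x = 1 := by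
  have h1 : IsConj x 1 := by
    apply isConj_of_irr
    rintro ⟨θ, n, τ, hτ, rfl⟩
    show τ.character x = τ.character 1
    simp only [Representation.character, h n τ hτ, map_one]
  exact isConj_one_left.1 h1

/-- Irreducible representations trivial on a normal subgroup `Z` see everything outside `Z`. -/
theorem mem_of_irr {H : Type*} [Group H] [Finite H] (Z : Subgroup H) [Z.Normal] {x : H}
    (h : ∀ (n : ℕ) (τ : Representation ℂ H (Fin n → ℂ)), τ.IsIrreducible →
      (∀ z ∈ Z, τ z = 1) → τ x = 1) : x ∈ Z := by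
  rw [← QuotientGroup.eq_one_iff]
  apply eq_one_of_irr
  intro n τ hτ
  refine h n (τ.comp (QuotientGroup.mk' Z)) (irr_comp_surj _ (QuotientGroup.mk'_surjective Z) τ hτ)
    (fun z hz => ?_)
  show τ (QuotientGroup.mk' Z z) = 1
  rw [show QuotientGroup.mk' Z z = 1 from (QuotientGroup.eq_one_iff z).2 hz, map_one]

/-- The intersection of the kernels of the representations of `G` whose restriction to `H` is
irreducible. -/
def kap (H : Subgroup G) : Subgroup G :=
  ⨅ (n : ℕ) (ρ : Representation ℂ G (Fin n → ℂ))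
    (_ : Representation.IsIrreducible (ρ.comp H.subtype : Representation ℂ H (Fin n → ℂ))),
    MonoidHom.ker ρ

theorem mem_kap {H : Subgroup G} {g : G} : g ∈ kap H ↔ ∀ (n : ℕ) (ρ : Representation ℂ G (Fin n → ℂ)),
    Representation.IsIrreducible (ρ.comp H.subtype : Representation ℂ H (Fin n → ℂ)) → ρ g = 1 := by
  simp only [kap, mem_iInf, MonoidHom.mem_ker]

theorem kap_normal (H : Subgroup G) : (kap H).Normal := by
  constructor
  intro x hx g
  rw [mem_kap] at hx ⊢
  intro n ρ hρ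
  rw [map_mul, map_mul, hx n ρ hρ, mul_one, ← map_mul, mul_inv_cancel, map_one]

theorem Ext.kap_inf [Finite G] {H : Subgroup G} (hE : Ext H) : H ⊓ kap H = ⊥ := by
  rw [eq_bot_iff]
  rintro x ⟨hxH, hx⟩
  rw [mem_bot]
  have h1 : (⟨x, hxH⟩ : H) = 1 := by
    apply eq_one_of_irr
    intro n τ hτ
    obtain ⟨ρ, hρ⟩ := hE.exists_rep τ hτ
    rw [← hρ]
    apply mem_kap.1 hx n ρ
    have : (ρ.comp H.subtype : Representation ℂ H (Fin n → ℂ)) = τ := by
      ext h : 1
      exact hρ h
    rw [this]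
    exact hτ
  exact congrArg Subtype.val h1

/-- `Ext` in a quotient. -/
theorem ext_map {H L : Subgroup G} [L.Normal]
    (hE : ∀ (n : ℕ) (τ : Representation ℂ H (Fin n → ℂ)), τ.IsIrreducible →
      (∀ h : H, (h : G) ∈ L → τ h = 1) →
      ∃ ρ : Representation ℂ G (Fin n → ℂ), (∀ h : H, ρ h = τ h) ∧ ∀ l ∈ L, ρ l = 1) :
    Ext (H.map (QuotientGroup.mk' L)) := by
  rintro ⟨θ, n, τ', hτ', rfl⟩
  let f : H →* H.map (QuotientGroup.mk' L) := (QuotientGroup.mk' L).subgroupMap H
  have hf : Function.Surjective f := (QuotientGroup.mk' L).subgroupMap_surjective H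
  obtain ⟨ρ, hρ, hL⟩ := hE n (τ'.comp f) (irr_comp_surj f hf τ' hτ') (by
    intro h hh
    have h1 : f h = 1 := Subtype.ext ((QuotientGroup.eq_one_iff (h : G)).2 hh)
    show τ' (f h) = 1
    rw [h1, map_one])
  let ρ' : Representation ℂ (G ⧸ L) (Fin n → ℂ) := QuotientGroup.lift L ρ hL
  have hρ' : ∀ x, ρ' (QuotientGroup.mk' L x) = ρ x := fun x => rfl
  have hres : ∀ y : H.map (QuotientGroup.mk' L), ρ' y = τ' y := by
    intro y
    obtain ⟨h, rfl⟩ := hf y
    have h1 : ((f h : H.map (QuotientGroup.mk' L)) : G ⧸ L) = QuotientGroup.mk' L (h : G) := rfl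
    rw [h1, hρ', hρ]
    rfl
  have hirr : ρ'.IsIrreducible := by
    apply irr_of_comp (H.map (QuotientGroup.mk' L)).subtype
    have : (ρ'.comp (H.map (QuotientGroup.mk' L)).subtype :
        Representation ℂ (H.map (QuotientGroup.mk' L)) (Fin n → ℂ)) = τ' := by
      ext y : 1
      exact hres y
    rw [this]
    exact hτ'
  refine ⟨⟨ρ'.character, n, ρ', hirr, rfl⟩, fun x => ?_⟩
  show LinearMap.trace ℂ _ (ρ' x) = LinearMap.trace ℂ _ (τ' x)
  rw [hres]

/-- A complement in a quotient. -/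
theorem compl_comap {H L : Subgroup G} [L.Normal] (hc : Compl (H.map (QuotientGroup.mk' L))) :
    ∃ K : Subgroup G, K.Normal ∧ L ≤ K ∧ H ⊔ K = ⊤ ∧ H ⊓ K = H ⊓ L := by
  obtain ⟨N, hN, hsup, hinf⟩ := hc
  have hLK : L ≤ N.comap (QuotientGroup.mk' L) := by
    intro x hx
    rw [mem_comap, show QuotientGroup.mk' L x = 1 from (QuotientGroup.eq_one_iff x).2 hx]
    exact N.one_mem
  refine ⟨N.comap (QuotientGroup.mk' L), hN.comap _, hLK, ?_, ?_⟩
  · have h1 : (H ⊔ N.comap (QuotientGroup.mk' L)).map (QuotientGroup.mk' L) = ⊤ := by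
      rw [Subgroup.map_sup, map_comap_eq_self_of_surjective (QuotientGroup.mk'_surjective L), hsup]
    rw [eq_top_iff]
    intro g _
    have h2 : QuotientGroup.mk' L g ∈ (H ⊔ N.comap (QuotientGroup.mk' L)).map (QuotientGroup.mk' L) := by
      rw [h1]; exact mem_top _
    obtain ⟨y, hy, hyg⟩ := h2
    have h3 : y⁻¹ * g ∈ L := by
      rw [← QuotientGroup.eq]
      exact hyg
    have h4 : g = y * (y⁻¹ * g) := by group
    rw [h4]
    exact mul_mem hy (mem_sup_right (hLK h3))
  · apply le_antisymm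
    · rintro x ⟨hxH, hx⟩
      refine ⟨hxH, ?_⟩
      have h1 : QuotientGroup.mk' L x ∈ H.map (QuotientGroup.mk' L) ⊓ N := ⟨⟨x, hxH, rfl⟩, hx⟩
      rw [hinf, mem_bot] at h1
      exact (QuotientGroup.eq_one_iff x).1 h1
    · exact inf_le_inf_left _ hLK

end Cfsg.Agent.H715
end

-- part: H715/Red
section
/-!
# First reductions (helper715)
-/

set_option autoImplicit false

namespace Cfsg.Agent.H715

open Subgroup Cfsg.Agent.Characters

universe u

/-- The induction hypothesis. -/
def IH (G : Type u) [Group G] : Prop :=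
  ∀ (G' : Type u) [Group G'] [Finite G'], Nat.card G' < Nat.card G →
    ∀ H' : Subgroup G', (Nat.card H').Coprime H'.index → Ext H' → Compl H'

variable {G : Type u} [Group G] [Finite G]

theorem hall_map {H : Subgroup G} (hH : (Nat.card H).Coprime H.index) (L : Subgroup G) [L.Normal] :
    (Nat.card (H.map (QuotientGroup.mk' L))).Coprime (H.map (QuotientGroup.mk' L)).index := by
  refine Nat.Coprime.coprime_dvd_left ?_ (Nat.Coprime.coprime_dvd_right ?_ hH)
  · exact card_dvd_of_surjective _ ((QuotientGroup.mk' L).subgroupMap_surjective H)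
  · exact index_map_dvd H (QuotientGroup.mk'_surjective L)

theorem card_quot_lt {L : Subgroup G} [L.Normal] (hL : L ≠ ⊥) : Nat.card (G ⧸ L) < Nat.card G := by
  rw [Subgroup.card_eq_card_quotient_mul_card_subgroup L]
  have h1 : 1 < Nat.card L := by
    rw [Subgroup.one_lt_card_iff_ne_bot]
    exact hL
  have h2 : 0 < Nat.card (G ⧸ L) := Nat.card_pos
  nlinarith

/-- Passing to a quotient in the induction. -/
theorem exists_of_quot (ih : IH G) {H : Subgroup G} (hH : (Nat.card H).Coprime H.index)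
    {L : Subgroup G} [L.Normal] (hL : L ≠ ⊥) (hE : Ext (H.map (QuotientGroup.mk' L))) :
    ∃ K : Subgroup G, K.Normal ∧ L ≤ K ∧ H ⊔ K = ⊤ ∧ H ⊓ K = H ⊓ L :=
  compl_comap (ih _ (card_quot_lt hL) _ (hall_map hH L) hE)

/-- The normal subgroup on which the extension of `τ` is trivial. -/
theorem normalClosure_le_ker {Z : Subgroup G} {V : Type*} [AddCommGroup V] [Module ℂ V]
    (ρ : Representation ℂ G V) (h : ∀ z ∈ Z, ρ z = 1) : ∀ x ∈ normalClosure (Z : Set G), ρ x = 1 := by
  have h1 : normalClosure (Z : Set G) ≤ MonoidHom.ker ρ := normalClosure_le_normal (fun z hz => h z hz)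
  exact fun x hx => h1 hx

theorem Ext.map_normalClosure {H : Subgroup G} (hE : Ext H) {Z : Subgroup G} (hZH : Z ≤ H) :
    Ext (H.map (QuotientGroup.mk' (normalClosure (Z : Set G)))) := by
  apply ext_map
  intro n τ hτ h
  obtain ⟨ρ, hρ⟩ := hE.exists_rep τ hτ
  refine ⟨ρ, hρ, normalClosure_le_ker ρ (fun z hz => ?_)⟩
  rw [show z = ((⟨z, hZH hz⟩ : H) : G) from rfl, hρ]
  exact h _ (subset_normalClosure hz)

theorem Ext.inf_normalClosure {H : Subgroup G} (hE : Ext H) {Z : Subgroup G} (hZH : Z ≤ H)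
    (hn : ∀ h ∈ H, ∀ z ∈ Z, h * z * h⁻¹ ∈ Z) : H ⊓ normalClosure (Z : Set G) = Z := by
  apply le_antisymm
  · rintro x ⟨hxH, hx⟩
    have hZn : (Z.subgroupOf H).Normal := ⟨fun z hz h => hn h h.2 z hz⟩
    have h1 : (⟨x, hxH⟩ : H) ∈ Z.subgroupOf H := by
      apply mem_of_irr
      intro n τ hτ hz
      obtain ⟨ρ, hρ⟩ := hE.exists_rep τ hτ
      rw [← hρ]
      exact normalClosure_le_ker ρ (fun z hz' => by
        rw [show z = ((⟨z, hZH hz'⟩ : H) : G) from rfl, hρ]
        exact hz _ hz') x hx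
    exact h1
  · exact le_inf hZH (fun z hz => subset_normalClosure hz)

theorem exists_K (ih : IH G) {H : Subgroup G} (hH : (Nat.card H).Coprime H.index) (hE : Ext H)
    {Z : Subgroup G} (hZH : Z ≤ H) (hn : ∀ h ∈ H, ∀ z ∈ Z, h * z * h⁻¹ ∈ Z) (hZ : Z ≠ ⊥) :
    ∃ K : Subgroup G, K.Normal ∧ normalClosure (Z : Set G) ≤ K ∧ H ⊔ K = ⊤ ∧ H ⊓ K = Z := by
  have hL : normalClosure (Z : Set G) ≠ ⊥ := by
    intro h0
    apply hZ
    rw [eq_bot_iff, ← h0]
    exact fun z hz => subset_normalClosure hz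
  obtain ⟨K, h1, h2, h3, h4⟩ := exists_of_quot ih hH hL (hE.map_normalClosure hZH)
  exact ⟨K, h1, h2, h3, h4.trans (hE.inf_normalClosure hZH hn)⟩

/-- `|G : K|` divides `|H|` if `HK = G`. -/
theorem index_dvd_card {H K : Subgroup G} [K.Normal] (h : H ⊔ K = ⊤) : K.index ∣ Nat.card H := by
  have h1 : K.index = K.relIndex H := by
    rw [← relIndex_top_right, ← h, relIndex_sup_right]
  rw [h1]
  exact relIndex_dvd_card K H

theorem sup_eq_top_of_coprime {H N : Subgroup G} (h : (N.index).Coprime H.index) : H ⊔ N = ⊤ := by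
  rw [← Subgroup.index_eq_one]
  exact Nat.eq_one_of_dvd_coprimes h (index_dvd_of_le le_sup_right) (index_dvd_of_le le_sup_left)

/-- Two `H`-normal subgroups with trivial intersection give a complement. -/
theorem compl_of_two {H : Subgroup G} (hH : (Nat.card H).Coprime H.index) {K₁ K₂ : Subgroup G}
    (h₁ : K₁.Normal) (h₂ : K₂.Normal) (s₁ : H ⊔ K₁ = ⊤) (s₂ : H ⊔ K₂ = ⊤)
    (hi : (H ⊓ K₁) ⊓ (H ⊓ K₂) = ⊥) : Compl H := by
  refine ⟨K₁ ⊓ K₂, inferInstance, ?_, ?_⟩
  · apply sup_eq_top_of_coprime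
    have h3 : (K₁ ⊓ K₂).index ∣ K₁.index * K₂.index := by
      rw [← relIndex_mul_index (inf_le_left : K₁ ⊓ K₂ ≤ K₁), inf_relIndex_left, mul_comm]
      exact Nat.mul_dvd_mul_left _ (relIndex_dvd_index_of_normal K₂ K₁)
    refine Nat.Coprime.coprime_dvd_left h3 (Nat.Coprime.mul_left ?_ ?_)
    · exact Nat.Coprime.coprime_dvd_left (index_dvd_card s₁) hH
    · exact Nat.Coprime.coprime_dvd_left (index_dvd_card s₂) hH
  · rw [← hi]
    ext x
    simp only [mem_inf]
    (clear * -; tauto)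

theorem compl_of_kap (ih : IH G) {H : Subgroup G} (hH : (Nat.card H).Coprime H.index) (hE : Ext H)
    (hk : kap H ≠ ⊥) : Compl H := by
  have := kap_normal H
  obtain ⟨K, h1, h2, h3, h4⟩ := exists_of_quot ih hH hk (by
    apply ext_map
    intro n τ hτ h
    obtain ⟨ρ, hρ⟩ := hE.exists_rep τ hτ
    refine ⟨ρ, hρ, fun l hl => mem_kap.1 hl n ρ ?_⟩
    have h5 : (ρ.comp H.subtype : Representation ℂ H (Fin n → ℂ)) = τ := by
      ext h : 1
      exact hρ h
    rw [h5]
    exact hτ)
  exact ⟨K, h1, h3, h4.trans hE.kap_inf⟩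

/-- A normal subgroup of order prime to `|H|` is abelian. -/
theorem comm_of_coprime {H : Subgroup G} (hk : kap H = ⊥) {N : Subgroup G} [N.Normal]
    (hcop : (Nat.card N).Coprime (Nat.card H)) : ∀ x ∈ N, ∀ y ∈ N, x * y = y * x := by
  classical
  have := Fintype.ofFinite G
  have := Fintype.ofFinite N
  have := Core.finite_irr (G := N)
  have := Fintype.ofFinite (Cfsg.IrrCharacter N)
  intro x hx y hy
  have hc : x * y * x⁻¹ * y⁻¹ ∈ kap H := by
    rw [mem_kap]
    intro n ρ hρ
    have hirr : ρ.IsIrreducible := irr_of_comp H.subtype ρ hρ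
    have hn : n ∣ Nat.card H := by
      have h1 := Cfsg.Agent.S0135.result (ρ.comp H.subtype : Representation ℂ H (Fin n → ℂ))
      simpa only [_root_.Nat.card_eq_fintype_card, _root_.Module.finrank_fintype_fun_eq_card, _root_.Fintype.card_fin] using h1
    let χ : G → ℂ := ρ.character
    have hχ : Cfsg.IsIrrCharacter G χ := ⟨n, ρ, hirr, rfl⟩
    obtain ⟨m, hm⟩ := Core.exists_nat_comb (Clifford.isCharacter_restrict N (Core.isIrr_isCharacter hχ))
    have hinner : ∀ ψ : Cfsg.IrrCharacter N, m ψ ≠ 0 →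
        Cfsg.classInner (fun n : N => χ n) (ψ : N → ℂ) ≠ 0 := by
      intro ψ hψ
      rw [hm, Core.classInner_sum_nsmul_irr]
      exact_mod_cast hψ
    -- the degree of the constituents
    have hlin : ∀ ψ : Cfsg.IrrCharacter N, m ψ ≠ 0 → (ψ : N → ℂ) 1 = 1 := by
      intro ψ hψ
      obtain ⟨a, ρ', hρ', hρψ⟩ := ψ.2
      have ha : (ψ : N → ℂ) 1 = a := by
        rw [← hρψ, Representation.char_one]
        simp only [_root_.Module.finrank_fintype_fun_eq_card, _root_.Fintype.card_fin]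
      have haN : a ∣ Nat.card N := by
        have h1 := Cfsg.Agent.S0135.result ρ'
        simpa only [_root_.Nat.card_eq_fintype_card, _root_.Module.finrank_fintype_fun_eq_card, _root_.Fintype.card_fin] using h1
      have hall : ∀ φ : Cfsg.IrrCharacter N, m φ ≠ 0 → (φ : N → ℂ) 1 = a := by
        intro φ hφ
        obtain ⟨g, hg⟩ := Clifford.exists_conj_of_constituents N hχ ψ.2 φ.2 (hinner ψ hψ) (hinner φ hφ)
        rw [hg]
        show (ψ : N → ℂ) ((MulAut.conjNormal g : MulAut N) 1) = a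
        rw [map_one, ha]
      have h2 : (n : ℂ) = (∑ φ : Cfsg.IrrCharacter N, m φ : ℕ) * a := by
        have h3 := congrFun hm 1
        have h4 : χ ((1 : N) : G) = n := by
          show ρ.character 1 = n
          rw [Representation.char_one]
          simp only [_root_.Module.finrank_fintype_fun_eq_card, _root_.Fintype.card_fin]
        rw [← h4]
        refine h3.trans ?_
        rw [Finset.sum_apply]
        push_cast
        rw [Finset.sum_mul]
        refine Finset.sum_congr rfl fun φ _ => ?_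
        by_cases h5 : m φ = 0
        · simp [h5]
        · rw [Pi.smul_apply, hall φ h5, nsmul_eq_mul]
      have h6 : a ∣ n := by
        have h7 : n = (∑ φ : Cfsg.IrrCharacter N, m φ) * a := by exact_mod_cast h2
        rw [h7]
        exact Dvd.intro_left _ rfl
      have h8 : a = 1 := Nat.eq_one_of_dvd_coprimes hcop haN (h6.trans hn)
      rw [ha, h8, Nat.cast_one]
    let c : N := ⟨x, hx⟩ * ⟨y, hy⟩ * ⟨x, hx⟩⁻¹ * ⟨y, hy⟩⁻¹
    have hcc : ρ.character (c : G) = (Module.finrank ℂ (Fin n → ℂ) : ℂ) := by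
      rw [← Representation.char_one ρ]
      have e1 := congrFun hm c
      have e2 := congrFun hm 1
      show χ c = χ ((1 : N) : G)
      refine e1.trans (Eq.trans ?_ e2.symm)
      rw [Finset.sum_apply, Finset.sum_apply]
      refine Finset.sum_congr rfl fun φ _ => ?_
      by_cases h5 : m φ = 0
      · simp [h5]
      · obtain ⟨f, hf⟩ := Linear.exists_hom_of_isIrrCharacter φ.2 (hlin φ h5)
        rw [Pi.smul_apply, Pi.smul_apply, hf]
        congr 1
        show ((f c : ℂˣ) : ℂ) = ((f 1 : ℂˣ) : ℂ)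
        congr 1
        show f (⟨x, hx⟩ * ⟨y, hy⟩ * ⟨x, hx⟩⁻¹ * ⟨y, hy⟩⁻¹) = f 1
        rw [map_mul, map_mul, map_mul, map_inv, map_inv, map_one]
        rw [mul_right_comm (f ⟨x, hx⟩), mul_inv_cancel, one_mul, mul_inv_cancel]
    exact (Values.character_eq_finrank_iff ρ _).1 hcc
  rw [hk, mem_bot] at hc
  have h9 : x * y = (x * y * x⁻¹ * y⁻¹) * (y * x) := by group
  rw [h9, hc, one_mul]

end Cfsg.Agent.H715
end

private theorem dce_da3c684a8cd3 : _root_.True := by
  try have : _root_.True := by simp only [_root_.Cfsg.Agent.H715.kap.eq_1]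
  try have : _root_.True := by simp only [_root_.Cfsg.Agent.Characters.Core.irrBasis.congr_simp]
  exact _root_.True.intro
end

-- part: H715/MainCase
section
prune_inst 0x420000000080012004018051000001c4282000400004b04000ce1000004821c4109010e21b060081348320844003c8048120000300008000000000600400001a0808084808048a10820008f001883000000000000000000000000000000041000000000000
set_option linter.all false
open scoped Cfsg.Agent.FastGrp

-- part: H715/Struct
section
/-!
# Structure in the nonsoluble case (helper715)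
-/

set_option autoImplicit false
set_option linter.unusedSectionVars false

namespace Cfsg.Agent.H715

open Subgroup Cfsg.Agent.H386.Factor Cfsg.Agent.Lib.MinNormal Cfsg.Agent.Lib.MinNormalNonabelian

universe u

/-- A normal subgroup of a nonabelian minimal normal subgroup is a direct power of a simple group. -/
theorem exists_dirpow {H : Type u} [Group H] [Finite H] (Z : Subgroup H) [Z.Normal]
    (hmin : ∀ M : Subgroup H, M.Normal → M ≤ Z → M = ⊥ ∨ M = Z)
    (hna : ¬ ∀ x ∈ Z, ∀ y ∈ Z, Commute x y) (Y : Subgroup H) (hYZ : Y ≤ Z)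
    (hYn : Z ≤ normalizer (Y : Set H)) :
    ∃ (n : ℕ) (S : Subgroup H), IsSimpleGroup S ∧ (∃ a b : S, a * b ≠ b * a) ∧
      Nonempty (Y ≃* (Fin n → S)) := by
  classical
  obtain ⟨⟨S, hS⟩, hind, hsup, hsimp, hc, hconj⟩ := nonabelian_structure Z hmin hna
  have hsub : minSet Z ⊆ minSet Z := le_rfl
  have h1 := eq_sSup_of_normal hind hsub hsup hc hYZ hYn
  let ι := {T : Subgroup H // T ∈ minSet Z ∧ T ≤ Y}
  have : Finite ι := Subtype.finite
  have hcomm : Pairwise fun i j : ι => ∀ x y : H, x ∈ i.1 → y ∈ j.1 → Commute x y := by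
    intro i j hij x y hx hy
    refine commute_of_mem hind (fun S hS => hS.2.2.1) (fun S hS => hS.1) i.2.1 j.2.1 ?_ hx hy
    exact fun h => hij (Subtype.ext h)
  have hi : iSupIndep (fun i : ι => i.1) := by
    have h2 := (sSupIndep_iff (minSet Z)).mp hind
    let g : ι → minSet Z := fun i => ⟨i.1, i.2.1⟩
    have hg : Function.Injective g := by
      intro i j hij
      exact Subtype.ext (congrArg (fun t : minSet Z => t.1) hij)
    exact h2.comp hg
  have hs : ⨆ i : ι, i.1 = Y := by
    refine Eq.trans ?_ h1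
    rw [sSup_eq_iSup']
    rfl
  obtain ⟨e⟩ := mulEquiv_pi_of_iSupIndep (fun i : ι => i.1) hcomm hi hs
  have hiso : ∀ i : ι, Nonempty (i.1 ≃* S) := by
    intro i
    obtain ⟨g, hg⟩ := hconj S hS i.1 i.2.1
    refine ⟨(S.equivMapOfInjective (MulAut.conj g).toMonoidHom (MulAut.conj g).injective).trans
      (MulEquiv.subgroupCongr hg.symm) |>.symm⟩
  let e2 : (∀ i : ι, i.1) ≃* (ι → S) := MulEquiv.piCongrRight fun i => (hiso i).some
  obtain ⟨n, ⟨f⟩⟩ := Finite.exists_equiv_fin ι
  let e3 : (ι → S) ≃* (Fin n → S) :=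
    { Equiv.arrowCongr f (Equiv.refl S) with
      map_mul' := fun a b => rfl }
  have hSs := hsimp S hS
  refine ⟨n, S, hSs, ?_, ⟨(e.trans e2).trans e3⟩⟩
  by_contra hcon
  push Not at hcon
  apply hS.2.1
  rw [eq_bot_iff]
  intro z hz
  rw [mem_bot]
  exact hc S hS z hz (fun t ht => congrArg Subtype.val (hcon ⟨z, hz⟩ ⟨t, ht⟩))

/-- `N ≤ N_G(R)` from one-sided information. -/
theorem le_normalizer_of {G : Type*} [Group G] {N R : Subgroup G}
    (h : ∀ n ∈ N, ∀ r ∈ R, n * r * n⁻¹ ∈ R) : N ≤ normalizer (R : Set G) := by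
  intro n hn
  rw [mem_normalizer_iff]
  intro x
  refine ⟨fun hx => h n hn x hx, fun hx => ?_⟩
  have h1 := h n⁻¹ (inv_mem hn) _ hx
  have h2 : n⁻¹ * (n * x * n⁻¹) * n⁻¹⁻¹ = x := by group
  rwa [h2] at h1

variable {G : Type u} [Group G] [Finite G]

/-- Elements of a nonabelian minimal normal subgroup of order prime to that of a simple factor are
trivial. -/
theorem eq_one_of_factor {N T : Subgroup G} [N.Normal]
    (hmin : ∀ M : Subgroup G, M.Normal → M ≤ N → M = ⊥ ∨ M = N)
    (hna : ¬ ∀ x ∈ N, ∀ y ∈ N, Commute x y) (hT : IsFactor N T) {x : G} (hx : x ∈ N)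
    (ho : (orderOf x).Coprime (Nat.card T)) : x = 1 := by
  have h1 : ∀ g : G, ∀ t ∈ T, x * (g * t * g⁻¹) = (g * t * g⁻¹) * x := by
    intro g t ht
    have hyN : g⁻¹ * x * g ∈ N := by
      have := (inferInstance : N.Normal).conj_mem x hx g⁻¹
      rwa [inv_inv] at this
    obtain ⟨s, hs, c, hcN, hc, hsc⟩ := hT.split _ hyN
    have ho2 : (s * c) ^ (orderOf x) = 1 := by
      rw [← hsc]
      have h2 : (g⁻¹ * x * g) ^ (orderOf x) = g⁻¹ * x ^ (orderOf x) * g := by
        have := conj_pow (i := orderOf x) (a := g⁻¹) (b := x)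
        rwa [inv_inv] at this
      rw [h2, pow_orderOf_eq_one, mul_one, inv_mul_cancel]
    have hcomm : Commute s c := (hc s hs).symm
    rw [hcomm.mul_pow] at ho2
    have hs1 : s ^ (orderOf x) = 1 := by
      apply hT.centerless _ (pow_mem hs _)
      intro t ht
      have h3 : s ^ (orderOf x) = (c ^ (orderOf x))⁻¹ := mul_eq_one_iff_eq_inv.1 ho2
      rw [h3]
      have h4 : Commute c t := hc t ht
      exact (h4.pow_left _).inv_left.eq
    have hs2 : s ^ (Nat.card T) = 1 := by
      have := pow_card_eq_one' (x := (⟨s, hs⟩ : T))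
      exact congrArg Subtype.val this
    have hs3 : s = 1 := by
      rw [← orderOf_eq_one_iff]
      exact Nat.eq_one_of_dvd_coprimes ho (orderOf_dvd_of_pow_eq_one hs1)
        (orderOf_dvd_of_pow_eq_one hs2)
    rw [hs3, one_mul] at hsc
    have h5 := hc t ht
    rw [← hsc] at h5
    have h6 : x * (g * t * g⁻¹) = g * ((g⁻¹ * x * g) * t) * g⁻¹ := by group
    have h7 : (g * t * g⁻¹) * x = g * (t * (g⁻¹ * x * g)) * g⁻¹ := by group
    rw [h6, h7, h5]
  have h2 : N ≤ centralizer {x} := hT.gen _ (fun g t ht => by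
    rw [mem_centralizer_singleton_iff]
    exact (h1 g t ht).symm)
  have h3 : (N ⊓ centralizer (N : Set G)) = ⊥ := by
    apply eq_bot_of_abelian hmin hna hT inf_le_left
    · intro n hn k hk
      refine mem_inf.2 ⟨(inferInstance : N.Normal).conj_mem k hk.1 n, ?_⟩
      have hk2 := mem_centralizer_iff.1 hk.2
      rw [mem_centralizer_iff]
      intro m hm
      have h4 : n * k * n⁻¹ = k := by
        rw [hk2 n hn, mul_inv_cancel_right]
      rw [h4]
      exact hk2 m hm
    · intro a ha b hb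
      exact mem_centralizer_iff.1 hb.2 a ha.1
  have h4 : x ∈ (N ⊓ centralizer (N : Set G) : Subgroup G) := by
    refine mem_inf.2 ⟨hx, ?_⟩
    rw [mem_centralizer_iff]
    intro m hm
    have := h2 hm
    rwa [mem_centralizer_singleton_iff] at this
  rw [h3, mem_bot] at h4
  exact h4

/-- The situation in the nonsoluble case. -/
structure Sit (H Z L Q : Subgroup G) [Q.Normal] (T : Subgroup (G ⧸ Q)) : Prop where
  hH : (Nat.card H).Coprime H.index
  hE : Ext H
  hZH : Z ≤ H
  hZn : ∀ h ∈ H, ∀ z ∈ Z, h * z * h⁻¹ ∈ Z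
  hZ : Z ≠ ⊥
  hL : L.Normal
  hHL : H ⊓ L = Z
  hQL : Q ≤ L
  hQab : ∀ x ∈ Q, ∀ y ∈ Q, x * y = y * x
  hQH : (Nat.card H).Coprime (Nat.card Q)
  hT : IsFactor (L.map (QuotientGroup.mk' Q)) T
  hmin : ∀ M : Subgroup (G ⧸ Q), M.Normal → M ≤ L.map (QuotientGroup.mk' Q) →
    M = ⊥ ∨ M = L.map (QuotientGroup.mk' Q)
  hna : ¬ ∀ x ∈ L.map (QuotientGroup.mk' Q), ∀ y ∈ L.map (QuotientGroup.mk' Q), Commute x y

namespace Sit

variable {H Z L Q : Subgroup G} [hQn : Q.Normal] {T : Subgroup (G ⧸ Q)}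

theorem normal_Lb (s : Sit H Z L Q T) : (L.map (QuotientGroup.mk' Q)).Normal :=
  s.hL.map _ (QuotientGroup.mk'_surjective Q)

theorem hZL (s : Sit H Z L Q T) : Z ≤ L := s.hHL ▸ inf_le_right

theorem inter (s : Sit H Z L Q T) {x : G} (hx : x ∈ H) (hxQ : x ∈ Q) : x = 1 := by
  have h1 := (disjoint_of_coprime_natCard s.hQH).eq_bot
  have h2 : x ∈ H ⊓ Q := ⟨hx, hxQ⟩
  rwa [h1, mem_bot] at h2

theorem mk_inj (s : Sit H Z L Q T) {x y : G} (hx : x ∈ H) (hy : y ∈ H)
    (h : QuotientGroup.mk' Q x = QuotientGroup.mk' Q y) : x = y := by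
  have h1 : x⁻¹ * y ∈ Q := QuotientGroup.eq.1 h
  have h2 := s.inter (mul_mem (inv_mem hx) hy) h1
  exact inv_mul_eq_one.1 h2

theorem inter_b (s : Sit H Z L Q T) : H.map (QuotientGroup.mk' Q) ⊓ L.map (QuotientGroup.mk' Q) =
    Z.map (QuotientGroup.mk' Q) := by
  apply le_antisymm
  · rintro _ ⟨⟨h, hh, rfl⟩, ⟨l, hl, hlh⟩⟩
    have h1 : l⁻¹ * h ∈ Q := QuotientGroup.eq.1 hlh
    have h2 : h ∈ L := by
      have := L.mul_mem hl (s.hQL h1)
      simpa using this
    refine ⟨h, ?_, rfl⟩
    rw [← s.hHL]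
    exact ⟨hh, h2⟩
  · exact le_inf (map_mono s.hZH) (map_mono s.hZL)

theorem relIndex_L (s : Sit H Z L Q T) :
    (Z.map (QuotientGroup.mk' Q)).relIndex (L.map (QuotientGroup.mk' Q)) ∣ H.index := by
  have := s.normal_Lb
  rw [← s.inter_b, inf_relIndex_right]
  exact (relIndex_dvd_index' _ _).trans (index_map_dvd H (QuotientGroup.mk'_surjective Q))

theorem relIndex_T (s : Sit H Z L Q T) : (Z.map (QuotientGroup.mk' Q)).relIndex T ∣ H.index := by
  have hTn : (T.subgroupOf (L.map (QuotientGroup.mk' Q))).Normal := by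
    constructor
    intro t ht n
    exact s.hT.norm n n.2 t ht
  have h1 := relIndex_dvd_index' ((Z.map (QuotientGroup.mk' Q)).subgroupOf (L.map (QuotientGroup.mk' Q)))
    (T.subgroupOf (L.map (QuotientGroup.mk' Q)))
  rw [relIndex_subgroupOf s.hT.le] at h1
  exact h1.trans s.relIndex_L

theorem card_Zb (s : Sit H Z L Q T) : Nat.card (Z.map (QuotientGroup.mk' Q)) ∣ Nat.card H :=
  (card_dvd_of_surjective _ ((QuotientGroup.mk' Q).subgroupMap_surjective Z)).trans
    (card_dvd_of_le s.hZH)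

theorem Yb_ne_bot (s : Sit H Z L Q T) : Z.map (QuotientGroup.mk' Q) ⊓ T ≠ ⊥ := by
  intro h0
  have h1 : Nat.card T ∣ H.index := by
    have h2 := s.relIndex_T
    rwa [← inf_relIndex_right, h0, relIndex_bot_left] at h2
  apply s.hZ
  rw [eq_bot_iff]
  intro z hz
  have := s.normal_Lb
  have h2 : QuotientGroup.mk' Q z = 1 := by
    apply eq_one_of_factor s.hmin s.hna s.hT (mem_map_of_mem _ (s.hZL hz))
    refine Nat.Coprime.coprime_dvd_left ?_ (Nat.Coprime.coprime_dvd_right h1 s.hH)
    refine (orderOf_map_dvd (QuotientGroup.mk' Q) z).trans ?_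
    have h3 : orderOf z = orderOf (⟨z, s.hZH hz⟩ : H) := (Subgroup.orderOf_mk z _).symm
    rw [h3]
    exact _root_.orderOf_dvd_natCard _
  rw [mem_bot]
  exact s.inter (s.hZH hz) ((QuotientGroup.eq_one_iff z).1 h2)

theorem eq_L_of_le (s : Sit H Z L Q T) (h : T ≤ Z.map (QuotientGroup.mk' Q)) : Z ⊔ Q = L := by
  have := s.normal_Lb
  have h1 : Nat.card T ∣ Nat.card H := (card_dvd_of_le h).trans s.card_Zb
  have h2 : L.map (QuotientGroup.mk' Q) ≤ Z.map (QuotientGroup.mk' Q) := by
    rw [← relIndex_eq_one]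
    by_contra hne
    obtain ⟨ℓ, hℓ, hd⟩ := Nat.exists_prime_and_dvd hne
    have := Fact.mk hℓ
    obtain ⟨x, hx⟩ := exists_prime_orderOf_dvd_card' (G := L.map (QuotientGroup.mk' Q)) ℓ
      (hd.trans (relIndex_dvd_card _ _))
    have h3 : (x : G ⧸ Q) = 1 := by
      apply eq_one_of_factor s.hmin s.hna s.hT x.2
      rw [Subgroup.orderOf_coe, hx]
      exact (Nat.Coprime.coprime_dvd_left h1 (Nat.Coprime.coprime_dvd_right (hd.trans s.relIndex_L) s.hH)).symm
    have h4 : x = 1 := Subtype.ext h3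
    rw [h4, orderOf_one] at hx
    exact hℓ.one_lt.ne hx
  apply le_antisymm (sup_le s.hZL s.hQL)
  intro l hl
  obtain ⟨z, hz, hzl⟩ := h2 (mem_map_of_mem _ hl)
  have h3 : z⁻¹ * l ∈ Q := QuotientGroup.eq.1 hzl
  have h4 : l = z * (z⁻¹ * l) := by group
  rw [h4]
  exact mul_mem (mem_sup_left hz) (mem_sup_right h3)

end Sit

end Cfsg.Agent.H715
end

-- part: H715/Rep
section
/-!
# Lemmas on complex representations (helper715)
-/

set_option autoImplicit false
set_option linter.unusedSectionVars false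

namespace Cfsg.Agent.H715

open Subgroup Cfsg.Agent.Characters Module

/-- An irreducible constituent on which a given element acts nontrivially. -/
theorem exists_irr {A : Type*} [Group A] [Finite A] {V : Type*} [AddCommGroup V] [Module ℂ V]
    [FiniteDimensional ℂ V] (ρ : Representation ℂ A V) (y : A) (hy : ρ y ≠ 1) :
    ∃ n ≤ finrank ℂ V, ∃ τ : Representation ℂ A (Fin n → ℂ), τ.IsIrreducible ∧ τ y ≠ 1 := by
  have key : ∀ d : ℕ, finrank ℂ V ≤ d → ρ y ≠ 1 →
      ∃ n ≤ d, ∃ τ : Representation ℂ A (Fin n → ℂ), τ.IsIrreducible ∧ τ y ≠ 1 := by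
    refine Core.rep_induction (P := fun V _ _ ρ => ∀ d : ℕ, finrank ℂ V ≤ d → ρ y ≠ 1 →
      ∃ n ≤ d, ∃ τ : Representation ℂ A (Fin n → ℂ), τ.IsIrreducible ∧ τ y ≠ 1) ?_ ?_ V ρ
    · intro V _ _ ρ hV d _ h
      exact absurd (LinearMap.ext fun x => Subsingleton.elim _ _) h
    · intro V _ _ _ ρ U U' hc hU ih d hd h
      have hle : finrank ℂ U.toSubmodule ≤ finrank ℂ V := Submodule.finrank_le _
      have hle' : finrank ℂ U'.toSubmodule ≤ finrank ℂ V := Submodule.finrank_le _
      by_cases h1 : U.toRepresentation y = 1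
      · by_cases h2 : U'.toRepresentation y = 1
        · exfalso
          apply h
          apply LinearMap.ext
          intro v
          have h3 : v ∈ U.toSubmodule ⊔ U'.toSubmodule := by
            rw [hc.sup_eq_top]; exact Submodule.mem_top
          obtain ⟨a, ha, b, hb, rfl⟩ := Submodule.mem_sup.1 h3
          have e1 : ρ y a = a := congrArg Subtype.val (LinearMap.congr_fun h1 ⟨a, ha⟩)
          have e2 : ρ y b = b := congrArg Subtype.val (LinearMap.congr_fun h2 ⟨b, hb⟩)
          show ρ y (a + b) = a + b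
          rw [map_add, e1, e2]
        · exact ih d (hle'.trans hd) h2
      · refine ⟨finrank ℂ U.toSubmodule, hle.trans hd,
          Core.transportRep (finBasis ℂ U.toSubmodule).equivFun U.toRepresentation,
          Core.isIrreducible_transportRep _ hU, fun h0 => h1 ?_⟩
        rw [Core.transportRep_apply] at h0
        have h4 : (LinearEquiv.conj (finBasis ℂ U.toSubmodule).equivFun) (U.toRepresentation y) =
            (LinearEquiv.conj (finBasis ℂ U.toSubmodule).equivFun) LinearMap.id :=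
          h0.trans (LinearEquiv.conj_id _).symm
        exact (LinearEquiv.conj (finBasis ℂ U.toSubmodule).equivFun).injective h4
  exact key _ le_rfl hy

/-- An irreducible representation of `H` over a given one of `N`. -/
theorem exists_over {G : Type*} [Group G] [Finite G] {H N : Subgroup G} (hNH : N ≤ H)
    {W : Type*} [AddCommGroup W] [Module ℂ W] [FiniteDimensional ℂ W] (ω : Representation ℂ N W)
    (hω : ω.IsIrreducible) :
    ∃ (n : ℕ) (τ : Representation ℂ H (Fin n → ℂ)) (j : W →ₗ[ℂ] (Fin n → ℂ)), τ.IsIrreducible ∧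
      j ≠ 0 ∧ ∀ (x : N) (w : W), j (ω x w) = τ ⟨x, hNH x.2⟩ (j w) := by
  classical
  have := Fintype.ofFinite G
  have := Fintype.ofFinite H
  have := Fintype.ofFinite N
  let N' : Subgroup H := N.subgroupOf H
  have := Fintype.ofFinite N'
  let e : N' ≃* N := subgroupOfEquivOfLe hNH
  let ω' : Representation ℂ N' W := ω.comp (e : N' →* N)
  have hω' : ω'.IsIrreducible := irr_comp_surj _ e.surjective ω hω
  have hθ : Cfsg.IsIrrCharacter N' ω'.character := Core.isIrrCharacter_of_rep ω' hω'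
  have hne : Cfsg.indFun N' ω'.character ≠ 0 := by
    intro h0
    have h1 := congrFun h0 1
    rw [Core.indFun_apply] at h1
    have h2 : ∀ x : H, Cfsg.extendByZero N' ω'.character (x⁻¹ * 1 * x) = ω'.character 1 := by
      intro x
      rw [mul_one, inv_mul_cancel]
      exact Core.extendByZero_of_mem N' _ N'.one_mem
    simp only [h2, Finset.sum_const, Pi.zero_apply, nsmul_eq_mul] at h1
    rcases mul_eq_zero.1 h1 with h3 | h3
    · rw [inv_eq_zero] at h3
      exact Core.card_ne_zero_complex h3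
    · rcases mul_eq_zero.1 h3 with h4 | h4
      · rw [Finset.card_univ, ← Nat.card_eq_fintype_card] at h4
        exact Core.card_ne_zero_complex h4
      · exact Core.isIrr_apply_one_ne_zero hθ h4
  obtain ⟨χ, hχ, hin⟩ : ∃ χ : H → ℂ, Cfsg.IsIrrCharacter H χ ∧
      Cfsg.classInner (Cfsg.indFun N' ω'.character) χ ≠ 0 := by
    by_contra hcon
    push Not at hcon
    exact hne (Core.classFunction_eq_zero (Brauer.indFun_isClassFunction N' _) hcon)
  obtain ⟨n, τ, hτ, rfl⟩ := hχ
  rw [Brauer.classInner_indFun N' inferInstance _ _ (Core.isIrr_isClassFunction ⟨n, τ, hτ, rfl⟩)] at hin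
  let τ' : Representation ℂ N' (Fin n → ℂ) := τ.comp N'.subtype
  have h5 : (fun h : N' => τ.character h) = τ'.character := rfl
  rw [h5, ← Core.classInner_conj_symm, Core.classInner_character] at hin
  have h6 : finrank ℂ (Representation.IntertwiningMap ω' τ') ≠ 0 := by
    intro h0
    apply hin
    rw [h0]
    simp
  have : Nontrivial (Representation.IntertwiningMap ω' τ') :=
    Module.nontrivial_of_finrank_pos (R := ℂ) (Nat.pos_of_ne_zero h6)
  obtain ⟨j, hj⟩ := exists_ne (0 : Representation.IntertwiningMap ω' τ')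
  refine ⟨n, τ, j.toLinearMap, hτ, ?_, ?_⟩
  · intro h0
    apply hj
    ext w
    exact congrFun (congrFun (congrArg DFunLike.coe h0) w) _
  · intro x w
    have h7 := Representation.IntertwiningMap.isIntertwining _ _ j (e.symm x) w
    have h8 : ω' (e.symm x) = ω x := by
      show ω (e (e.symm x)) = ω x
      rw [e.apply_symm_apply]
    rw [h8] at h7
    exact h7

/-- The vectors fixed by `B`. -/
theorem mem_range_of_fixed {G : Type*} [Group G] [Finite G] {V W : Type*} [AddCommGroup V]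
    [Module ℂ V] [AddCommGroup W] [Module ℂ W] (ρ : Representation ℂ G V) {H N B Y : Subgroup G}
    (hirr : Representation.IsIrreducible (ρ.comp H.subtype : Representation ℂ H V))
    (hBN : B ≤ N) (hYN : Y ≤ N) (hYn : ∀ n ∈ N, ∀ y ∈ Y, n * y * n⁻¹ ∈ Y)
    (ω : Representation ℂ N W) (hω : ω.IsIrreducible) (hB : ∀ b, ∀ hb : b ∈ B, ω ⟨b, hBN hb⟩ = 1)
    (hY : ∃ y, ∃ hy : y ∈ Y, ω ⟨y, hYN hy⟩ ≠ 1)
    (hout : ∀ h ∈ H, h ∉ N → ∀ y ∈ Y, h * y * h⁻¹ ∈ B)
    (j : W →ₗ[ℂ] V) (hj : ∀ (n : N) (w : W), j (ω n w) = ρ (n : G) (j w)) (hj0 : j ≠ 0)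
    {v : V} (hv : ∀ b ∈ B, ρ b v = v) : v ∈ LinearMap.range j := by
  classical
  have := Fintype.ofFinite B
  let c : ℂ := (Fintype.card B : ℂ)
  have hc : c ≠ 0 := by
    show (Fintype.card B : ℂ) ≠ 0
    exact_mod_cast Fintype.card_ne_zero
  let e : V →ₗ[ℂ] V := ∑ b : B, ρ (b : G)
  have he : ∀ v, e v = ∑ b : B, ρ (b : G) v := fun v => by
    simp only [e, LinearMap.sum_apply]
  have he1 : ∀ v, (∀ b ∈ B, ρ b v = v) → e v = c • v := by
    intro v hv
    rw [he, Finset.sum_congr rfl (fun (b : B) _ => hv (b : G) b.2), Finset.sum_const, Finset.card_univ,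
      ← Nat.cast_smul_eq_nsmul ℂ]
  have he2 : ∀ b ∈ B, ∀ v, e (ρ b v) = e v := by
    intro b hb v
    rw [he, he]
    refine Fintype.sum_equiv (Equiv.mulRight (⟨b, hb⟩ : B)) _ _ (fun x => ?_)
    rw [← Module.End.mul_apply, ← map_mul]
    rfl
  -- the augmentation submodule of `W`
  have haug : ∀ D : Submodule ℂ W, (∀ y, ∀ hy : y ∈ Y, ∀ w, ω ⟨y, hYN hy⟩ w - w ∈ D) → D = ⊤ := by
    intro D hD
    let D0 : Submodule ℂ W := Submodule.span ℂ {x | ∃ y, ∃ hy : y ∈ Y, ∃ w, x = ω ⟨y, hYN hy⟩ w - w}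
    have hD0 : ∀ n : N, ∀ w ∈ D0, ω n w ∈ D0 := by
      intro n w hw
      have h1 : D0 ≤ D0.comap (ω n) := by
        rw [Submodule.span_le]
        rintro _ ⟨y, hy, w, rfl⟩
        apply Submodule.subset_span
        refine ⟨n * y * (n : G)⁻¹, hYn n n.2 y hy, ω n w, ?_⟩
        rw [map_sub]
        congr 1
        rw [← Module.End.mul_apply, ← Module.End.mul_apply, ← map_mul, ← map_mul]
        congr 2
        apply Subtype.ext
        show (n : G) * y = n * y * (n : G)⁻¹ * n
        group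
      exact h1 hw
    have hle : D0 ≤ D := by
      rw [Submodule.span_le]
      rintro _ ⟨y, hy, w, rfl⟩
      exact hD y hy w
    let S : Subrepresentation ω := ⟨D0, fun n w hw => hD0 n w hw⟩
    rcases hω.eq_bot_or_eq_top S with h | h
    · exfalso
      obtain ⟨y, hy, hne⟩ := hY
      apply hne
      apply LinearMap.ext
      intro w
      have h2 : D0 = ⊥ := congrArg Subrepresentation.toSubmodule h
      have h3 : ω ⟨y, hYN hy⟩ w - w ∈ D0 := Submodule.subset_span ⟨y, hy, w, rfl⟩
      rw [h2, Submodule.mem_bot, sub_eq_zero] at h3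
      exact h3
    · have h2 : D0 = ⊤ := congrArg Subrepresentation.toSubmodule h
      rw [eq_top_iff, ← h2]
      exact hle
  -- vectors `h j(w)` with `h ∉ N` are killed by `e`
  have hkill : ∀ h ∈ H, h ∉ N → ∀ w, e (ρ h (j w)) = 0 := by
    intro h hh hhN w
    have h1 : LinearMap.ker (e ∘ₗ ρ h ∘ₗ j) = ⊤ := by
      apply haug
      intro y hy w
      rw [LinearMap.mem_ker]
      show e (ρ h (j (ω ⟨y, hYN hy⟩ w - w))) = 0
      rw [map_sub, map_sub, map_sub, hj]
      have h2 : ρ h (ρ y (j w)) = ρ (h * y * h⁻¹) (ρ h (j w)) := by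
        rw [← Module.End.mul_apply, ← Module.End.mul_apply, ← map_mul, ← map_mul]
        congr 2
        group
      have h3 : ρ h (ρ ((⟨y, hYN hy⟩ : N) : G) (j w)) = ρ (h * y * h⁻¹) (ρ h (j w)) := h2
      rw [h3, he2 _ (hout h hh hhN y hy), sub_self]
    have h2 : w ∈ LinearMap.ker (e ∘ₗ ρ h ∘ₗ j) := by rw [h1]; exact Submodule.mem_top
    exact h2
  -- all of `V` is mapped into the range of `j`
  let P : Submodule ℂ V := Submodule.span ℂ {x | ∃ h ∈ H, ∃ w, x = ρ h (j w)}
  have hP : ∀ h : H, ∀ v ∈ P, ρ (h : G) v ∈ P := by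
    intro h v hv
    have h1 : P ≤ P.comap (ρ (h : G)) := by
      rw [Submodule.span_le]
      rintro _ ⟨g, hg, w, rfl⟩
      apply Submodule.subset_span
      refine ⟨h * g, H.mul_mem h.2 hg, w, ?_⟩
      rw [map_mul]
      rfl
    exact h1 hv
  have hPtop : P = ⊤ := by
    let S : Subrepresentation (ρ.comp H.subtype : Representation ℂ H V) := ⟨P, fun h v hv => hP h v hv⟩
    rcases hirr.eq_bot_or_eq_top S with h | h
    · exfalso
      apply hj0
      apply LinearMap.ext
      intro w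
      have h2 : P = ⊥ := congrArg Subrepresentation.toSubmodule h
      have h3 : j w ∈ P := Submodule.subset_span ⟨1, H.one_mem, w, by rw [map_one]; rfl⟩
      rw [h2, Submodule.mem_bot] at h3
      rw [h3]
      rfl
    · exact congrArg Subrepresentation.toSubmodule h
  have hPe : P ≤ (LinearMap.range j).comap e := by
    rw [Submodule.span_le]
    rintro _ ⟨h, hh, w, rfl⟩
    show e (ρ h (j w)) ∈ LinearMap.range j
    by_cases hN : h ∈ N
    · have h1 : ρ h (j w) = j (ω ⟨h, hN⟩ w) := (hj ⟨h, hN⟩ w).symm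
      rw [h1, he1]
      · exact Submodule.smul_mem _ _ ⟨_, rfl⟩
      · intro b hb
        have h2 := hj ⟨b, hBN hb⟩ (ω ⟨h, hN⟩ w)
        rw [hB b hb] at h2
        exact h2.symm
    · rw [hkill h hh hN]
      exact Submodule.zero_mem _
  have h1 : e v ∈ LinearMap.range j := hPe (by rw [hPtop]; exact Submodule.mem_top)
  rw [he1 v hv] at h1
  have h2 := Submodule.smul_mem _ c⁻¹ h1
  rwa [smul_smul, inv_mul_cancel₀ hc, one_smul] at h2

end Cfsg.Agent.H715
end

-- part: H715/Weights
section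
/-!
# Getting rid of an abelian radical of coprime degree (helper715)

`exists_small_rep` : let `R ≤ C ≤ X`, `R` abelian, `C / R ≅ T` perfect, `C` and `R` normalized by `N`,
and let `ρ` be a representation of `X` which is irreducible on `N`, of degree prime to `|R|`. If some
element of `[C, C]` acts nontrivially, then `T` has a nontrivial representation of degree at most the
degree of `ρ`.
-/

set_option autoImplicit false
set_option linter.unusedSectionVars false

namespace Cfsg.Agent.H715.Weights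

open Module Subgroup
open scoped IsMulCommutative

/-- matrices from linear maps -/
theorem exists_GL {T V : Type*} [Group T] [AddCommGroup V] [Module ℂ V] [FiniteDimensional ℂ V]
    (σ : T →* (V →ₗ[ℂ] V)) {t : T} (ht : σ t ≠ 1) {n : ℕ} (hn : finrank ℂ V = n) :
    ∃ τ : T →* Matrix.GeneralLinearGroup (Fin n) ℂ, τ t ≠ 1 := by
  let e : (V →ₗ[ℂ] V) ≃ₐ[ℂ] Matrix (Fin n) (Fin n) ℂ :=
    LinearMap.toMatrixAlgEquiv (finBasisOfFinrankEq ℂ V hn)
  let f : T →* Matrix (Fin n) (Fin n) ℂ :=
    { toFun := fun t => e (σ t)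
      map_one' := by rw [map_one, map_one]
      map_mul' := fun a b => by rw [map_mul, map_mul] }
  refine ⟨MonoidHom.toHomUnits f, fun h => ht ?_⟩
  have h1 : e (σ t) = 1 := congrArg Units.val h
  have h2 : e (σ t) = e 1 := by rw [map_one]; exact h1
  exact e.injective h2

/-- a nontrivial permutation representation gives a nontrivial linear one -/
theorem exists_GL_of_perm {T Λ : Type*} [Group T] [Finite Λ] (g : T →* Equiv.Perm Λ) {t : T}
    (ht : g t ≠ 1) :
    ∃ τ : T →* Matrix.GeneralLinearGroup (Fin (Nat.card Λ)) ℂ, τ t ≠ 1 := by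
  classical
  have := Fintype.ofFinite Λ
  let σ : T →* ((Λ → ℂ) →ₗ[ℂ] (Λ → ℂ)) :=
    { toFun := fun t => LinearMap.funLeft ℂ ℂ ((g t)⁻¹ : Equiv.Perm Λ)
      map_one' := by
        ext v l
        simp
      map_mul' := fun a b => by
        apply LinearMap.ext
        intro v
        funext l
        simp only [LinearMap.funLeft_apply, mul_inv_rev, _root_.map_mul, _root_.Equiv.Perm.coe_mul, _root_.Equiv.Perm.coe_inv, _root_.Function.comp_apply, _root_.Module.End.mul_apply] }
  have h1 : σ t ≠ 1 := by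
    intro h0
    apply ht
    ext l
    have h2 := congrFun (LinearMap.congr_fun h0 (Pi.single l (1 : ℂ))) (g t l)
    have h3 : σ t (Pi.single l (1 : ℂ)) (g t l) = (Pi.single l (1 : ℂ) : Λ → ℂ) ((g t)⁻¹ (g t l)) := rfl
    have h6 : (g t)⁻¹ (g t l) = l := (g t).symm_apply_apply l
    rw [h3, h6, Pi.single_eq_same] at h2
    by_contra h4
    have h5 : (Pi.single l (1 : ℂ) : Λ → ℂ) (g t l) = 0 := Pi.single_eq_of_ne h4 _
    exact one_ne_zero (h2.trans h5)
  exact exists_GL σ h1 (by rw [Module.finrank_fintype_fun_eq_card, Nat.card_eq_fintype_card])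

variable {X : Type*} [Group X] [Finite X] {M : Type*} [AddCommGroup M] [Module ℂ M]
  [FiniteDimensional ℂ M] (ρ : Representation ℂ X M) (R : Subgroup X) [IsMulCommutative R]

/-- the action of `R` -/
def act : H120.AddAct (Additive R) M where
  toFun a := ρ (a.toMul : X)
  map_zero' := by simp
  map_add' a b := by simp

/-- the weight spaces -/
def wt (ψ : AddChar (Additive R) ℂ) : Submodule ℂ M := (act ρ R).wt ψ

variable {ρ R}

theorem mem_wt {ψ : AddChar (Additive R) ℂ} {v : M} :
    v ∈ wt ρ R ψ ↔ ∀ r : R, ρ r v = ψ (Additive.ofMul r) • v :=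
  ⟨fun h r => h (Additive.ofMul r), fun h a => h a.toMul⟩

/-- the twisted character -/
def tw (x : normalizer (R : Set X)) (ψ : AddChar (Additive R) ℂ) : AddChar (Additive R) ℂ :=
  ψ.compAddMonoidHom (MonoidHom.toAdditive ((R.normalizerMonoidHom x⁻¹ : MulAut R) : R →* R))

theorem tw_apply (x : normalizer (R : Set X)) (ψ : AddChar (Additive R) ℂ) (r : R) :
    tw x ψ (Additive.ofMul r) = ψ (Additive.ofMul (R.normalizerMonoidHom x⁻¹ r)) := rfl

theorem norm_coe (x : normalizer (R : Set X)) (r : R) :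
    ((R.normalizerMonoidHom x⁻¹ r : R) : X) = (x : X)⁻¹ * r * x := by
  show ((x⁻¹ : normalizer (R : Set X)) : X) * r * ((x⁻¹ : normalizer (R : Set X)) : X)⁻¹ = _
  simp only [_root_.InvMemClass.coe_inv, _root_.inv_inv]

theorem map_wt (x : normalizer (R : Set X)) {ψ : AddChar (Additive R) ℂ} {v : M}
    (hv : v ∈ wt ρ R ψ) : ρ (x : X) v ∈ wt ρ R (tw x ψ) := by
  rw [mem_wt]
  intro r
  have h1 := mem_wt.1 hv (R.normalizerMonoidHom x⁻¹ r)
  rw [tw_apply]
  have h2 : ρ (r : X) (ρ (x : X) v) = ρ (x : X) (ρ ((R.normalizerMonoidHom x⁻¹ r : R) : X) v) := by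
    rw [← Module.End.mul_apply, ← Module.End.mul_apply, ← map_mul, ← map_mul, norm_coe]
    congr 2
    group
  rw [h2, h1, map_smul]

theorem tw_mul (x y : normalizer (R : Set X)) (ψ : AddChar (Additive R) ℂ) :
    tw (x * y) ψ = tw x (tw y ψ) := by
  apply AddChar.ext
  intro a
  show ψ (Additive.ofMul (R.normalizerMonoidHom (x * y)⁻¹ a.toMul)) =
    ψ (Additive.ofMul (R.normalizerMonoidHom y⁻¹ (R.normalizerMonoidHom x⁻¹ a.toMul)))
  rw [mul_inv_rev, map_mul]
  rfl

theorem tw_one (ψ : AddChar (Additive R) ℂ) : tw 1 ψ = ψ := by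
  apply AddChar.ext
  intro a
  show ψ (Additive.ofMul (R.normalizerMonoidHom (1)⁻¹ a.toMul)) = _
  rw [inv_one, map_one]
  rfl

/-- elements of `R` do not move the weights -/
theorem tw_of_mem (x : normalizer (R : Set X)) (hx : (x : X) ∈ R) (ψ : AddChar (Additive R) ℂ) :
    tw x ψ = ψ := by
  apply AddChar.ext
  intro a
  show ψ (Additive.ofMul (R.normalizerMonoidHom x⁻¹ a.toMul)) = _
  have h1 : R.normalizerMonoidHom x⁻¹ a.toMul = a.toMul := by
    apply Subtype.ext
    rw [norm_coe]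
    have h2 : (⟨x, hx⟩ : R) * a.toMul = a.toMul * (⟨x, hx⟩ : R) := mul_comm _ _
    have h3 : (x : X) * (a.toMul : X) = (a.toMul : X) * x := congrArg Subtype.val h2
    rw [mul_assoc, ← h3]
    group
  rw [h1]
  rfl

theorem wt_ne_bot (x : normalizer (R : Set X)) {ψ : AddChar (Additive R) ℂ} (h : wt ρ R ψ ≠ ⊥) :
    wt ρ R (tw x ψ) ≠ ⊥ := by
  obtain ⟨v, hv, hv0⟩ := Submodule.exists_mem_ne_zero_of_ne_bot h
  intro h0
  have h1 := map_wt x hv
  rw [h0, Submodule.mem_bot] at h1
  apply hv0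
  have h2 : ρ (x : X)⁻¹ (ρ (x : X) v) = v := by
    rw [← Module.End.mul_apply, ← map_mul, inv_mul_cancel, map_one]
    rfl
  rw [← h2, h1, map_zero]

variable (ρ R)

/-- the weights -/
def Wts : Type _ := {ψ : AddChar (Additive R) ℂ // wt ρ R ψ ≠ ⊥}

/-- the normalizer acts on the weights -/
def actWts : normalizer (R : Set X) →* Equiv.Perm (Wts ρ R) where
  toFun x :=
    { toFun := fun ψ => ⟨tw x ψ.1, wt_ne_bot x ψ.2⟩
      invFun := fun ψ => ⟨tw x⁻¹ ψ.1, wt_ne_bot x⁻¹ ψ.2⟩
      left_inv := fun ψ => Subtype.ext (by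
        show tw x⁻¹ (tw x ψ.1) = ψ.1
        rw [← tw_mul, inv_mul_cancel, tw_one])
      right_inv := fun ψ => Subtype.ext (by
        show tw x (tw x⁻¹ ψ.1) = ψ.1
        rw [← tw_mul, mul_inv_cancel, tw_one]) }
  map_one' := by
    ext ψ : 1
    exact Subtype.ext (tw_one _)
  map_mul' x y := by
    ext ψ : 1
    exact Subtype.ext (tw_mul _ _ _)

instance finite_Wts : Finite (Wts ρ R) := Subtype.finite

theorem card_Wts_le : Nat.card (Wts ρ R) ≤ finrank ℂ M := by
  classical
  have := Fintype.ofFinite R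
  have : Fintype (Additive R) := inferInstanceAs (Fintype R)
  have h1 : finrank ℂ M = ∑ ψ : AddChar (Additive R) ℂ, finrank ℂ (wt ρ R ψ) :=
    (act ρ R).sum_finrank_wt
  have h2 : Nat.card (Wts ρ R) = Fintype.card {ψ : AddChar (Additive R) ℂ // wt ρ R ψ ≠ ⊥} := by
    show Nat.card {ψ : AddChar (Additive R) ℂ // wt ρ R ψ ≠ ⊥} = _
    exact Nat.card_eq_fintype_card
  rw [h1, h2, Fintype.card_subtype, Finset.card_eq_sum_ones, Finset.sum_filter]
  refine Finset.sum_le_sum fun ψ _ => ?_
  split_ifs with h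
  · rw [Nat.one_le_iff_ne_zero]
    intro h0
    exact h (Submodule.finrank_eq_zero.1 h0)
  · exact Nat.zero_le _

variable {ρ R}

/-- If `ρ` is irreducible on `N`, then `N` is transitive on the weights. -/
theorem exists_tw (N : Subgroup X) (hNR : N ≤ normalizer (R : Set X))
    (hirr : Representation.IsIrreducible (ρ.comp N.subtype : Representation ℂ N M))
    {ψ φ : AddChar (Additive R) ℂ} (hψ : wt ρ R ψ ≠ ⊥) (hφ : wt ρ R φ ≠ ⊥) :
    ∃ n : normalizer (R : Set X), (n : X) ∈ N ∧ φ = tw n ψ := by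
  classical
  have := Fintype.ofFinite R
  have : Fintype (Additive R) := inferInstanceAs (Fintype R)
  by_contra hc
  push Not at hc
  let f : N → Submodule ℂ M := fun n => wt ρ R (tw ⟨(n : X), hNR n.2⟩ ψ)
  let S : Submodule ℂ M := ⨆ n : N, f n
  have hS : ∀ n : N, ∀ v ∈ S, ρ (n : X) v ∈ S := by
    intro n v hv
    have h1 : S ≤ S.comap (ρ (n : X)) := by
      refine iSup_le fun m => ?_
      intro w hw
      have h2 : ρ (n : X) w ∈ f (n * m) := by
        have h3 := map_wt (ρ := ρ) (R := R) ⟨(n : X), hNR n.2⟩ hw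
        rw [← tw_mul] at h3
        exact h3
      exact Submodule.mem_comap.2 (Submodule.mem_iSup_of_mem (n * m) h2)
    exact h1 hv
  let S' : Subrepresentation (ρ.comp N.subtype : Representation ℂ N M) := ⟨S, fun n v hv => hS n v hv⟩
  have hSψ : wt ρ R ψ ≤ S := by
    intro v hv
    have h2 : v ∈ f 1 := by
      have h3 : tw (⟨((1 : N) : X), hNR (1 : N).2⟩ : normalizer (R : Set X)) ψ = ψ := tw_one ψ
      show v ∈ wt ρ R (tw _ ψ)
      rw [h3]
      exact hv
    exact Submodule.mem_iSup_of_mem 1 h2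
  have hStop : S = ⊤ := by
    rcases hirr.eq_bot_or_eq_top S' with h | h
    · exfalso
      apply hψ
      rw [eq_bot_iff]
      have h3 : S = ⊥ := congrArg Subrepresentation.toSubmodule h
      rw [← h3]
      exact hSψ
    · exact congrArg Subrepresentation.toSubmodule h
  have hind := ((DirectSum.isInternal_submodule_iff_iSupIndep_and_iSup_eq_top _).1
    (act ρ R).isInternal).1
  have h4 : Disjoint (wt ρ R φ) S := by
    refine (hind φ).mono_right ?_
    refine iSup_le fun n => ?_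
    exact le_iSup₂_of_le (f := fun j (_ : j ≠ φ) => (act ρ R).wt j) (tw ⟨(n : X), hNR n.2⟩ ψ)
      (fun h0 => hc ⟨(n : X), hNR n.2⟩ n.2 h0.symm) le_rfl
  rw [hStop, disjoint_top] at h4
  exact hφ h4

theorem finrank_wt_le (N : Subgroup X) (hNR : N ≤ normalizer (R : Set X))
    (hirr : Representation.IsIrreducible (ρ.comp N.subtype : Representation ℂ N M))
    {ψ φ : AddChar (Additive R) ℂ} (hψ : wt ρ R ψ ≠ ⊥) (hφ : wt ρ R φ ≠ ⊥) :
    finrank ℂ (wt ρ R ψ) ≤ finrank ℂ (wt ρ R φ) := by
  obtain ⟨n, hn, rfl⟩ := exists_tw N hNR hirr hψ hφ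
  refine H120.finrank_le_of_map (ρ (n : X)) ?_ (fun v hv => map_wt n hv)
  intro v w hvw
  have h1 : ∀ v, ρ (n : X)⁻¹ (ρ (n : X) v) = v := by
    intro v
    rw [← Module.End.mul_apply, ← map_mul, inv_mul_cancel, map_one]
    rfl
  rw [← h1 v, hvw, h1 w]

/-- The weight spaces have dimension dividing the dimension. -/
theorem finrank_wt_dvd (N : Subgroup X) (hNR : N ≤ normalizer (R : Set X))
    (hirr : Representation.IsIrreducible (ρ.comp N.subtype : Representation ℂ N M))
    {ψ : AddChar (Additive R) ℂ} (hψ : wt ρ R ψ ≠ ⊥) :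
    finrank ℂ (wt ρ R ψ) ∣ finrank ℂ M := by
  classical
  have := Fintype.ofFinite R
  have : Fintype (Additive R) := inferInstanceAs (Fintype R)
  have h1 : finrank ℂ M = ∑ φ : AddChar (Additive R) ℂ, finrank ℂ (wt ρ R φ) :=
    (act ρ R).sum_finrank_wt
  rw [h1]
  refine Finset.dvd_sum fun φ _ => ?_
  by_cases hφ : wt ρ R φ = ⊥
  · rw [hφ, finrank_bot]
    exact dvd_zero _
  · rw [le_antisymm (finrank_wt_le N hNR hirr hψ hφ) (finrank_wt_le N hNR hirr hφ hψ)]

/-- Factoring a homomorphism through a surjection. -/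
theorem exists_lift {A B D : Type*} [Group A] [Group B] [Group D] (f : A →* B)
    (hf : Function.Surjective f) (g : A →* D) (h : ∀ a, f a = 1 → g a = 1) :
    ∃ g' : B →* D, ∀ a, g' (f a) = g a := by
  refine ⟨f.liftOfRightInverse (Function.surjInv hf) (Function.rightInverse_surjInv hf)
    ⟨g, fun a ha => h a ha⟩, fun a => ?_⟩
  exact f.liftOfRightInverse_comp_apply _ _ ⟨g, fun a ha => h a ha⟩ a

/-- The key lemma. -/
theorem exists_small_rep {T : Type*} [Group T] (N C : Subgroup X)
    (hNR : N ≤ normalizer (R : Set X)) (hCR : C ≤ normalizer (R : Set X))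
    (hirr : Representation.IsIrreducible (ρ.comp N.subtype : Representation ℂ N M))
    (hcop : (finrank ℂ M).Coprime (Nat.card R))
    (π : C →* T) (hπ : Function.Surjective π) (hker : ∀ c : C, π c = 1 ↔ (c : X) ∈ R)
    (hT : commutator T = ⊤) {y : X} (hy : y ∈ ⁅C, C⁆) (hyM : ρ y ≠ 1) :
    ∃ (k : ℕ) (σ : T →* Matrix.GeneralLinearGroup (Fin k) ℂ), k ≤ finrank ℂ M ∧ σ ≠ 1 := by
  classical
  have hfin := Fintype.ofFinite R
  have : Fintype (Additive R) := inferInstanceAs (Fintype R)
  by_cases h : ∀ c : C, actWts ρ R ⟨(c : X), hCR c.2⟩ = 1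
  · -- all weights are fixed
    have hfix : ∀ (c : C) (ψ : AddChar (Additive R) ℂ), wt ρ R ψ ≠ ⊥ →
        tw ⟨(c : X), hCR c.2⟩ ψ = ψ := by
      intro c ψ hψ
      have h1 := DFunLike.congr_fun (h c) ⟨ψ, hψ⟩
      exact congrArg Subtype.val h1
    have hstab : ∀ (c : C) (ψ : AddChar (Additive R) ℂ), ∀ v ∈ wt ρ R ψ, ρ (c : X) v ∈ wt ρ R ψ := by
      intro c ψ v hv
      by_cases hψ : wt ρ R ψ = ⊥
      · rw [hψ, Submodule.mem_bot] at hv
        rw [hv, map_zero]
        exact Submodule.zero_mem _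
      · have h1 := map_wt (ρ := ρ) (R := R) ⟨(c : X), hCR c.2⟩ hv
        rwa [hfix c ψ hψ] at h1
    -- the determinant
    have htriv : ∀ c : C, c ∈ commutator C → ∀ hc : (c : X) ∈ R, ρ (c : X) = 1 := by
      intro c hc hcR
      have h2 : ∀ ψ : AddChar (Additive R) ℂ, ∀ v ∈ wt ρ R ψ, ρ (c : X) v = v := by
        intro ψ v hv
        by_cases hψ : wt ρ R ψ = ⊥
        · rw [hψ, Submodule.mem_bot] at hv
          rw [hv, map_zero]
        · let σ : C →* (wt ρ R ψ →ₗ[ℂ] wt ρ R ψ) :=
            { toFun := fun c => (ρ (c : X)).restrict (hstab c ψ)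
              map_one' := by
                ext v
                simp only [_root_.OneMemClass.coe_one, _root_.map_one, _root_.LinearMap.coe_restrict_apply, _root_.Module.End.one_apply]
              map_mul' := fun a b => by
                ext v
                simp only [_root_.Subgroup.coe_mul, _root_.map_mul, _root_.LinearMap.coe_restrict_apply, _root_.Module.End.mul_apply] }
          let δ : C →* ℂˣ := MonoidHom.toHomUnits ((LinearMap.det : _ →* ℂ).comp σ)
          have h3 : δ c = 1 := Abelianization.commutator_subset_ker δ hc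
          have h4 : LinearMap.det (σ c) = 1 := congrArg Units.val h3
          have h5 : σ c = ψ (Additive.ofMul ⟨c, hcR⟩) • (1 : wt ρ R ψ →ₗ[ℂ] wt ρ R ψ) := by
            apply LinearMap.ext
            intro w
            apply Subtype.ext
            exact mem_wt.1 w.2 ⟨c, hcR⟩
          rw [h5, LinearMap.det_smul, map_one, mul_one] at h4
          have h6 : ψ (Additive.ofMul ⟨c, hcR⟩) ^ (Nat.card R) = 1 := by
            rw [← AddChar.map_nsmul_eq_pow, ← ofMul_pow, pow_card_eq_one', ofMul_one,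
              AddChar.map_zero_eq_one]
          have h7 : orderOf (ψ (Additive.ofMul ⟨c, hcR⟩)) = 1 := by
            apply Nat.eq_one_of_dvd_coprimes hcop
            · exact (orderOf_dvd_of_pow_eq_one h4).trans (finrank_wt_dvd N hNR hirr hψ)
            · exact orderOf_dvd_of_pow_eq_one h6
          rw [orderOf_eq_one_iff] at h7
          have h8 := mem_wt.1 hv ⟨c, hcR⟩
          rw [h7, one_smul] at h8
          exact h8
      apply LinearMap.ext
      intro v
      show ρ (c : X) v = v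
      conv_rhs => rw [← (act ρ R).sum_proj v]
      conv_lhs => rw [← (act ρ R).sum_proj v]
      rw [map_sum]
      exact Finset.sum_congr rfl fun ψ _ => h2 ψ _ ((act ρ R).proj_mem ψ v)
    -- descend
    let π' : commutator C →* T := π.comp (commutator C).subtype
    have hπ' : Function.Surjective π' := by
      rw [← MonoidHom.range_eq_top, MonoidHom.range_comp, Subgroup.range_subtype, ← hT,
        commutator_def, map_commutator, commutator_def, ← MonoidHom.range_eq_map,
        MonoidHom.range_eq_top.2 hπ]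
    let g : commutator C →* (M →ₗ[ℂ] M)ˣ :=
      MonoidHom.toHomUnits ((ρ : X →* _).comp (C.subtype.comp (commutator C).subtype))
    obtain ⟨g', hg'⟩ := exists_lift π' hπ' g (by
      intro a ha
      apply Units.ext
      exact htriv a a.2 ((hker a).1 ha))
    rw [← map_subtype_commutator] at hy
    obtain ⟨y', hy', rfl⟩ := hy
    let σ : T →* (M →ₗ[ℂ] M) := (Units.coeHom _).comp g'
    have h9 : σ (π y') ≠ 1 := by
      intro h0
      apply hyM
      have h10 : g' (π' ⟨y', hy'⟩) = g ⟨y', hy'⟩ := hg' _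
      have h11 : ((g' (π y') : (M →ₗ[ℂ] M)ˣ) : M →ₗ[ℂ] M) = ρ (y' : X) := congrArg Units.val h10
      exact h11.symm.trans h0
    obtain ⟨τ, hτ⟩ := exists_GL σ h9 rfl
    exact ⟨_, τ, le_rfl, fun h0 => hτ (by rw [h0]; rfl)⟩
  · push Not at h
    obtain ⟨c, hc⟩ := h
    let g : C →* Equiv.Perm (Wts ρ R) := (actWts ρ R).comp (Subgroup.inclusion hCR)
    obtain ⟨g', hg'⟩ := exists_lift π hπ g (by
      intro a ha
      ext ψ : 1
      exact Subtype.ext (tw_of_mem _ ((hker a).1 ha) _))
    have h1 : g' (π c) ≠ 1 := by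
      rw [hg']
      exact hc
    obtain ⟨τ, hτ⟩ := exists_GL_of_perm g' h1
    exact ⟨_, τ, card_Wts_le ρ R, fun h0 => hτ (by rw [h0]; rfl)⟩

end Cfsg.Agent.H715.Weights
end

-- part: H715/MainCase
section
/-!
# The main case (helper715)
-/

set_option autoImplicit false
set_option linter.unusedSectionVars false

namespace Cfsg.Agent.H715

open Subgroup Cfsg.Agent.H386.Factor Module
open scoped commutatorElement

universe u

theorem commutator_simple {S : Type*} [Group S] [IsSimpleGroup S] (hS : ∃ a b : S, a * b ≠ b * a) :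
    commutator S = ⊤ := by
  rcases IsSimpleGroup.eq_bot_or_eq_top_of_normal (commutator S) inferInstance with h | h
  · exfalso
    obtain ⟨a, b, hab⟩ := hS
    apply hab
    have h1 : ⁅a, b⁆ ∈ commutator S := commutator_mem_commutator (mem_top a) (mem_top b)
    rw [h, mem_bot, commutatorElement_eq_one_iff_mul_comm] at h1
    exact h1
  · exact h

theorem commutator_pow {Y S : Type*} [Group Y] [Group S] [IsSimpleGroup S]
    (hS : ∃ a b : S, a * b ≠ b * a) {n : ℕ} (e : Y ≃* (Fin n → S)) : commutator Y = ⊤ := by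
  have h1 : commutator (Fin n → S) = ⊤ := by
    have h2 := commutator_pi_pi_of_finite (η := Fin n) (Gs := fun _ => S) (fun _ => ⊤) (fun _ => ⊤)
    rw [pi_top] at h2
    rw [commutator_def, h2]
    have h3 : (fun _ : Fin n => ⁅(⊤ : Subgroup S), (⊤ : Subgroup S)⁆) = fun _ => ⊤ := by
      funext i
      rw [← commutator_def, commutator_simple hS]
    rw [h3, pi_top]
  have h4 : (commutator (Fin n → S)).map (e.symm : (Fin n → S) →* Y) = commutator Y := by
    rw [commutator_def, map_commutator, commutator_def, ← MonoidHom.range_eq_map,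
      MonoidHom.range_eq_top.2 e.symm.surjective]
  rw [← h4, h1, ← MonoidHom.range_eq_map, MonoidHom.range_eq_top.2 e.symm.surjective]

variable {G : Type u} [Group G] [Finite G]

section defs

variable (H Z Q : Subgroup G) [hQn : Q.Normal] (T : Subgroup (G ⧸ Q))

/-- the part of `Z` over `T` -/
def YY : Subgroup G := Z ⊓ T.comap (QuotientGroup.mk' Q)

/-- the part of `Z` centralizing `T` -/
def BB : Subgroup G := Z ⊓ (centralizer (T : Set (G ⧸ Q))).comap (QuotientGroup.mk' Q)

/-- the normalizer of `T` in `H` -/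
def NN : Subgroup G := H ⊓ (normalizer (T : Set (G ⧸ Q))).comap (QuotientGroup.mk' Q)

variable {H Z Q T}

theorem mem_YY {x : G} : x ∈ YY Z Q T ↔ x ∈ Z ∧ QuotientGroup.mk' Q x ∈ T := Iff.rfl

theorem mem_BB {x : G} : x ∈ BB Z Q T ↔ x ∈ Z ∧ ∀ t ∈ T, t * QuotientGroup.mk' Q x =
    QuotientGroup.mk' Q x * t := by
  show x ∈ Z ∧ QuotientGroup.mk' Q x ∈ centralizer (T : Set (G ⧸ Q)) ↔ _
  rw [mem_centralizer_iff]
  rfl

theorem mem_NN {x : G} : x ∈ NN H Q T ↔ x ∈ H ∧ QuotientGroup.mk' Q x ∈ normalizer (T : Set (G ⧸ Q)) :=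
  Iff.rfl

theorem mem_NN_of {x : G} (hx : x ∈ H) (h : ∀ t ∈ T, QuotientGroup.mk' Q x * t *
    (QuotientGroup.mk' Q x)⁻¹ ∈ T) : x ∈ NN H Q T := by
  refine ⟨hx, ?_⟩
  have h2 : T.map (MulAut.conj (QuotientGroup.mk' Q x)).toMonoidHom ≤ T := by
    rintro _ ⟨y, hy, rfl⟩
    exact h y hy
  have h3 : T.map (MulAut.conj (QuotientGroup.mk' Q x)).toMonoidHom = T :=
    Subgroup.eq_of_le_of_card_ge h2
      (le_of_eq (Nat.card_congr (T.equivMapOfInjective (MulAut.conj (QuotientGroup.mk' Q x)).toMonoidHom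
        (MulAut.conj (QuotientGroup.mk' Q x)).injective).toEquiv))
  show QuotientGroup.mk' Q x ∈ normalizer (T : Set (G ⧸ Q))
  rw [mem_normalizer_iff]
  intro y
  refine ⟨fun hy => h y hy, fun hy => ?_⟩
  rw [← h3] at hy
  obtain ⟨w, hw, hwy⟩ := hy
  have h4 : w = y := (MulAut.conj (QuotientGroup.mk' Q x)).injective hwy
  rwa [← h4]

variable (H Q T)

/-- `N_H(T)` as a group of automorphisms of `T` -/
def phi : NN H Q T →* MulAut T :=
  T.normalizerMonoidHom.comp
    (((QuotientGroup.mk' Q).comp (NN H Q T).subtype).codRestrict (normalizer (T : Set (G ⧸ Q)))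
      (fun n => (mem_NN.1 n.2).2))

variable {H Q T}

theorem phi_apply (n : NN H Q T) (t : T) : ((phi H Q T n t : T) : G ⧸ Q) =
    QuotientGroup.mk' Q n * t * (QuotientGroup.mk' Q n)⁻¹ := rfl

end defs

namespace Sit

variable {H Z L Q : Subgroup G} [hQn : Q.Normal] {T : Subgroup (G ⧸ Q)}

theorem Z_le_NN (s : Sit H Z L Q T) : Z ≤ NN H Q T := by
  intro z hz
  exact mem_NN_of (s.hZH hz) (fun t ht => s.hT.norm _ (mem_map_of_mem _ (s.hZL hz)) t ht)

theorem YY_le (s : Sit H Z L Q T) : YY Z Q T ≤ NN H Q T := inf_le_left.trans s.Z_le_NN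

theorem BB_le (s : Sit H Z L Q T) : BB Z Q T ≤ NN H Q T := inf_le_left.trans s.Z_le_NN

theorem YY_norm (s : Sit H Z L Q T) : ∀ n ∈ NN H Q T, ∀ y ∈ YY Z Q T, n * y * n⁻¹ ∈ YY Z Q T := by
  intro n hn y hy
  rw [mem_YY] at hy ⊢
  refine ⟨s.hZn n hn.1 y hy.1, ?_⟩
  rw [map_mul, map_mul, map_inv]
  exact (mem_normalizer_iff.1 hn.2 _).1 hy.2

theorem BB_norm (s : Sit H Z L Q T) : ∀ n ∈ NN H Q T, ∀ y ∈ BB Z Q T, n * y * n⁻¹ ∈ BB Z Q T := by
  intro n hn y hy
  rw [mem_BB] at hy ⊢
  refine ⟨s.hZn n hn.1 y hy.1, fun t ht => ?_⟩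
  rw [map_mul, map_mul, map_inv]
  have h1 : (QuotientGroup.mk' Q n)⁻¹ * t * QuotientGroup.mk' Q n ∈ T := by
    have h2 := (mem_normalizer_iff.1 ((normalizer (T : Set (G ⧸ Q))).inv_mem hn.2) t).1 ht
    rwa [inv_inv] at h2
  have h3 := hy.2 _ h1
  generalize QuotientGroup.mk' Q n = a at *
  generalize QuotientGroup.mk' Q y = b at *
  have h4 : t * (a * b * a⁻¹) = a * (a⁻¹ * t * a * b) * a⁻¹ := by group
  have h5 : a * b * a⁻¹ * t = a * (b * (a⁻¹ * t * a)) * a⁻¹ := by group
  rw [h4, h5, h3]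

theorem out (s : Sit H Z L Q T) : ∀ h ∈ H, h ∉ NN H Q T → ∀ y ∈ YY Z Q T, h * y * h⁻¹ ∈ BB Z Q T := by
  intro h hh hN y hy
  rcases s.hT.conj (QuotientGroup.mk' Q h) with h1 | h1
  · exact absurd (mem_NN_of hh h1) hN
  · rw [mem_YY] at hy
    rw [mem_BB]
    refine ⟨s.hZn h hh y hy.1, fun t ht => ?_⟩
    rw [map_mul, map_mul, map_inv]
    exact h1 t ht _ hy.2

/-- a Hall subgroup is not contained properly in a subgroup of order dividing `|H|` -/
theorem le_Yb (s : Sit H Z L Q T) (X : Subgroup T) (hX : (Z.map (QuotientGroup.mk' Q)).subgroupOf T ≤ X)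
    (hc : Nat.card X ∣ Nat.card H) : X ≤ (Z.map (QuotientGroup.mk' Q)).subgroupOf T := by
  rw [← relIndex_eq_one]
  apply Nat.eq_one_of_dvd_coprimes s.hH
  · exact (relIndex_dvd_card _ _).trans hc
  · refine Dvd.dvd.trans ?_ s.relIndex_T
    show _ ∣ ((Z.map (QuotientGroup.mk' Q)).subgroupOf T).index
    rw [← relIndex_mul_index hX]
    exact Dvd.intro _ rfl

theorem simple (s : Sit H Z L Q T) : IsSimpleGroup T := by
  have : Nontrivial T := by
    rw [Subgroup.nontrivial_iff_ne_bot]
    exact s.hT.ne_bot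
  constructor
  intro K hK
  rcases s.hT.simple (K.map T.subtype) (map_subtype_le K) (by
    rintro t ht _ ⟨k, hk, rfl⟩
    exact ⟨(⟨t, ht⟩ * k * ⟨t, ht⟩⁻¹ :), hK.conj_mem k hk ⟨t, ht⟩, rfl⟩) with h | h
  · left
    exact (Subgroup.map_eq_bot_iff_of_injective K T.subtype_injective).1 h
  · right
    rw [eq_top_iff]
    intro t _
    have h1 : (t : G ⧸ Q) ∈ K.map T.subtype := by rw [h]; exact t.2
    obtain ⟨k, hk, hkt⟩ := h1
    have h2 : k = t := Subtype.ext hkt
    rwa [← h2]

theorem nonab (s : Sit H Z L Q T) : ∃ a b : T, a * b ≠ b * a := by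
  by_contra hcon
  push Not at hcon
  apply s.hT.ne_bot
  rw [eq_bot_iff]
  intro z hz
  rw [mem_bot]
  exact s.hT.centerless z hz (fun t ht => congrArg Subtype.val (hcon ⟨z, hz⟩ ⟨t, ht⟩))

theorem conj_inj (s : Sit H Z L Q T) : Function.Injective (MulAut.conj : T →* MulAut T) := by
  rw [injective_iff_map_eq_one]
  intro t ht
  apply Subtype.ext
  apply s.hT.centerless t t.2
  intro u hu
  have h1 := DFunLike.congr_fun ht (⟨u, hu⟩ : T)
  have h2 : (t : G ⧸ Q) * u * (t : G ⧸ Q)⁻¹ = u := congrArg Subtype.val h1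
  exact mul_inv_eq_iff_eq_mul.1 h2

theorem YY_equiv (s : Sit H Z L Q T) :
    Nonempty (((YY Z Q T).subgroupOf H) ≃* ((Z.map (QuotientGroup.mk' Q)).subgroupOf T)) := by
  let g : (YY Z Q T).subgroupOf H →* ((Z.map (QuotientGroup.mk' Q)).subgroupOf T) :=
    { toFun := fun y => ⟨⟨QuotientGroup.mk' Q ((y : H) : G), (mem_YY.1 y.2).2⟩,
        mem_map_of_mem _ (mem_YY.1 y.2).1⟩
      map_one' := by
        apply Subtype.ext
        apply Subtype.ext
        exact map_one (QuotientGroup.mk' Q)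
      map_mul' := fun a b => by
        apply Subtype.ext
        apply Subtype.ext
        exact map_mul (QuotientGroup.mk' Q) _ _ }
  refine ⟨MulEquiv.ofBijective g ⟨?_, ?_⟩⟩
  · intro a b hab
    apply Subtype.ext
    apply Subtype.ext
    have h1 : QuotientGroup.mk' Q ((a : H) : G) = QuotientGroup.mk' Q ((b : H) : G) :=
      congrArg Subtype.val (congrArg Subtype.val hab)
    exact s.mk_inj (a : H).2 (b : H).2 h1
  · rintro ⟨⟨t, ht⟩, ⟨z, hz, hzt⟩⟩
    refine ⟨⟨⟨z, s.hZH hz⟩, ?_⟩, ?_⟩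
    · show z ∈ YY Z Q T
      rw [mem_YY]
      refine ⟨hz, ?_⟩
      have h1 : QuotientGroup.mk' Q z = t := hzt
      rw [h1]
      exact ht
    · apply Subtype.ext
      apply Subtype.ext
      exact hzt

/-- The hypotheses on `Z` inside `H`. -/
structure ZMin (H Z : Subgroup G) : Prop where
  normal : (Z.subgroupOf H).Normal
  min : ∀ M : Subgroup H, M.Normal → M ≤ Z.subgroupOf H → M = ⊥ ∨ M = Z.subgroupOf H
  na : ¬ ∀ x ∈ Z.subgroupOf H, ∀ y ∈ Z.subgroupOf H, Commute x y

theorem YY_pow (s : Sit H Z L Q T) (hZ : ZMin H Z) :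
    ∃ (n : ℕ) (S : Subgroup H), IsSimpleGroup S ∧ (∃ a b : S, a * b ≠ b * a) ∧
      Nonempty ((YY Z Q T).subgroupOf H ≃* (Fin n → S)) := by
  have := hZ.normal
  refine exists_dirpow (Z.subgroupOf H) hZ.min hZ.na _ ?_ ?_
  · intro x hx
    exact (mem_YY.1 hx).1
  · refine le_normalizer_of ?_
    intro n hn r hr
    exact s.YY_norm n (s.Z_le_NN hn) r hr

theorem exists_omega (s : Sit H Z L Q T) (hZ : ZMin H Z)
    (hPB : Cfsg.Agent.H324.Hall.PartB.{u}) (hT : ¬ T ≤ Z.map (QuotientGroup.mk' Q)) :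
    ∃ (m : ℕ) (ω : Representation ℂ (NN H Q T) (Fin m → ℂ)), ω.IsIrreducible ∧
      (∀ b, ∀ hb : b ∈ BB Z Q T, ω ⟨b, s.BB_le hb⟩ = 1) ∧
      (∃ y, ∃ hy : y ∈ YY Z Q T, ω ⟨y, s.YY_le hy⟩ ≠ 1) ∧ m ∣ Nat.card H ∧
      ∀ (k : ℕ) (σ : T →* Matrix.GeneralLinearGroup (Fin k) ℂ), σ ≠ 1 → m < k := by
  classical
  have hsimple := s.simple
  obtain ⟨n, S, hS1, hS2, ⟨e0⟩⟩ := s.YY_pow hZ
  obtain ⟨e1⟩ := s.YY_equiv
  let Y' : Subgroup T := (Z.map (QuotientGroup.mk' Q)).subgroupOf T
  let A : Subgroup (MulAut T) := (phi H Q T).range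
  have hNH : Nat.card (NN H Q T) ∣ Nat.card H := card_dvd_of_le inf_le_left
  have hAN : Nat.card A ∣ Nat.card H := (Subgroup.card_range_dvd (phi H Q T)).trans hNH
  have hlift : ∀ y : T, y ∈ Y' → ∃ z, ∃ hz : z ∈ YY Z Q T,
      phi H Q T ⟨z, s.YY_le hz⟩ = MulAut.conj y := by
    rintro ⟨t, ht⟩ ⟨z, hz, hzt⟩
    have h1 : QuotientGroup.mk' Q z = t := hzt
    refine ⟨z, mem_YY.2 ⟨hz, by rw [h1]; exact ht⟩, ?_⟩
    apply MulEquiv.ext
    intro u
    apply Subtype.ext
    rw [phi_apply]
    show QuotientGroup.mk' Q z * u * (QuotientGroup.mk' Q z)⁻¹ = t * u * t⁻¹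
    rw [h1]
  have hA1 : ∀ y ∈ Y', MulAut.conj y ∈ A := by
    intro y hy
    obtain ⟨z, hz, h⟩ := hlift y hy
    exact ⟨_, h⟩
  have hY1 : Y' ≠ ⊥ := by
    intro h0
    apply s.Yb_ne_bot
    rw [eq_bot_iff]
    rintro t ⟨ht1, ht2⟩
    have h1 : (⟨t, ht2⟩ : T) ∈ Y' := ht1
    rw [h0, mem_bot] at h1
    exact mem_bot.2 (congrArg Subtype.val h1)
  have hYT : Y' ≠ ⊤ := by
    intro h0
    apply hT
    intro t ht
    have h1 : (⟨t, ht⟩ : T) ∈ Y' := by rw [h0]; exact mem_top _
    exact h1
  have hYc : Nat.card Y' ∣ Nat.card H := by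
    rw [← Nat.card_congr e1.toEquiv]
    exact Subgroup.card_subgroup_dvd_card _
  have hYi : Y'.index ∣ H.index := s.relIndex_T
  have hcop : (Nat.card Y').Coprime Y'.index :=
    Nat.Coprime.coprime_dvd_left hYc (Nat.Coprime.coprime_dvd_right hYi s.hH)
  have hA2 : ∀ t : T, MulAut.conj t ∈ A → t ∈ Y' := by
    have h1 : A.comap (MulAut.conj : T →* MulAut T) ≤ Y' := by
      apply s.le_Yb
      · exact fun y hy => hA1 y hy
      · refine Dvd.dvd.trans ?_ hAN
        have h2 : Nat.card (A.comap (MulAut.conj : T →* MulAut T)) =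
            Nat.card ((A.comap (MulAut.conj : T →* MulAut T)).map (MulAut.conj : T →* MulAut T)) :=
          Nat.card_congr ((A.comap (MulAut.conj : T →* MulAut T)).equivMapOfInjective _ s.conj_inj).toEquiv
        rw [h2]
        exact card_dvd_of_le (map_comap_le _ _)
    exact fun t ht => h1 ht
  have hA3 : ∀ a ∈ A, ∀ y ∈ Y', a y ∈ Y' := by
    rintro _ ⟨n, rfl⟩ ⟨t, ht⟩ ⟨z, hz, hzt⟩
    refine ⟨n * z * (n : G)⁻¹, s.hZn n n.2.1 z hz, ?_⟩
    have h1 : QuotientGroup.mk' Q z = t := hzt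
    rw [map_mul, map_mul, map_inv, h1]
    rfl
  have hA4 : (Nat.card A).Coprime Y'.index :=
    Nat.Coprime.coprime_dvd_left hAN (Nat.Coprime.coprime_dvd_right hYi s.hH)
  obtain ⟨d, ρ0, ⟨y, hy, hρy⟩, hbd⟩ := hPB T s.nonab Y' hY1 hYT hcop n S hS2 ⟨e1.symm.trans e0⟩ A
    hA1 hA2 hA3 hA4
  -- a linear representation of `A`
  let ρ1 : Representation ℂ A (Fin d → ℂ) :=
    { toFun := fun a => Matrix.toLin' ((ρ0 a : Matrix (Fin d) (Fin d) ℂ))
      map_one' := by
        rw [map_one, Units.val_one, Matrix.toLin'_one]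
        rfl
      map_mul' := fun a b => by
        rw [map_mul, Units.val_mul, Matrix.toLin'_mul]
        rfl }
  have hρ1 : ρ1 ⟨MulAut.conj y, hA1 y hy⟩ ≠ 1 := by
    intro h0
    apply hρy
    apply Units.ext
    apply Matrix.toLin'.injective
    refine Eq.trans h0 ?_
    rw [Units.val_one, Matrix.toLin'_one]
    rfl
  obtain ⟨m, hm, τ, hτ, hτy⟩ := exists_irr ρ1 _ hρ1
  rw [Module.finrank_fin_fun] at hm
  refine ⟨m, τ.comp (phi H Q T).rangeRestrict, irr_comp_surj _ (phi H Q T).rangeRestrict_surjective τ hτ,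
    ?_, ?_, ?_, ?_⟩
  · intro b hb
    show τ ((phi H Q T).rangeRestrict ⟨b, s.BB_le hb⟩) = 1
    have h1 : (phi H Q T).rangeRestrict ⟨b, s.BB_le hb⟩ = 1 := by
      apply Subtype.ext
      apply MulEquiv.ext
      intro t
      apply Subtype.ext
      show QuotientGroup.mk' Q b * t * (QuotientGroup.mk' Q b)⁻¹ = t
      rw [← (mem_BB.1 hb).2 t t.2, mul_inv_cancel_right]
    rw [h1, map_one]
  · obtain ⟨z, hz, hzy⟩ := hlift y hy
    refine ⟨z, hz, ?_⟩
    show τ ((phi H Q T).rangeRestrict ⟨z, s.YY_le hz⟩) ≠ 1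
    have h1 : (phi H Q T).rangeRestrict ⟨z, s.YY_le hz⟩ = ⟨MulAut.conj y, hA1 y hy⟩ :=
      Subtype.ext hzy
    rw [h1]
    exact hτy
  · have h1 := Cfsg.Agent.S0135.result τ
    rw [Module.finrank_fin_fun] at h1
    exact h1.trans hAN
  · intro k σ hσ
    exact lt_of_le_of_lt hm (hbd k σ hσ)

/-- the centralizer of `B` covers `T` -/
theorem exists_cent (s : Sit H Z L Q T) {t : G ⧸ Q} (ht : t ∈ T) :
    ∃ x ∈ L, QuotientGroup.mk' Q x = t ∧ ∀ b ∈ BB Z Q T, b * x = x * b := by
  obtain ⟨x, hx, hxt⟩ := s.hT.le ht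
  have hcop : (Nat.card (BB Z Q T)).Coprime (Nat.card Q) :=
    Nat.Coprime.coprime_dvd_left (card_dvd_of_le (inf_le_left.trans s.hZH)) s.hQH
  obtain ⟨q, hq, h⟩ := conj_hom Q s.hQab hcop (BB Z Q T).subtype
    ((MulAut.conj x).toMonoidHom.comp (BB Z Q T).subtype) (by
      intro b
      show x * b * x⁻¹ * (b : G)⁻¹ ∈ Q
      rw [← QuotientGroup.eq_one_iff]
      show QuotientGroup.mk' Q (x * b * x⁻¹ * (b : G)⁻¹) = 1
      rw [map_mul, map_mul, map_mul, map_inv, map_inv]
      have h1 : QuotientGroup.mk' Q x ∈ T := by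
        have h2 : QuotientGroup.mk' Q x = t := hxt
        rw [h2]; exact ht
      rw [(mem_BB.1 b.2).2 _ h1, mul_inv_cancel_right, mul_inv_cancel])
  refine ⟨q⁻¹ * x, L.mul_mem (L.inv_mem (s.hQL hq)) hx, ?_, ?_⟩
  · rw [map_mul, map_inv]
    have h1 : QuotientGroup.mk' Q q = 1 := (QuotientGroup.eq_one_iff q).2 hq
    rw [h1, inv_one, one_mul]
    exact hxt
  · intro b hb
    have h1 : x * b * x⁻¹ = q * b * q⁻¹ := h ⟨b, hb⟩
    have h2 : x * b = q * b * q⁻¹ * x := by rw [← h1]; group
    rw [mul_assoc, h2]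
    group

theorem YY_perfect (s : Sit H Z L Q T) (hZ : ZMin H Z) : YY Z Q T ≤ ⁅YY Z Q T, YY Z Q T⁆ := by
  obtain ⟨n, S, hS1, hS2, ⟨e0⟩⟩ := s.YY_pow hZ
  have h1 := commutator_pow hS2 e0
  have hle : YY Z Q T ≤ H := inf_le_left.trans s.hZH
  have h2 : ((YY Z Q T).subgroupOf H).map H.subtype = YY Z Q T := by
    rw [subgroupOf_map_subtype, inf_eq_left.2 hle]
  have h3 := map_subtype_commutator ((YY Z Q T).subgroupOf H)
  rw [h1, ← MonoidHom.range_eq_map, range_subtype] at h3
  rw [← h2, ← map_commutator, ← h3]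

theorem false (s : Sit H Z L Q T) (hZ : ZMin H Z)
    (hPB : Cfsg.Agent.H324.Hall.PartB.{u}) (hT : ¬ T ≤ Z.map (QuotientGroup.mk' Q)) : False := by
  classical
  have hsimple := s.simple
  obtain ⟨m, ω, hω, hωB, hωY, hm, hbd⟩ := s.exists_omega hZ hPB hT
  obtain ⟨n, τ, j, hτ, hj0, hj⟩ := exists_over (inf_le_left : NN H Q T ≤ H) ω hω
  obtain ⟨ρ, hρ⟩ := s.hE.exists_rep τ hτ
  have hρH : Representation.IsIrreducible (ρ.comp H.subtype : Representation ℂ H (Fin n → ℂ)) := by
    have : (ρ.comp H.subtype : Representation ℂ H (Fin n → ℂ)) = τ := by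
      ext h : 1
      exact hρ h
    rw [this]
    exact hτ
  have hj' : ∀ (x : NN H Q T) (w : Fin m → ℂ), j (ω x w) = ρ (x : G) (j w) := by
    intro x w
    exact (hj x w).trans (LinearMap.congr_fun (hρ ⟨(x : G), x.2.1⟩) (j w)).symm
  have hjinj : Function.Injective j := by
    rw [← LinearMap.ker_eq_bot]
    let S : Subrepresentation ω := ⟨LinearMap.ker j, fun x w hw => by
      rw [LinearMap.mem_ker] at hw ⊢
      rw [hj', hw, map_zero]⟩
    rcases hω.eq_bot_or_eq_top S with h | h
    · exact congrArg Subrepresentation.toSubmodule h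
    · exfalso
      apply hj0
      have h2 : LinearMap.ker j = ⊤ := congrArg Subrepresentation.toSubmodule h
      exact LinearMap.ker_eq_top.1 h2
  -- the fixed points of `B`
  let M : Submodule ℂ (Fin n → ℂ) :=
    { carrier := {v | ∀ b ∈ BB Z Q T, ρ b v = v}
      add_mem' := fun {v w} hv hw b hb => by rw [map_add, hv b hb, hw b hb]
      zero_mem' := fun b hb => by rw [map_zero]
      smul_mem' := fun c v hv b hb => by rw [map_smul, hv b hb] }
  have hMmem : ∀ v, v ∈ M ↔ ∀ b ∈ BB Z Q T, ρ b v = v := fun v => Iff.rfl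
  have hMr : M = LinearMap.range j := by
    apply le_antisymm
    · intro v hv
      exact mem_range_of_fixed ρ hρH s.BB_le s.YY_le s.YY_norm ω hω hωB hωY s.out j hj' hj0 hv
    · rintro _ ⟨w, rfl⟩ b hb
      have h1 := hj' ⟨b, s.BB_le hb⟩ w
      rw [hωB b hb] at h1
      exact h1.symm
  let X : Subgroup G := normalizer ((BB Z Q T : Subgroup G) : Set G)
  have hXM : ∀ x : X, ∀ v ∈ M, (ρ.comp X.subtype : Representation ℂ X (Fin n → ℂ)) x v ∈ M := by
    intro x v hv b hb
    have h1 : (x : G)⁻¹ * b * x ∈ BB Z Q T := by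
      have h2 := (mem_normalizer_iff.1 (X.inv_mem x.2) b).1 hb
      rwa [inv_inv] at h2
    show ρ b (ρ (x : G) v) = ρ (x : G) v
    have h3 : ρ b (ρ (x : G) v) = ρ (x : G) (ρ ((x : G)⁻¹ * b * x) v) := by
      rw [← Module.End.mul_apply, ← Module.End.mul_apply, ← map_mul, ← map_mul]
      congr 2
      group
    rw [h3, hv _ h1]
  let ρM : Representation ℂ X M := H120.subRep (ρ.comp X.subtype : Representation ℂ X (Fin n → ℂ)) M hXM
  have hNX : NN H Q T ≤ X := le_normalizer_of s.BB_norm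
  let N' : Subgroup X := (NN H Q T).subgroupOf X
  -- the equivalence of `W` and `M`
  let jM : (Fin m → ℂ) ≃ₗ[ℂ] M :=
    (LinearEquiv.ofInjective j hjinj).trans (LinearEquiv.ofEq _ _ hMr.symm)
  have hjM : ∀ w, ((jM w : M) : Fin n → ℂ) = j w := fun w => rfl
  let eN : N' ≃* NN H Q T := subgroupOfEquivOfLe hNX
  have hNirr : Representation.IsIrreducible (ρM.comp N'.subtype : Representation ℂ N' M) := by
    have h1 : Representation.IsIrreducible (ω.comp (eN : N' →* NN H Q T) :
        Representation ℂ N' (Fin m → ℂ)) := irr_comp_surj _ eN.surjective ω hω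
    refine Characters.Core.isIrreducible_of_equiv (Representation.Equiv.mk jM ?_) h1
    intro x
    apply LinearMap.ext
    intro w
    apply Subtype.ext
    exact hj' (eN x) w
  -- the groups `C` and `R`
  let C : Subgroup G := (L ⊓ T.comap (QuotientGroup.mk' Q)) ⊓ centralizer ((BB Z Q T : Subgroup G) : Set G)
  let R : Subgroup G := Q ⊓ centralizer ((BB Z Q T : Subgroup G) : Set G)
  have hCmem : ∀ x, x ∈ C ↔ (x ∈ L ∧ QuotientGroup.mk' Q x ∈ T) ∧ ∀ b ∈ BB Z Q T, b * x = x * b := by
    intro x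
    rw [mem_inf, mem_centralizer_iff]
    rfl
  have hRmem : ∀ x, x ∈ R ↔ x ∈ Q ∧ ∀ b ∈ BB Z Q T, b * x = x * b := by
    intro x
    rw [mem_inf, mem_centralizer_iff]
    rfl
  have hXcent : ∀ x ∈ X, ∀ c, (∀ b ∈ BB Z Q T, b * c = c * b) →
      ∀ b ∈ BB Z Q T, b * (x * c * x⁻¹) = x * c * x⁻¹ * b := by
    intro x hx c hc b hb
    have h1 : x⁻¹ * b * x ∈ BB Z Q T := by
      have h2 := (mem_normalizer_iff.1 (X.inv_mem hx) b).1 hb
      rwa [inv_inv] at h2
    have h3 := hc _ h1
    have h4 : b * (x * c * x⁻¹) = x * (x⁻¹ * b * x * c) * x⁻¹ := by group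
    have h5 : x * c * x⁻¹ * b = x * (c * (x⁻¹ * b * x)) * x⁻¹ := by group
    rw [h4, h5, h3]
  have hXR : ∀ x ∈ X, ∀ r ∈ R, x * r * x⁻¹ ∈ R := by
    intro x hx r hr
    rw [hRmem] at hr ⊢
    exact ⟨hQn.conj_mem r hr.1 x, hXcent x hx r hr.2⟩
  have hCX : C ≤ X := inf_le_right.trans (centralizer_le_normalizer _)
  have hRC : R ≤ C := by
    intro r hr
    rw [hRmem] at hr
    rw [hCmem]
    refine ⟨⟨s.hQL hr.1, ?_⟩, hr.2⟩
    rw [show QuotientGroup.mk' Q r = 1 from (QuotientGroup.eq_one_iff r).2 hr.1]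
    exact T.one_mem
  let C' : Subgroup X := C.subgroupOf X
  let R' : Subgroup X := R.subgroupOf X
  have hR'n : (⊤ : Subgroup X) ≤ normalizer ((R' : Subgroup X) : Set X) :=
    le_normalizer_of (fun x _ r hr => hXR x x.2 r hr)
  have hR'c : IsMulCommutative R' := by
    refine ⟨⟨fun a b => ?_⟩⟩
    apply Subtype.ext
    apply Subtype.ext
    exact s.hQab _ ((hRmem _).1 a.2).1 _ ((hRmem _).1 b.2).1
  have hfr : finrank ℂ M = m := by
    rw [← jM.finrank_eq, Module.finrank_fin_fun]
  have hcop : (finrank ℂ M).Coprime (Nat.card R') := by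
    rw [hfr]
    refine Nat.Coprime.coprime_dvd_left hm (Nat.Coprime.coprime_dvd_right ?_ s.hQH)
    rw [Nat.card_congr (subgroupOfEquivOfLe (hRC.trans hCX)).toEquiv]
    exact card_dvd_of_le inf_le_left
  let π : C' →* T :=
    { toFun := fun c => ⟨QuotientGroup.mk' Q ((c : X) : G), ((hCmem _).1 c.2).1.2⟩
      map_one' := Subtype.ext (map_one (QuotientGroup.mk' Q))
      map_mul' := fun a b => Subtype.ext (map_mul (QuotientGroup.mk' Q) _ _) }
  have hπ : Function.Surjective π := by
    rintro ⟨t, ht⟩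
    obtain ⟨x, hxL, hxt, hxb⟩ := s.exists_cent ht
    have hxC : x ∈ C := (hCmem x).2 ⟨⟨hxL, by rw [hxt]; exact ht⟩, hxb⟩
    exact ⟨⟨⟨x, hCX hxC⟩, hxC⟩, Subtype.ext hxt⟩
  have hker : ∀ c : C', π c = 1 ↔ (c : X) ∈ R' := by
    intro c
    constructor
    · intro h
      have h1 : QuotientGroup.mk' Q ((c : X) : G) = 1 := congrArg Subtype.val h
      exact (hRmem _).2 ⟨(QuotientGroup.eq_one_iff _).1 h1, ((hCmem _).1 c.2).2⟩
    · intro h
      apply Subtype.ext
      exact (QuotientGroup.eq_one_iff _).2 ((hRmem _).1 h).1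
  -- the element of `Y`
  obtain ⟨y, hy, hyω⟩ := hωY
  have hYC : YY Z Q T ≤ C := by
    intro x hx
    rw [hCmem]
    refine ⟨⟨s.hZL hx.1, (mem_YY.1 hx).2⟩, fun b hb => ?_⟩
    have hxH := s.hZH hx.1
    have hbH := s.hZH (mem_BB.1 hb).1
    apply s.mk_inj (H.mul_mem hbH hxH) (H.mul_mem hxH hbH)
    rw [map_mul, map_mul]
    exact ((mem_BB.1 hb).2 _ (mem_YY.1 hx).2).symm
  have hyX : y ∈ X := hCX (hYC hy)
  have hycomm : (⟨y, hyX⟩ : X) ∈ ⁅C', C'⁆ := by
    have h1 : y ∈ ⁅C, C⁆ := commutator_mono hYC hYC (s.YY_perfect hZ hy)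
    have h2 : (⁅C', C'⁆).map X.subtype = ⁅C, C⁆ := by
      rw [map_commutator]
      have h3 : C'.map X.subtype = C := by
        show (C.subgroupOf X).map X.subtype = C
        rw [subgroupOf_map_subtype, inf_eq_left.2 hCX]
      rw [h3]
    rw [← h2] at h1
    obtain ⟨x, hx, hxy⟩ := h1
    have h4 : x = ⟨y, hyX⟩ := Subtype.ext hxy
    rwa [← h4]
  have hyM : ρM ⟨y, hyX⟩ ≠ 1 := by
    intro h0
    apply hyω
    apply LinearMap.ext
    intro w
    apply hjinj
    rw [hj' ⟨y, s.YY_le hy⟩ w]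
    have h1 := LinearMap.congr_fun h0 (jM w)
    exact congrArg Subtype.val h1
  obtain ⟨k, σ, hk, hσ⟩ := Weights.exists_small_rep (ρ := ρM) (R := R') N' C' (le_top.trans hR'n)
    (le_top.trans hR'n) hNirr hcop π hπ hker (commutator_simple s.nonab) hycomm hyM
  have h2 := hbd k σ hσ
  rw [hfr] at hk
  omega

end Sit

end Cfsg.Agent.H715
end

private theorem dce_d113b8795ef1 : _root_.True := by
  try have : _root_.True := by simp only [_root_.Cfsg.Agent.H715.Weights.wt.congr_simp]
  try have : _root_.True := by simp only [_root_.Cfsg.Agent.H715.Weights.actWts.congr_simp]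
  exact _root_.True.intro
end
end
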